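import Groth.Agent.H16Derived.KFlat.Colim
import Mathlib.CategoryTheory.Functor.OfSequence

/-!
# Bounded above complexes of flat objects are K-flat
-/

set_option autoImplicit false

universe v v' v'' u u' u''

open CategoryTheory CategoryTheory.Limits

namespace Groth.Agent.H16Derived.KFlat

namespace Brutal

variable {B : Type u'} [Category.{v'} B] [Abelian B] (E : CochainComplex B ℤ) (a : ℤ)

/-- The terms of the brutal truncation `σ≥a E`. -/
noncomputable abbrev obj (q : ℤ) : B := ∐ fun _ : PLift (a ≤ q) => E.X q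

/-- The brutal truncation `σ≥a E`. -/
noncomputable def geq : CochainComplex B ℤ :=
  CochainComplex.of (obj E a)
    (fun q => Sigma.desc fun h => E.d q (q + 1) ≫
      Sigma.ι (fun _ : PLift (a ≤ q + 1) => E.X (q + 1)) ⟨h.down.trans (by omega)⟩)
    (fun q => Sigma.hom_ext _ _ fun h => by simp)

lemma ge_d (q : ℤ) (h : PLift (a ≤ q)) :
    Sigma.ι (fun _ : PLift (a ≤ q) => E.X q) h ≫ (geq E a).d q (q + 1) =
      E.d q (q + 1) ≫
        Sigma.ι (fun _ : PLift (a ≤ q + 1) => E.X (q + 1)) ⟨h.down.trans (by omega)⟩ := by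
  unfold geq
  dsimp only [CochainComplex.of]
  erw [CochainComplex.of_d]
  exact Sigma.ι_desc _ _

/-- The inclusion `σ≥a E ⟶ E`. -/
noncomputable def ι : geq E a ⟶ E where
  f q := Sigma.desc fun _ => 𝟙 _
  comm' q q' hqq' := by
    obtain rfl : q + 1 = q' := hqq'
    refine Sigma.hom_ext _ _ fun h => ?_
    refine Eq.trans ?_ (Category.assoc _ _ _)
    erw [ge_d, Sigma.ι_desc_assoc, Category.id_comp, Category.assoc, Sigma.ι_desc,
      Category.comp_id]

lemma ι_f (q : ℤ) (h : PLift (a ≤ q)) :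
    Sigma.ι (fun _ : PLift (a ≤ q) => E.X q) h ≫ (ι E a).f q = 𝟙 _ :=
  Sigma.ι_desc _ _

lemma isZero_geq {q : ℤ} (h : q < a) : IsZero ((geq E a).X q) :=
  (IsZero.iff_id_eq_zero _).2 (Sigma.hom_ext _ _ fun h' => absurd h'.down (not_le.2 h))

lemma isIso_ι_f {q : ℤ} (h : a ≤ q) : IsIso ((ι E a).f q) :=
  ⟨Sigma.ι (fun _ : PLift (a ≤ q) => E.X q) ⟨h⟩,
    Sigma.hom_ext _ _ fun _ => (Category.assoc _ _ _).symm.trans
      ((congrArg (· ≫ _) (ι_f E a q _)).trans ((Category.id_comp _).trans (Category.comp_id _).symm)),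
    ι_f E a q ⟨h⟩⟩

variable {a} in
/-- The transition map `σ≥a E ⟶ σ≥a' E` for `a' ≤ a`. -/
noncomputable def map {a' : ℤ} (ha : a' ≤ a) : geq E a ⟶ geq E a' where
  f q := Sigma.desc fun h => Sigma.ι (fun _ : PLift (a' ≤ q) => E.X q) ⟨ha.trans h.down⟩
  comm' q q' hqq' := by
    obtain rfl : q + 1 = q' := hqq'
    refine Sigma.hom_ext _ _ fun h => ?_
    erw [Sigma.ι_desc_assoc, ge_d, reassoc_of% (ge_d E a q h)]
    exact ((Category.assoc _ _ _).trans (congrArg (E.d q (q + 1) ≫ ·)
      (Sigma.ι_desc (f := fun _ : PLift (a ≤ q + 1) => E.X (q + 1))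
        (fun h' => Sigma.ι (fun _ : PLift (a' ≤ q + 1) => E.X (q + 1)) ⟨ha.trans h'.down⟩)
        ⟨h.down.trans (by omega)⟩))).symm

variable {a} in
@[reassoc]
lemma map_ι {a' : ℤ} (ha : a' ≤ a) : map E ha ≫ ι E a' = ι E a := by
  ext q : 1
  refine Sigma.hom_ext _ _ fun h => ?_
  rw [HomologicalComplex.comp_f]
  refine (Category.assoc _ _ _).symm.trans ?_
  erw [Sigma.ι_desc, ι_f, ι_f]

/-- The short complex `σ≥a E ⟶ E ⟶ E/σ≥a E`. -/
noncomputable abbrev S : ShortComplex (CochainComplex B ℤ) :=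
  ShortComplex.mk (ι E a) (cokernel.π (ι E a)) (cokernel.condition _)

lemma mono_ι_f (q : ℤ) : Mono ((ι E a).f q) := by
  by_cases h : a ≤ q
  · have := isIso_ι_f E a h; infer_instance
  · exact ⟨fun _ _ _ => (isZero_geq E a (not_le.1 h)).eq_of_tgt _ _⟩

lemma shortExact : (S E a).ShortExact :=
  have : ∀ q, Mono ((ι E a).f q) := mono_ι_f E a
  have : Mono (ι E a) := HomologicalComplex.mono_of_mono_f _ this
  { exact := ShortComplex.exact_cokernel _ }

lemma splitting (q : ℤ) :
    Nonempty ((S E a).map (HomologicalComplex.eval B (ComplexShape.up ℤ) q)).Splitting := by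
  have h := (shortExact E a).map_of_exact (HomologicalComplex.eval B (ComplexShape.up ℤ) q)
  by_cases hq : a ≤ q
  · exact ⟨ShortComplex.Splitting.ofExactOfRetraction _ h.exact
      (Sigma.ι (fun _ : PLift (a ≤ q) => E.X q) ⟨hq⟩)
      (Sigma.hom_ext _ _ fun _ => (Category.assoc _ _ _).symm.trans
        ((congrArg (· ≫ _) (ι_f E a q _)).trans ((Category.id_comp _).trans (Category.comp_id _).symm)))
      h.epi_g⟩
  · exact ⟨ShortComplex.Splitting.ofExactOfRetraction _ h.exact 0
      ((isZero_geq E a (not_le.1 hq)).eq_of_src _ _) h.epi_g⟩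

lemma isZero_cokernel {q : ℤ} (h : a ≤ q) : IsZero ((cokernel (ι E a)).X q) := by
  have hS := (shortExact E a).map_of_exact (HomologicalComplex.eval B (ComplexShape.up ℤ) q)
  have h1 : IsIso ((S E a).map (HomologicalComplex.eval B (ComplexShape.up ℤ) q)).f :=
    isIso_ι_f E a h
  have h2 : ((S E a).map (HomologicalComplex.eval B (ComplexShape.up ℤ) q)).g = 0 := by
    rw [← cancel_epi ((S E a).map (HomologicalComplex.eval B (ComplexShape.up ℤ) q)).f,
      ShortComplex.zero, comp_zero]
  have := hS.epi_g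
  exact (IsZero.iff_id_eq_zero _).2 ((cancel_epi
    ((S E a).map (HomologicalComplex.eval B (ComplexShape.up ℤ) q)).g).1 (by
      rw [h2, zero_comp, zero_comp]))

lemma isZero_cokernel' {q : ℤ} (h : IsZero (E.X q)) : IsZero ((cokernel (ι E a)).X q) :=
  have : Epi ((cokernel.π (ι E a)).f q) :=
    ((shortExact E a).map_of_exact (HomologicalComplex.eval B (ComplexShape.up ℤ) q)).epi_g
  IsZero.of_epi ((cokernel.π (ι E a)).f q) h

lemma isIso_cokernel_π {q : ℤ} (h : q < a) : IsIso ((cokernel.π (ι E a)).f q) :=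
  ((shortExact E a).map_of_exact (HomologicalComplex.eval B (ComplexShape.up ℤ) q)).isIso_g_iff.2
    (isZero_geq E a h)

/-- The sequence `σ≥b E ⟶ σ≥(b-1) E ⟶ ⋯`. -/
noncomputable def seq (b : ℤ) : ℕ ⥤ CochainComplex B ℤ :=
  Functor.ofSequence fun k : ℕ =>
    map E (a := b - k) (a' := b - (k + 1 : ℕ)) (by omega)

/-- The cocone of the brutal truncations. -/
noncomputable def cocone (b : ℤ) : Cocone (seq E b) where
  pt := E
  ι := NatTrans.ofSequence (fun k => ι E (b - k)) fun k => by
    dsimp [seq]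
    erw [Functor.ofSequence_map_homOfLE_succ]
    exact (map_ι E _).trans (Category.comp_id _).symm

lemma cocone_w (b : ℤ) {j k : ℕ} (f : j ⟶ k) (q : ℤ) :
    ((seq E b).map f).f q ≫ (ι E (b - k)).f q = (ι E (b - j)).f q :=
  congr_arg (fun φ : (seq E b).obj j ⟶ E => φ.f q) ((cocone E b).w f)

omit [Abelian B] in
lemma comp_inv_comp {X₀ X Y Z : B} (i₀ : X₀ ⟶ Y) [IsIso i₀] (i : X ⟶ Y) [IsIso i] (m : X₀ ⟶ X)
    (h : m ≫ i = i₀) (t : X ⟶ Z) : i ≫ inv i₀ ≫ m ≫ t = t := by
  obtain rfl : m = i₀ ≫ inv i := (IsIso.eq_comp_inv i).2 h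
  simp

/-- A complex is the colimit of its brutal truncations. -/
noncomputable def isColimitCocone (b : ℤ) : IsColimit (cocone E b) :=
  HomologicalComplex.isColimitOfEval _ _ fun q =>
    have hk : ∀ k : ℕ, (b - q).toNat ≤ k → IsIso ((ι E (b - k)).f q) := fun k hk =>
      isIso_ι_f E _ (by omega)
    have key (s : Cocone (seq E b ⋙ HomologicalComplex.eval B (ComplexShape.up ℤ) q)) (k : ℕ)
        (hk' : (b - q).toNat ≤ k) :
        (ι E (b - k)).f q ≫ (@inv _ _ _ _ _ (hk _ le_rfl) ≫ s.ι.app (b - q).toNat) = s.ι.app k := by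
      have := hk _ (le_refl (b - q).toNat)
      have := hk k hk'
      refine Eq.trans ?_ (comp_inv_comp ((ι E (b - (b - q).toNat)).f q) ((ι E (b - k)).f q)
        (((seq E b).map (homOfLE hk')).f q) (cocone_w E b (homOfLE hk') q) (s.ι.app k))
      rw [← s.w (homOfLE hk')]
      rfl
    { desc := fun s => @inv _ _ _ _ _ (hk _ le_rfl) ≫ s.ι.app (b - q).toNat
      fac := fun s j => by
        refine Eq.trans ?_ (s.w (homOfLE (le_max_left j (b - q).toNat)))
        rw [← key s _ (le_max_right j (b - q).toNat)]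
        change (ι E (b - j)).f q ≫ _ = ((seq E b).map _).f q ≫ _
        rw [← cocone_w E b (homOfLE (le_max_left j (b - q).toNat))]
        exact Category.assoc _ _ _
      uniq := fun s m hm => by
        have := hk _ (le_refl (b - q).toNat)
        refine (cancel_epi ((ι E (b - ((b - q).toNat : ℕ))).f q)).1 ?_
        refine (hm _).trans ?_
        exact (IsIso.hom_inv_id_assoc ((ι E (b - ((b - q).toNat : ℕ))).f q) _).symm }

end Brutal

variable {A : Type u} [Category.{v} A] [Abelian A] {B : Type u'} [Category.{v'} B] [Abelian B]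
  {C : Type u''} [Category.{v''} C] [Abelian C]
  {F : A ⥤ B ⥤ C} [F.Additive] [∀ a, (F.obj a).Additive]

lemma IsFlatObj.of_iso {b b' : B} (e : b ≅ b') (h : IsFlatObj F b) : IsFlatObj F b' := fun S hS =>
  ShortComplex.shortExact_of_iso (S.mapNatIso (F.flip.mapIso e)) (h S hS)

lemma isFlatObj_of_isZero {b : B} (h : IsZero b) : IsFlatObj F b := fun S _ => by
  have hz : ∀ a, IsZero ((F.obj a).obj b) := fun a => (F.obj a).map_isZero h
  exact
    { exact := ShortComplex.exact_of_isZero_X₂ _ (hz _)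
      mono_f := ⟨fun _ _ _ => (hz S.X₁).eq_of_tgt _ _⟩
      epi_g := ⟨fun _ _ _ => (hz S.X₃).eq_of_src _ _⟩ }

variable [HasCountableCoproducts C]

/-- A complex concentrated in one degree with a flat term is K-flat. -/
lemma isKFlat_of_singleDegree (E : CochainComplex B ℤ) (a : ℤ)
    (hz : ∀ q, q ≠ a → IsZero (E.X q)) (hE : IsFlatObj F (E.X a)) : IsKFlat F E := by
  intro L hL n
  let φ (p m : ℤ) (h : p + a = m) : (F.obj (L.X p)).obj (E.X a) ⟶ ((tot F L).obj E).X m :=
    HomologicalComplex.ιMapBifunctor L E F (ComplexShape.up ℤ) p a m h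
  have hφ (p m : ℤ) (h : p + a = m) : IsIso (φ p m h) := by
    let r : ((tot F L).obj E).X m ⟶ (F.obj (L.X p)).obj (E.X a) :=
      HomologicalComplex.mapBifunctorDesc fun p' q' h' =>
        if hq : q' = a then
          eqToHom (by
            have h2 : p' + q' = m := h'
            rw [hq, show p' = p by omega])
        else 0
    refine ⟨r, (HomologicalComplex.ι_mapBifunctorDesc _ p a h).trans (by simp), ?_⟩
    refine HomologicalComplex.mapBifunctor.hom_ext fun p' q' h' => ?_
    by_cases hq : q' = a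
    · subst hq
      obtain rfl : p' = p := by
        have h2 : p' + q' = m := h'
        omega
      refine (Category.assoc _ _ _).symm.trans ?_
      refine (congrArg (· ≫ φ p' m h) (HomologicalComplex.ι_mapBifunctorDesc _ p' q' h')).trans ?_
      simp [φ]
      exact (Category.comp_id _).symm
    · exact ((F.obj (L.X p')).map_isZero (hz q' hq)).eq_of_src _ _
  have hd (p p' m m' : ℤ) (h : p + a = m) (h' : p' + a = m') (hp : p + 1 = p') :
      φ p m h ≫ ((tot F L).obj E).d m m' = (F.map (L.d p p')).app (E.X a) ≫ φ p' m' h' := by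
    change HomologicalComplex.ιMapBifunctor L E F (ComplexShape.up ℤ) p a m h ≫
      (HomologicalComplex.mapBifunctor L E F (ComplexShape.up ℤ)).d m m' = _
    rw [HomologicalComplex.mapBifunctor.d_eq]
    erw [Preadditive.comp_add]
    rw [      HomologicalComplex.mapBifunctor.ι_D₁, HomologicalComplex.mapBifunctor.ι_D₂,
      HomologicalComplex.mapBifunctor.d₁_eq L E F _ (show (ComplexShape.up ℤ).Rel p p' from hp)
        a m' h',
      HomologicalComplex.mapBifunctor.d₂_eq' L E F _ p
        (show (ComplexShape.up ℤ).Rel a (a + 1) from rfl) m',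
      ((F.obj (L.X p)).map_isZero (hz (a + 1) (by omega))).eq_of_tgt
        ((F.obj (L.X p)).map (E.d a (a + 1))) 0,
      zero_comp, smul_zero, add_zero]
    exact one_smul _ _
  have hi : ((L.sc' (n - 1 - a) (n - a) (n + 1 - a)).map (F.flip.obj (E.X a))).Exact := by
    have h := (F.flip.obj (E.X a)).exact_tfae.out 0 1
    exact h.1 hE _
      ((HomologicalComplex.exactAt_iff' L _ _ _ (by simp; omega) (by simp; omega)).1 (hL _))
  rw [HomologicalComplex.exactAt_iff' _ (n - 1) n (n + 1) (by simp) (by simp)]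
  have e₁ : n - 1 - a + a = n - 1 := by omega
  have e₂ : n - a + a = n := by omega
  have e₃ : n + 1 - a + a = n + 1 := by omega
  have := hφ (n - 1 - a) (n - 1) e₁
  have := hφ (n - a) n e₂
  have := hφ (n + 1 - a) (n + 1) e₃
  exact ShortComplex.exact_of_iso (ShortComplex.isoMk
    (S₁ := (L.sc' (n - 1 - a) (n - a) (n + 1 - a)).map (F.flip.obj (E.X a)))
    (S₂ := ((tot F L).obj E).sc' (n - 1) n (n + 1))
    (@asIso _ _ _ _ (φ _ _ e₁) (hφ _ _ e₁)) (@asIso _ _ _ _ (φ _ _ e₂) (hφ _ _ e₂))
    (@asIso _ _ _ _ (φ _ _ e₃) (hφ _ _ e₃))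
    (hd _ _ _ _ e₁ e₂ (by omega)) (hd _ _ _ _ e₂ e₃ (by omega))) hi

variable [CountableAB4 C]

/-- A bounded complex of flat objects is K-flat. -/
lemma isKFlat_of_bounded (k : ℕ) : ∀ (E : CochainComplex B ℤ) (a : ℤ),
    (∀ q, q < a ∨ a + k < q → IsZero (E.X q)) → (∀ q, IsFlatObj F (E.X q)) → IsKFlat F E := by
  induction k with
  | zero => exact fun E a hz hE => isKFlat_of_singleDegree E a (fun q hq => hz q (by omega)) (hE a)
  | succ k ih =>
    intro E a hz hE
    have h₁ : IsKFlat F (Brutal.geq E (a + 1)) := by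
      refine ih _ (a + 1) (fun q hq => ?_) (fun q => ?_)
      · by_cases h : a + 1 ≤ q
        · have := Brutal.isIso_ι_f E (a + 1) h
          exact (hz q (by omega)).of_iso (asIso ((Brutal.ι E (a + 1)).f q))
        · exact Brutal.isZero_geq E _ (by omega)
      · by_cases h : a + 1 ≤ q
        · have := Brutal.isIso_ι_f E (a + 1) h
          exact (hE q).of_iso (asIso ((Brutal.ι E (a + 1)).f q)).symm
        · exact isFlatObj_of_isZero (Brutal.isZero_geq E _ (by omega))
    have h₃ : IsKFlat F (cokernel (Brutal.ι E (a + 1))) := by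
      refine isKFlat_of_singleDegree _ a (fun q hq => ?_) ?_
      · rcases lt_or_gt_of_ne hq with h | h
        · exact Brutal.isZero_cokernel' E _ (hz q (Or.inl h))
        · exact Brutal.isZero_cokernel E _ (by omega)
      · have := Brutal.isIso_cokernel_π E (a + 1) (q := a) (by omega)
        exact (hE a).of_iso (asIso ((cokernel.π (Brutal.ι E (a + 1))).f a))
    exact IsFSES.isKFlat₂ (isFSES_of_splitting _ (Brutal.splitting E (a + 1))) h₁ h₃

variable [HasColimitsOfShape ℕ B] [HasColimitsOfShape ℕ C] [HasExactColimitsOfShape ℕ C]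
  [∀ a, PreservesColimitsOfShape ℕ (F.obj a)]

/-- A bounded above complex of flat objects is K-flat. -/
theorem isKFlat_of_boundedAbove (E : CochainComplex B ℤ) (b : ℤ)
    (hz : ∀ q, b < q → IsZero (E.X q)) (hE : ∀ q, IsFlatObj F (E.X q)) : IsKFlat F E := by
  refine isKFlat_of_isColimit (Brutal.isColimitCocone E b) fun k => ?_
  refine isKFlat_of_bounded k (Brutal.geq E (b - k)) (b - k) (fun q hq => ?_) (fun q => ?_)
  · by_cases h : b - k ≤ q
    · have := Brutal.isIso_ι_f E (b - k) h
      exact (hz q (by omega)).of_iso (asIso ((Brutal.ι E (b - k)).f q))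
    · exact Brutal.isZero_geq E _ (by omega)
  · by_cases h : b - k ≤ q
    · have := Brutal.isIso_ι_f E (b - k) h
      exact (hE q).of_iso (asIso ((Brutal.ι E (b - k)).f q)).symm
    · exact isFlatObj_of_isZero (Brutal.isZero_geq E _ (by omega))

end Groth.Agent.H16Derived.KFlat
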