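import Groth.Agent.H16Derived.KFlat.SheafTri
import Groth.Agent.H16Derived.KFlat.BoundedAbove
import Groth.Prelude.Def_DTor2

/-!
# Tor amplitude
-/

set_option autoImplicit false

universe u

open CategoryTheory CategoryTheory.Limits AlgebraicGeometry

attribute [local instance] HasDerivedCategory.standard

namespace Groth.Agent.H16Derived.KFlat.Stalk

variable {X : Scheme.{u}}

/-- A bounded above complex of flat modules is K-flat as a left factor. -/
theorem lkflat_of_boundedAbove (E : CochainComplex X.Modules ℤ) (b : ℤ)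
    (hz : ∀ q, b < q → IsZero (E.X q)) (hE : ∀ q, FlatMod.IsFlat (E.X q)) : lkflat X E :=
  isKFlat_of_boundedAbove E b hz fun q => isFlatObj_flip_of_isFlat (hE q)

/-- A bounded above complex of flat modules is K-flat. -/
theorem kflat_of_boundedAbove (E : CochainComplex X.Modules ℤ) (b : ℤ)
    (hz : ∀ q, b < q → IsZero (E.X q)) (hE : ∀ q, FlatMod.IsFlat (E.X q)) : kflat X E :=
  isKFlat_of_boundedAbove E b hz fun q => isFlatObj_of_isFlat (hE q)

/-- `E ⊗^L M ≅ E ⊗ M` for `E` K-flat as a left factor. -/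
noncomputable def ltensorModObjIso (M : X.Modules) [DCoh.HasLTensorMod M]
    (E : CochainComplex X.Modules ℤ) (hE : lkflat X E) :
    (DCoh.LTensorMod M).obj (DCoh.toD X E) ≅
      DCoh.toD X (((DCoh.tensorRightMod M).mapHomologicalComplex (ComplexShape.up ℤ)).obj E) :=
  (ltensorModIso M).app ⟨E, hE⟩

/-- `H^i(E ⊗^L M) ≅ H^i(E ⊗ M)` for `E` K-flat as a left factor. -/
noncomputable def hdLTensorModIso (M : X.Modules) [DCoh.HasLTensorMod M]
    (E : CochainComplex X.Modules ℤ) (hE : lkflat X E) (i : ℤ) :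
    DCoh.HD ((DCoh.LTensorMod M).obj (DCoh.toD X E)) i ≅
      (((DCoh.tensorRightMod M).mapHomologicalComplex (ComplexShape.up ℤ)).obj E).homology i :=
  (DerivedCategory.homologyFunctor X.Modules i).mapIso (ltensorModObjIso M E hE) ≪≫
    (DerivedCategory.homologyFunctorFactors X.Modules i).app _

/-- The flat-representative form of tor amplitude implies the derived-tensor form. -/
theorem hasTorAmplitudeIn_of_hasFlatAmplitudeIn {a b : ℤ} {K : DCoh.D X}
    (h : DCoh.HasFlatAmplitudeIn a b K) : DCoh.HasTorAmplitudeIn a b K := by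
  obtain ⟨E, hE, hf, ⟨e⟩⟩ := h
  intro M _ i hi
  have hz : IsZero ((((DCoh.tensorRightMod M).mapHomologicalComplex (ComplexShape.up ℤ)).obj E).X i) :=
    (DCoh.tensorRightMod M).map_isZero (hE i hi)
  refine IsZero.of_iso ?_ ((DerivedCategory.homologyFunctor X.Modules i).mapIso
    ((DCoh.LTensorMod M).mapIso e.symm) ≪≫
    hdLTensorModIso M E (lkflat_of_boundedAbove E b (fun q hq => hE q (Or.inr hq)) hf) i)
  exact HomologicalComplex.ExactAt.isZero_homology
    ((HomologicalComplex.exactAt_iff _ _).2 (ShortComplex.exact_of_isZero_X₂ _ hz))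

/-- Tor amplitude passes to retracts. -/
theorem hasTorAmplitudeIn_of_retract {a b : ℤ} {K L : DCoh.D X} (r : Retract K L)
    (h : DCoh.HasTorAmplitudeIn a b L) : DCoh.HasTorAmplitudeIn a b K := by
  intro M _ i hi
  have r' := r.map (DCoh.LTensorMod M ⋙ DerivedCategory.homologyFunctor X.Modules i)
  rw [IsZero.iff_id_eq_zero]
  exact r'.retract.symm.trans ((congrArg (r'.i ≫ ·) ((h M i hi).eq_of_src r'.r 0)).trans comp_zero)

/-- Tor amplitude is invariant under isomorphism. -/
theorem hasTorAmplitudeIn_of_iso {a b : ℤ} {K L : DCoh.D X} (e : K ≅ L)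
    (h : DCoh.HasTorAmplitudeIn a b L) : DCoh.HasTorAmplitudeIn a b K :=
  hasTorAmplitudeIn_of_retract ⟨e.hom, e.inv, e.hom_inv_id⟩ h

/-- Pullback preserves stalkwise flatness. -/
theorem isFlat_pullback {Y : Scheme.{u}} (f : X ⟶ Y) {M : Y.Modules} (hM : FlatMod.IsFlat M) :
    FlatMod.IsFlat ((Scheme.Modules.pullback f).obj M) := by
  intro x
  letI := H06Mod.stalkAlgebra f x
  haveI : Module.Flat (Y.presheaf.stalk (f.base x)) (M.presheaf.stalk (f.base x)) := hM (f.base x)
  exact Module.Flat.of_linearEquiv (H06Mod.pullStalkEquiv f M x).symm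

/-- `Lf^*` of a bounded above complex of flat modules. -/
noncomputable def lpullObjIso {Y : Scheme.{u}} (f : X ⟶ Y) [DCoh.HasLpull f]
    (E : CochainComplex Y.Modules ℤ) (hE : kflat Y E) :
    (DCoh.Lpull f).obj (DCoh.toD Y E) ≅
      DCoh.toD X (((Scheme.Modules.pullback f).mapHomologicalComplex (ComplexShape.up ℤ)).obj E) :=
  (lpullIso f).app ⟨E, hE⟩

/-- `Lf^*` preserves flat amplitude. -/
theorem hasFlatAmplitudeIn_lpull {Y : Scheme.{u}} (f : X ⟶ Y) [DCoh.HasLpull f] {a b : ℤ}
    {K : DCoh.D Y} (h : DCoh.HasFlatAmplitudeIn a b K) :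
    DCoh.HasFlatAmplitudeIn a b ((DCoh.Lpull f).obj K) := by
  obtain ⟨E, hE, hf, ⟨e⟩⟩ := h
  exact ⟨((Scheme.Modules.pullback f).mapHomologicalComplex (ComplexShape.up ℤ)).obj E,
    fun i hi => (Scheme.Modules.pullback f).map_isZero (hE i hi), fun i => isFlat_pullback f (hf i),
    ⟨(lpullObjIso f E (kflat_of_boundedAbove E b (fun q hq => hE q (Or.inr hq)) hf)).symm ≪≫
      (DCoh.Lpull f).mapIso e⟩⟩

end Groth.Agent.H16Derived.KFlat.Stalk
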