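import Groth.Agent.H16Derived.KFlat.PullKFlat
import Groth.Agent.H16Derived.KFlat.TorAmp
import Groth.Prelude.Def_DCoh2
import Mathlib.Algebra.Category.ModuleCat.Sheaf.PullbackFree

/-!
# Finite locally free modules: pullback, flatness; strictly perfect complexes
-/

set_option autoImplicit false
set_option linter.style.haveILetI false

universe u

open CategoryTheory CategoryTheory.Limits AlgebraicGeometry TopologicalSpace TensorProduct

attribute [local instance] HasDerivedCategory.standard

namespace Groth.Agent.H16Derived.KFlat.Stalk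

open Groth.Agent.H06Mod

variable {X Y : Scheme.{u}}

instance final_opens_map (f : X ⟶ Y) : (Opens.map f.base).Final where
  out U := by
    let T : StructuredArrow U (Opens.map f.base) := StructuredArrow.mk (Y := ⊤) (homOfLE le_top)
    haveI : Nonempty (StructuredArrow U (Opens.map f.base)) := ⟨T⟩
    exact zigzag_isConnected fun a b =>
      (Zigzag.of_hom (StructuredArrow.homMk (f' := T) (homOfLE le_top) (Subsingleton.elim _ _))).trans
        (Zigzag.of_inv (StructuredArrow.homMk (f' := T) (homOfLE le_top) (Subsingleton.elim _ _)))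

/-- The pullback of the structure sheaf. -/
noncomputable def structurePullbackIso (f : X ⟶ Y) :
    (Scheme.Modules.pullback f).obj (Coh.structureModule Y) ≅ Coh.structureModule X :=
  @asIso _ _ _ _ (SheafOfModules.pullbackObjUnitToUnit.{u} f.toRingCatSheafHom)
    (@SheafOfModules.instIsIsoPullbackObjUnitToUnitOfFinal _ _ _ _ _ _ _ _ _ _ _ _ (final_opens_map f))

/-- The pullback of a free module. -/
noncomputable def freeModPullbackIso (f : X ⟶ Y) (n : ℕ) :
    (Scheme.Modules.pullback f).obj (FlatMod.freeMod Y n) ≅ FlatMod.freeMod X n :=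
  PreservesCoproduct.iso (Scheme.Modules.pullback f) _ ≪≫
    Sigma.mapIso fun _ => structurePullbackIso f

/-- Restriction commutes with pullback. -/
noncomputable def pullbackRestrictIso (f : X ⟶ Y) (V : Y.Opens) :
    Scheme.Modules.pullback f ⋙ Scheme.Modules.restrictFunctor (f ⁻¹ᵁ V).ι ≅
      Scheme.Modules.restrictFunctor V.ι ⋙ Scheme.Modules.pullback (f ∣_ V) :=
  Functor.isoWhiskerLeft _ (Scheme.Modules.restrictFunctorIsoPullback _) ≪≫
    Scheme.Modules.pullbackComp _ _ ≪≫ Scheme.Modules.pullbackCongr (morphismRestrict_ι f V).symm ≪≫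
    (Scheme.Modules.pullbackComp _ _).symm ≪≫
    Functor.isoWhiskerRight (Scheme.Modules.restrictFunctorIsoPullback _).symm _

/-- Pullback preserves finite locally free modules. -/
theorem isFinLocFree_pullback (f : X ⟶ Y) {M : Y.Modules} (hM : FlatMod.IsFinLocFree M) :
    FlatMod.IsFinLocFree ((Scheme.Modules.pullback f).obj M) := fun x => by
  obtain ⟨V, n, hx, ⟨e⟩⟩ := hM (f.base x)
  exact ⟨f ⁻¹ᵁ V, n, hx, ⟨(pullbackRestrictIso f V).app M ≪≫
    (Scheme.Modules.pullback (f ∣_ V)).mapIso e ≪≫ freeModPullbackIso (f ∣_ V) n⟩⟩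

/-- The structure sheaf is flat. -/
theorem isFlat_structureModule : FlatMod.IsFlat (Coh.structureModule X) := by
  let s : (gen (⊤ : X.Opens) : SheafOfModules X.ringCatSheaf).sections :=
    PresheafOfModules.sectionsMk
      (fun U => (gen (⊤ : X.Opens)).presheaf.map (homOfLE le_top).op (genSect ⊤))
      (fun U V i => by
        show (gen (⊤ : X.Opens)).presheaf.map i ((gen (⊤ : X.Opens)).presheaf.map _ (genSect ⊤)) = _
        rw [← ConcreteCategory.comp_apply, ← Functor.map_comp]
        rfl)
  refine isFlat_of_retract ((SheafOfModules.unitHomEquiv _).symm s)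
    ((genEquiv ⊤ (Coh.structureModule X)).symm (1 : Γ(X, ⊤))) ?_ (isFlat_gen ⊤)
  apply (SheafOfModules.unitHomEquiv (Coh.structureModule X : SheafOfModules X.ringCatSheaf)).injective
  let r := (genEquiv ⊤ (Coh.structureModule X)).symm (1 : Γ(X, ⊤))
  refine (congrArg (SheafOfModules.unitHomEquiv _) (SheafOfModules.unitHomEquiv_symm_comp s r)).trans ?_
  rw [Equiv.apply_symm_apply]
  ext U
  have hr : ((genEquiv ⊤ (Coh.structureModule X)).symm (1 : Γ(X, ⊤))).app ⊤ (genSect ⊤)
      = (1 : Γ(X, ⊤)) := by
    rw [← genEquiv_eq, Equiv.apply_symm_apply]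
  show r.app U.unop ((gen (⊤ : X.Opens)).presheaf.map (homOfLE le_top).op (genSect ⊤)) = (1 : Γ(X, U.unop))
  refine (NatTrans.naturality_apply ((Scheme.Modules.toPresheaf X).map r) (homOfLE le_top).op (genSect ⊤)).trans ?_
  refine Eq.trans (congrArg (fun a => ((Scheme.Modules.toPresheaf X).obj (Coh.structureModule X)).map (homOfLE le_top).op a) hr) ?_
  exact map_one (X.presheaf.map (homOfLE le_top).op).hom

/-- A free module is flat. -/
theorem isFlat_freeMod (n : ℕ) : FlatMod.IsFlat (FlatMod.freeMod X n) := by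
  refine isFlat_of_retract (M := ∐ fun _ : ULift.{u} (Fin n) => Coh.structureModule X)
    (Sigma.desc fun i => Sigma.ι (fun _ : ULift.{u} (Fin n) => Coh.structureModule X) ⟨i⟩)
    (Sigma.desc fun i => Sigma.ι (fun _ : Fin n => Coh.structureModule X) i.down) ?_
    (isFlat_sigma _ fun _ => isFlat_structureModule)
  exact Sigma.hom_ext _ _ fun i => by simp

/-- A finite locally free module is flat. -/
theorem isFlat_of_isFinLocFree {M : X.Modules} (hM : FlatMod.IsFinLocFree M) :
    FlatMod.IsFlat M := fun x => by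
  obtain ⟨U, n, hx, ⟨e⟩⟩ := hM x
  let y : U.toScheme := ⟨x, hx⟩
  show Module.Flat (X.presheaf.stalk (U.ι.base y)) (M.presheaf.stalk (U.ι.base y))
  let R := X.presheaf.stalk (U.ι.base y)
  let S := U.toScheme.presheaf.stalk y
  letI := stalkAlgebra U.ι y
  have hb : Function.Bijective (Algebra.ofId R S) :=
    ConcreteCategory.bijective_of_isIso (U.ι.stalkMap y)
  let b : R ≃ₐ[R] S := AlgEquiv.ofBijective (Algebra.ofId R S) hb
  haveI : Module.Flat R S := Module.Flat.of_linearEquiv b.toLinearEquiv.symm
  let e' := (Scheme.Modules.restrictFunctorIsoPullback U.ι).symm.app M ≪≫ e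
  haveI hf : Module.Flat S (((Scheme.Modules.pullback U.ι).obj M).presheaf.stalk y) :=
    isFlat_of_retract e'.hom e'.inv e'.hom_inv_id (isFlat_freeMod n) y
  haveI : Module.Flat S (S ⊗[R] M.presheaf.stalk (U.ι.base y)) :=
    Module.Flat.of_linearEquiv (pullStalkEquiv U.ι M y)
  haveI : Module.Flat R (S ⊗[R] M.presheaf.stalk (U.ι.base y)) := Module.Flat.trans R S _
  exact Module.Flat.of_linearEquiv
    ((TensorProduct.congr b.toLinearEquiv (LinearEquiv.refl R (M.presheaf.stalk (U.ι.base y)))).symm
      ≪≫ₗ TensorProduct.lid R _).symm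

/-- Strictly perfect complexes are K-flat. -/
theorem kflat_of_isStrictlyPerfect {E : CochainComplex X.Modules ℤ}
    (h : DCoh.IsStrictlyPerfect E) : kflat X E := by
  obtain ⟨⟨a, b, hE⟩, hf⟩ := h
  exact kflat_of_boundedAbove E b (fun q hq => hE q (Or.inr hq))
    fun i => isFlat_of_isFinLocFree (hf i)

/-- Pullback preserves strictly perfect complexes. -/
theorem isStrictlyPerfect_pullback (f : X ⟶ Y) {E : CochainComplex Y.Modules ℤ}
    (h : DCoh.IsStrictlyPerfect E) :
    DCoh.IsStrictlyPerfect
      (((Scheme.Modules.pullback f).mapHomologicalComplex (ComplexShape.up ℤ)).obj E) := by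
  obtain ⟨⟨a, b, hE⟩, hf⟩ := h
  exact ⟨⟨a, b, fun i hi => (Scheme.Modules.pullback f).map_isZero (hE i hi)⟩,
    fun i => isFinLocFree_pullback f (hf i)⟩

end Groth.Agent.H16Derived.KFlat.Stalk
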