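import Groth.Agent.H16Derived.KFlat.SheafTensor

/-!
# Flat for `DCoh.tensorBi` = stalkwise flat

The converse of `isFlatObj_of_isFlat`, by testing against skyscraper modules.
-/

set_option autoImplicit false

universe u

open CategoryTheory CategoryTheory.Limits AlgebraicGeometry TopologicalSpace MonoidalCategory Opposite

namespace Groth.Agent.H16Derived.KFlat.Stalk

open Groth.Agent.H06Mod

variable {X : Scheme.{u}} (x : X) (A B : Type u) [AddCommGroup A] [Module (X.presheaf.stalk x) A]
  [AddCommGroup B] [Module (X.presheaf.stalk x) B]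

/-- The canonical map `(sky x A)_x → A`. -/
noncomputable def skyStalk : (sky x A).presheaf.stalk x →ₗ[X.presheaf.stalk x] A where
  toFun := stalkOfHom (𝟙 (sky x A))
  map_add' := map_add _
  map_smul' := stalkOfHom_smul _

lemma skyStalk_germ (U : X.Opens) (h : x ∈ U) (a : Γ(sky x A, U)) :
    skyStalk x A ((sky x A).presheaf.germ U x h a) = skyEval x A U h a :=
  stalkOfHom_germ _ U h a

lemma skyStalk_bijective : Function.Bijective (skyStalk x A) := by
  constructor
  · rw [injective_iff_map_eq_zero]
    intro a ha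
    obtain ⟨U, hU, a, rfl⟩ := (sky x A).presheaf.exists_germ_eq a
    rw [skyStalk_germ] at ha
    have h0 : a = 0 := skyEval_ext (N := A) x fun hx => by rw [map_zero]; exact ha
    rw [h0, map_zero]
  · intro a
    refine ⟨(sky x A).presheaf.germ ⊤ x trivial (fun _ => a), ?_⟩
    rw [skyStalk_germ]
    rfl

variable {x A B}

/-- Functoriality of the skyscraper module. -/
noncomputable def skyMap (f : A →ₗ[X.presheaf.stalk x] B) : sky x A ⟶ sky x B :=
  homOfStalk (f.comp (skyStalk x A))

lemma skyEval_skyMap (f : A →ₗ[X.presheaf.stalk x] B) (U : X.Opens) (h : x ∈ U) (a : Γ(sky x A, U)) :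
    skyEval x B U h ((skyMap f).app U a) = f (skyEval x A U h a) :=
  (skyEval_homOfStalk _ _ _ _).trans (congrArg f (skyStalk_germ x A U h a))

lemma mono_skyMap (f : A →ₗ[X.presheaf.stalk x] B) (hf : Function.Injective f) :
    Mono (skyMap f) := by
  refine Preadditive.mono_of_cancel_zero _ fun {P} g hg => ?_
  refine Scheme.Modules.hom_ext _ _ fun U => ?_
  ext a
  refine skyEval_ext (N := A) x fun hx => hf ?_
  have h0 := ConcreteCategory.congr_hom (congrArg (fun φ => Scheme.Modules.Hom.app φ U) hg) a
  refine (skyEval_skyMap f U hx _).symm.trans ?_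
  refine (congrArg (skyEval x B U hx) h0).trans ?_
  show skyEval x B U hx 0 = f (skyEval x A U hx 0)
  rw [map_zero, map_zero, map_zero]

lemma skyStalk_naturality (f : A →ₗ[X.presheaf.stalk x] B) :
    (skyStalk x B).comp (stalkLin (skyMap f) x) = f.comp (skyStalk x A) := by
  refine LinearMap.ext fun a => ?_
  obtain ⟨U, hU, a, rfl⟩ := (sky x A).presheaf.exists_germ_eq a
  show skyStalk x B (stalkLin (skyMap f) x ((sky x A).presheaf.germ U x hU a)) = f (skyStalk x A _)
  rw [stalkLin_germ, skyStalk_germ, skyStalk_germ, skyEval_skyMap]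

/-- A module which is flat for `DCoh.tensorBi` is stalkwise flat. -/
theorem isFlat_of_isFlatObj {M : X.Modules} (hM : IsFlatObj (DCoh.tensorBi (X := X)) M) :
    FlatMod.IsFlat M := by
  intro x
  refine Module.Flat.iff_rTensor_preserves_injective_linearMap.2 fun A B _ _ _ _ f hf => ?_
  have := mono_skyMap f hf
  let S := ShortComplex.mk (skyMap f) (cokernel.π (skyMap f)) (cokernel.condition _)
  have hS : S.ShortExact :=
    { exact := ShortComplex.exact_of_g_is_cokernel _ (cokernelIsCokernel _) }
  have h1 : Mono (S.map ((DCoh.tensorBi (X := X)).flip.obj M)).f := (hM S hS).mono_f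
  have h2 : Mono (((DCoh.tensorBi (X := X)).flip.obj M ⋙ DerSch.stalkFunctor X x).map (skyMap f)) :=
    (DerSch.stalkFunctor X x).map_mono (S.map ((DCoh.tensorBi (X := X)).flip.obj M)).f
  have h3 : Mono ((DerSch.stalkFunctor X x ⋙
      tensorRight ((DerSch.stalkFunctor X x).obj M)).map (skyMap f)) :=
    ((MorphismProperty.monomorphisms _).arrow_mk_iso_iff
      (Arrow.isoMk ((rightIso M x).app _) ((rightIso M x).app _)
        ((rightIso M x).hom.naturality (skyMap f)).symm)).1 h2
  have h4 : Function.Injective ((stalkLin (skyMap f) x).rTensor ((DerSch.stalkFunctor X x).obj M)) :=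
    (ModuleCat.mono_iff_injective _).1 h3
  let eA := LinearEquiv.ofBijective (skyStalk x A) (skyStalk_bijective x A)
  let eB := LinearEquiv.ofBijective (skyStalk x B) (skyStalk_bijective x B)
  have h5 : f = eB.toLinearMap.comp ((stalkLin (skyMap f) x).comp eA.symm.toLinearMap) := by
    refine LinearMap.ext fun a => ?_
    have := LinearMap.congr_fun (skyStalk_naturality f) (eA.symm a)
    exact (congrArg f (eA.apply_symm_apply a)).symm.trans this.symm
  rw [h5, LinearMap.rTensor_comp, LinearMap.rTensor_comp, LinearMap.coe_comp, LinearMap.coe_comp]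
  exact ((eB.rTensor _).injective.comp (h4.comp (eA.symm.rTensor _).injective))

theorem isFlat_iff_isFlatObj (M : X.Modules) :
    FlatMod.IsFlat M ↔ IsFlatObj (DCoh.tensorBi (X := X)) M :=
  ⟨isFlatObj_of_isFlat, isFlat_of_isFlatObj⟩

end Groth.Agent.H16Derived.KFlat.Stalk
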