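import Groth.Agent.H16Derived.KFlat.Basic

/-!
# The total complex when one of the two complexes is concentrated in degree zero
-/

set_option autoImplicit false

universe v v' v'' u u' u''

open CategoryTheory CategoryTheory.Limits

namespace Groth.Agent.H16Derived.KFlat

variable {A : Type u} [Category.{v} A] [Abelian A] {B : Type u'} [Category.{v'} B] [Abelian B]
  {C : Type u''} [Category.{v''} C] [Abelian C] [HasCountableCoproducts C]
  (F : A ⥤ B ⥤ C) [F.Additive] [∀ a, (F.obj a).Additive]
  (L : CochainComplex A ℤ) (W : CochainComplex B ℤ)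

/-- `F(L⁰, W) → Tot F(L, W)`. -/
noncomputable def singleLeftHom (hL : ∀ p, p ≠ 0 → IsZero (L.X p)) :
    ((F.obj (L.X 0)).mapHomologicalComplex (ComplexShape.up ℤ)).obj W ⟶ (tot F L).obj W where
  f q := HomologicalComplex.ιMapBifunctor L W F (ComplexShape.up ℤ) 0 q q (zero_add q)
  comm' q q' hq := by
    obtain rfl : q + 1 = q' := hq
    change HomologicalComplex.ιMapBifunctor L W F (ComplexShape.up ℤ) 0 q q (zero_add q) ≫
      (HomologicalComplex.mapBifunctor L W F (ComplexShape.up ℤ)).d q (q + 1) =
      (F.obj (L.X 0)).map (W.d q (q + 1)) ≫ _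
    rw [HomologicalComplex.mapBifunctor.d_eq]
    erw [Preadditive.comp_add]
    rw [HomologicalComplex.mapBifunctor.ι_D₁, HomologicalComplex.mapBifunctor.ι_D₂,
      HomologicalComplex.mapBifunctor.d₁_eq' L W F _ (show (ComplexShape.up ℤ).Rel 0 1 by simp)
        q (q + 1),
      HomologicalComplex.mapBifunctor.d₂_eq L W F _ 0
        (show (ComplexShape.up ℤ).Rel q (q + 1) from rfl) (q + 1) (zero_add _),
      show L.d 0 1 = 0 from (hL 1 one_ne_zero).eq_of_tgt _ _, F.map_zero, NatTrans.app_zero,
      zero_comp, smul_zero, zero_add,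
      show ComplexShape.ε₂ (ComplexShape.up ℤ) (ComplexShape.up ℤ) (ComplexShape.up ℤ)
        ((0 : ℤ), q) = 1 from Int.negOnePow_zero]
    exact one_smul _ _

lemma isIso_singleLeftHom (hL : ∀ p, p ≠ 0 → IsZero (L.X p)) :
    IsIso (singleLeftHom F L W hL) := by
  have : ∀ q, IsIso ((singleLeftHom F L W hL).f q) := fun q => by
    let r : ((tot F L).obj W).X q ⟶ (F.obj (L.X 0)).obj (W.X q) :=
      HomologicalComplex.mapBifunctorDesc fun p' q' h' =>
        if hp : p' = 0 then
          eqToHom (by
            have h2 : p' + q' = q := h'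
            rw [hp, show q' = q by omega])
        else 0
    refine ⟨r, (HomologicalComplex.ι_mapBifunctorDesc _ 0 q (zero_add q)).trans (by simp; rfl), ?_⟩
    refine HomologicalComplex.mapBifunctor.hom_ext fun p' q' h' => ?_
    by_cases hp : p' = 0
    · subst hp
      obtain rfl : q' = q := by
        have h2 : (0 : ℤ) + q' = q := h'
        omega
      refine (Category.assoc _ _ _).symm.trans ?_
      refine (congrArg (· ≫ (singleLeftHom F L W hL).f q')
        (HomologicalComplex.ι_mapBifunctorDesc _ 0 q' h')).trans ?_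
      simp [singleLeftHom]
      exact (Category.id_comp _).trans (Category.comp_id _).symm
    · exact ((F.map_isZero (hL p' hp)).obj _).eq_of_src _ _
  exact HomologicalComplex.Hom.isIso_of_components _

/-- `Tot F(L, W) ≅ F(L⁰, W)` for `L` concentrated in degree zero. -/
noncomputable def singleLeftIso (hL : ∀ p, p ≠ 0 → IsZero (L.X p)) :
    ((F.obj (L.X 0)).mapHomologicalComplex (ComplexShape.up ℤ)).obj W ≅ (tot F L).obj W :=
  @asIso _ _ _ _ (singleLeftHom F L W hL) (isIso_singleLeftHom F L W hL)

end Groth.Agent.H16Derived.KFlat
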