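import Groth.Agent.H16Derived.KFlat.TorAmp
import Groth.Agent.H16Derived.KFlat.FlatIff
import Groth.Agent.H16Derived.Resolution
import Mathlib.Algebra.Homology.DerivedCategory.TStructure

/-!
# Flatness and tor amplitude: vanishing of `H^{a-1}(E ⊗ G)` makes `coker (E^{a-1} → E^a)` flat
-/

set_option autoImplicit false

universe u

open CategoryTheory CategoryTheory.Limits AlgebraicGeometry MonoidalCategory

attribute [local instance] HasDerivedCategory.standard

namespace Groth.Agent.H16Derived.KFlat.Stalk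

open Groth.Agent.H06Mod

variable {X : Scheme.{u}}

/-- A module which is flat for the flipped tensor product is stalkwise flat. -/
theorem isFlat_of_mono_tensor {M : X.Modules}
    (h : ∀ {G₁ G₂ : X.Modules} (g : G₁ ⟶ G₂) [Mono g],
      Mono (((DCoh.tensorBi (X := X)).obj M).map g)) : FlatMod.IsFlat M := by
  intro x
  refine Module.Flat.iff_lTensor_preserves_injective_linearMap.2 fun A B _ _ _ _ f hf => ?_
  have := mono_skyMap f hf
  have := h (skyMap f)
  have h2 : Mono (((DCoh.tensorBi (X := X)).obj M ⋙ DerSch.stalkFunctor X x).map (skyMap f)) :=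
    (DerSch.stalkFunctor X x).map_mono _
  have h3 : Mono ((DerSch.stalkFunctor X x ⋙
      tensorLeft ((DerSch.stalkFunctor X x).obj M)).map (skyMap f)) :=
    ((MorphismProperty.monomorphisms _).arrow_mk_iso_iff
      (Arrow.isoMk ((leftIso M x).app _) ((leftIso M x).app _)
        ((leftIso M x).hom.naturality (skyMap f)).symm)).1 h2
  have h4 : Function.Injective ((stalkLin (skyMap f) x).lTensor ((DerSch.stalkFunctor X x).obj M)) :=
    (ModuleCat.mono_iff_injective _).1 h3
  let eA := LinearEquiv.ofBijective (skyStalk x A) (skyStalk_bijective x A)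
  let eB := LinearEquiv.ofBijective (skyStalk x B) (skyStalk_bijective x B)
  have h5 : f = eB.toLinearMap.comp ((stalkLin (skyMap f) x).comp eA.symm.toLinearMap) := by
    refine LinearMap.ext fun a => ?_
    have := LinearMap.congr_fun (skyStalk_naturality f) (eA.symm a)
    exact (congrArg f (eA.apply_symm_apply a)).symm.trans this.symm
  rw [h5, LinearMap.lTensor_comp, LinearMap.lTensor_comp, LinearMap.coe_comp, LinearMap.coe_comp]
  exact ((eB.lTensor _).injective.comp (h4.comp (eA.symm.lTensor _).injective))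

/-- `E ⊗ G` termwise. -/
noncomputable abbrev tensorC (G : X.Modules) (E : CochainComplex X.Modules ℤ) :
    CochainComplex X.Modules ℤ :=
  ((DCoh.tensorRightMod G).mapHomologicalComplex (ComplexShape.up ℤ)).obj E

/-- If `H^{a-1}(E ⊗ G)` vanishes for every `G` and `E` has flat terms, the opcycles at `a` are flat. -/
theorem isFlat_opcycles (E : CochainComplex X.Modules ℤ) (hE : ∀ q, FlatMod.IsFlat (E.X q)) (a : ℤ)
    (hH : ∀ G : X.Modules, IsZero ((tensorC G E).homology (a - 1))) :
    FlatMod.IsFlat (E.opcycles a) := by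
  apply isFlat_of_mono_tensor
  intro G₁ G₂ g _
  let S := ShortComplex.mk g (cokernel.π g) (cokernel.condition g)
  have hS : S.ShortExact := { exact := ShortComplex.exact_cokernel g }
  let T := (DCoh.tensorBi (X := X)).flip
  let K₁ := ((T.obj S.X₁).mapHomologicalComplex (ComplexShape.up ℤ)).obj E
  let K₂ := ((T.obj S.X₂).mapHomologicalComplex (ComplexShape.up ℤ)).obj E
  let K₃ := ((T.obj S.X₃).mapHomologicalComplex (ComplexShape.up ℤ)).obj E
  let φ : K₁ ⟶ K₂ := (NatTrans.mapHomologicalComplex (T.map S.f) (ComplexShape.up ℤ)).app E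
  let ψ : K₂ ⟶ K₃ := (NatTrans.mapHomologicalComplex (T.map S.g) (ComplexShape.up ℤ)).app E
  let SS : ShortComplex (CochainComplex X.Modules ℤ) := ShortComplex.mk φ ψ (HomologicalComplex.hom_ext _ _ fun q => by
    exact (((DCoh.tensorBi (X := X)).obj (E.X q)).map_comp S.f S.g).symm.trans
      ((congrArg (((DCoh.tensorBi (X := X)).obj (E.X q)).map) S.zero).trans
        (((DCoh.tensorBi (X := X)).obj (E.X q)).map_zero _ _)))
  have hSS : SS.ShortExact := HomologicalComplex.shortExact_of_degreewise_shortExact SS fun q =>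
    isFlatObj_flip_of_isFlat (hE q) S hS
  have hK₃ : IsZero (K₃.homology (a - 1)) :=
    (hH S.X₃).of_iso ((HomologicalComplex.homologyFunctor _ _ (a - 1)).mapIso
      ((NatIso.mapHomologicalComplex (tensorRightModIso S.X₃).symm (ComplexShape.up ℤ)).app E))
  have hmono : Mono (HomologicalComplex.homologyMap φ a) :=
    (hSS.homology_exact₁ (a - 1) a (by simp)).mono_g_iff.2 (hK₃.eq_of_src _ _)
  have hop : Mono (HomologicalComplex.opcyclesMap φ a) := by
    refine Preadditive.mono_of_cancel_zero _ fun {W} z hz => ?_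
    have h1 : z ≫ K₁.fromOpcycles a (a + 1) = 0 := by
      have : Mono (φ.f (a + 1)) := (hSS.map_of_exact (HomologicalComplex.eval _ _ (a + 1))).mono_f
      have nat : K₁.fromOpcycles a (a + 1) ≫ φ.f (a + 1) =
          HomologicalComplex.opcyclesMap φ a ≫ K₂.fromOpcycles a (a + 1) := by
        rw [← cancel_epi (K₁.pOpcycles a)]; simp
      rw [← cancel_mono (φ.f (a + 1)), Category.assoc, nat, reassoc_of% hz, zero_comp, zero_comp]
    let w : W ⟶ K₁.homology a :=
      (K₁.homologyIsKernel a (a + 1) (by simp)).lift (KernelFork.ofι z h1) ≫ 𝟙 _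
    have hw : w ≫ K₁.homologyι a = z := by
      simp only [w, Category.comp_id]
      exact (K₁.homologyIsKernel a (a + 1) (by simp)).fac (KernelFork.ofι z h1) WalkingParallelPair.zero
    have hw0 : w = 0 := by
      rw [← cancel_mono (HomologicalComplex.homologyMap φ a), zero_comp,
        ← cancel_mono (K₂.homologyι a), zero_comp, Category.assoc,
        HomologicalComplex.homologyι_naturality, reassoc_of% hw]
      exact hz
    rw [← hw, hw0, zero_comp]
  have hcolim : ∀ G : X.Modules, IsColimit (CokernelCofork.ofπ ((T.obj G).map (E.pOpcycles a))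
      (show (T.obj G).map (E.d (a - 1) a) ≫ (T.obj G).map (E.pOpcycles a) = 0 by
        rw [← Functor.map_comp, HomologicalComplex.d_pOpcycles, Functor.map_zero])) := fun G =>
    CokernelCofork.mapIsColimit _ (E.opcyclesIsCokernel (a - 1) a (by simp)) (T.obj G)
  let e : ∀ G : X.Modules, (((T.obj G).mapHomologicalComplex (ComplexShape.up ℤ)).obj E).opcycles a ≅
      (T.obj G).obj (E.opcycles a) := fun G =>
    IsColimit.coconePointUniqueUpToIso
      ((((T.obj G).mapHomologicalComplex (ComplexShape.up ℤ)).obj E).opcyclesIsCokernel (a - 1) a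
        (by simp)) (hcolim G)
  have he : ∀ G : X.Modules,
      (((T.obj G).mapHomologicalComplex (ComplexShape.up ℤ)).obj E).pOpcycles a ≫ (e G).hom =
        (T.obj G).map (E.pOpcycles a) := fun G =>
    IsColimit.comp_coconePointUniqueUpToIso_hom _ (hcolim G) WalkingParallelPair.one
  have key : HomologicalComplex.opcyclesMap φ a ≫ (e G₂).hom =
      (e G₁).hom ≫ ((DCoh.tensorBi (X := X)).obj (E.opcycles a)).map g := by
    rw [← cancel_epi (K₁.pOpcycles a), ← Category.assoc, HomologicalComplex.p_opcyclesMap,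
      Category.assoc, ← Category.assoc (K₁.pOpcycles a)]
    erw [he G₂, he G₁]
    exact ((T.map g).naturality (E.pOpcycles a)).symm
  rw [show ((DCoh.tensorBi (X := X)).obj (E.opcycles a)).map g =
    (e G₁).inv ≫ HomologicalComplex.opcyclesMap φ a ≫ (e G₂).hom by rw [key, Iso.inv_hom_id_assoc]]
  infer_instance

/-- Bounded above complexes have resolutions by flat modules. -/
theorem exists_flat_resolution (K : CochainComplex X.Modules ℤ) (b : ℤ) [K.IsStrictlyLE b] :
    ∃ (Q : CochainComplex X.Modules ℤ) (α : Q ⟶ K), Q.IsStrictlyLE b ∧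
      (∀ n, FlatMod.IsFlat (Q.X n)) ∧ QuasiIso α := by
  obtain ⟨Q, α, h₁, h₂, -, h₃⟩ := Resolution.exists_left_resolution (A := X.Modules)
    (fun M => FlatMod.IsFlat M) ⟨_, isZero_zero _, isFlat_of_isZero (isZero_zero _)⟩
    (fun M => ⟨(cover (X := X)).obj M, (coverπ (X := X)).app M, isFlat_cover M, inferInstance⟩) K b
  exact ⟨Q, α, h₁, h₂, h₃⟩

/-- Vanishing of `H^i(K ⊗^L M)` passes to `H^i(E ⊗ M)` for a flat representative `E`. -/
theorem isZero_homology_tensorC {K : DCoh.D X} (E : CochainComplex X.Modules ℤ) (n : ℤ)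
    [E.IsStrictlyLE n] (hE : ∀ q, FlatMod.IsFlat (E.X q)) (e : DCoh.toD X E ≅ K) (M : X.Modules)
    [DCoh.HasLTensorMod M] (i : ℤ) (h : IsZero (DCoh.HD ((DCoh.LTensorMod M).obj K) i)) :
    IsZero ((tensorC M E).homology i) :=
  h.of_iso ((hdLTensorModIso M E (lkflat_of_boundedAbove E n
    (fun q hq => E.isZero_of_isStrictlyLE n q hq) hE) i).symm ≪≫
      (DerivedCategory.homologyFunctor X.Modules i).mapIso ((DCoh.LTensorMod M).mapIso e))

/-- The structure sheaf as a module. -/
noncomputable abbrev unitMod (X : Scheme.{u}) : X.Modules := SheafOfModules.unit X.ringCatSheaf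

/-- `M ⊗ O_X ≅ M`. -/
noncomputable def tensorUnitModIso : DCoh.tensorRightMod (unitMod X) ≅ 𝟭 X.Modules :=
  haveI : (SheafOfModules.forget.{u} X.ringCatSheaf ⋙
      PresheafOfModules.restrictScalars.{u} (𝟙 X.ringCatSheaf.obj)).Full :=
    inferInstanceAs (SheafOfModules.forget.{u} X.ringCatSheaf ⋙ 𝟭 _).Full
  haveI : (SheafOfModules.forget.{u} X.ringCatSheaf ⋙
      PresheafOfModules.restrictScalars.{u} (𝟙 X.ringCatSheaf.obj)).Faithful :=
    inferInstanceAs (SheafOfModules.forget.{u} X.ringCatSheaf ⋙ 𝟭 _).Faithful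
  haveI hc := Adjunction.counit_isIso_of_R_fully_faithful
    (PresheafOfModules.sheafificationAdjunction.{u, u, u, u} (R := X.ringCatSheaf)
      (𝟙 X.ringCatSheaf.obj))
  Functor.isoWhiskerLeft DCoh.toP (Functor.isoWhiskerRight
    (rightUnitorNatIso (CohB1.PMod X)) DCoh.shP) ≪≫
  @asIso _ _ _ _ (PresheafOfModules.sheafificationAdjunction.{u, u, u, u} (R := X.ringCatSheaf)
    (𝟙 X.ringCatSheaf.obj)).counit hc

end Groth.Agent.H16Derived.KFlat.Stalk
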