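import Groth.Agent.H16Derived.KFlat.FinLocFree
import Groth.Agent.H16Derived.KFlat.FlatCriterion
import Groth.Agent.H10Coh.QCohOps

/-!
# Derived pullback and restriction to opens; pullback of perfect and pseudo-coherent objects
-/

set_option autoImplicit false
set_option linter.style.haveILetI false

universe u

open CategoryTheory CategoryTheory.Limits AlgebraicGeometry Pretriangulated

attribute [local instance] HasDerivedCategory.standard

namespace Groth.Agent.H16Derived.KFlat.Stalk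

variable {X Y : Scheme.{u}}

/-- Every object of `D(O_X)` is represented by a K-flat complex. -/
theorem exists_kflat_rep (E : DCoh.D X) :
    ∃ P : CochainComplex X.Modules ℤ, kflat X P ∧ Nonempty (DCoh.toD X P ≅ E) := by
  let G := DerivedCategory.Q.objPreimage E
  haveI : IsIso (DerivedCategory.Q.map ((resψ (X := X)).app G)) :=
    Localization.inverts _ (HomologicalComplex.quasiIso X.Modules (ComplexShape.up ℤ)) _
      (quasiIso_resψ G)
  exact ⟨_, isKFlat_res G,
    ⟨asIso (DerivedCategory.Q.map ((resψ (X := X)).app G)) ≪≫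
      DerivedCategory.Q.objObjPreimageIso E⟩⟩

/-- Restriction to an open respects isomorphisms in the derived category. -/
noncomputable def restrictQIso (V : X.Opens) {F G : CochainComplex X.Modules ℤ}
    (e : DCoh.toD X F ≅ DCoh.toD X G) :
    DerivedCategory.Q.obj ((DCoh.restrictCx V).obj F) ≅
      DerivedCategory.Q.obj ((DCoh.restrictCx V).obj G) :=
  (Scheme.Modules.restrictFunctor V.ι).mapDerivedCategoryFactors.symm.app F ≪≫
    (Scheme.Modules.restrictFunctor V.ι).mapDerivedCategory.mapIso e ≪≫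
    (Scheme.Modules.restrictFunctor V.ι).mapDerivedCategoryFactors.app G

/-- Restriction commutes with pullback, on complexes. -/
noncomputable def pullbackRestrictCxIso (f : X ⟶ Y) (V : Y.Opens)
    (P : CochainComplex Y.Modules ℤ) :
    (DCoh.restrictCx (f ⁻¹ᵁ V)).obj
        (((Scheme.Modules.pullback f).mapHomologicalComplex (ComplexShape.up ℤ)).obj P) ≅
      ((Scheme.Modules.pullback (f ∣_ V)).mapHomologicalComplex (ComplexShape.up ℤ)).obj
        ((DCoh.restrictCx V).obj P) :=
  HomologicalComplex.Hom.isoOfComponents (fun i => (pullbackRestrictIso f V).app (P.X i))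
    fun i j _ => ((pullbackRestrictIso f V).hom.naturality (P.d i j)).symm

/-- The restriction of a K-flat complex is K-flat. -/
theorem kflat_restrict (V : X.Opens) {P : CochainComplex X.Modules ℤ} (hP : kflat X P) :
    kflat (V : Scheme.{u}) ((DCoh.restrictCx V).obj P) :=
  IsKFlat.of_iso ((NatIso.mapHomologicalComplex (Scheme.Modules.restrictFunctorIsoPullback V.ι).symm
    (ComplexShape.up ℤ)).app P) (isKFlat_pullback V.ι hP)

/-- A representative of `Lf^* E`, restricted to `f⁻¹ V`, is the pullback of `P|_V`. -/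
noncomputable def restrictLpullIso (f : X ⟶ Y) [DCoh.HasLpull f] (V : Y.Opens) {E : DCoh.D Y}
    {P : CochainComplex Y.Modules ℤ} (hP : kflat Y P) (e : DCoh.toD Y P ≅ E)
    {F : CochainComplex X.Modules ℤ} (eF : DCoh.toD X F ≅ (DCoh.Lpull f).obj E) :
    DerivedCategory.Q.obj ((DCoh.restrictCx (f ⁻¹ᵁ V)).obj F) ≅
      DerivedCategory.Q.obj (((Scheme.Modules.pullback (f ∣_ V)).mapHomologicalComplex
        (ComplexShape.up ℤ)).obj ((DCoh.restrictCx V).obj P)) :=
  restrictQIso (f ⁻¹ᵁ V) (eF ≪≫ (DCoh.Lpull f).mapIso e.symm ≪≫ lpullObjIso f P hP) ≪≫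
    DerivedCategory.Q.mapIso (pullbackRestrictCxIso f V P)

/-- `Lf^*` is right t-exact. -/
theorem isLE_lpull (f : X ⟶ Y) [DCoh.HasLpull f] (C : DCoh.D Y) (b : ℤ) [C.IsLE b] :
    DerivedCategory.IsLE ((DCoh.Lpull f).obj C) b := by
  obtain ⟨K, hK, ⟨e⟩⟩ := C.exists_iso_Q_obj_of_isLE b
  haveI := hK
  obtain ⟨Q, α, hQ, hflat, hα⟩ := exists_flat_resolution K b
  haveI := hQ
  haveI : IsIso (DerivedCategory.Q.map α) :=
    Localization.inverts _ (HomologicalComplex.quasiIso Y.Modules (ComplexShape.up ℤ)) α hα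
  let i : (DCoh.Lpull f).obj C ≅ _ :=
    (DCoh.Lpull f).mapIso (e ≪≫ (asIso (DerivedCategory.Q.map α)).symm) ≪≫
      lpullObjIso f Q (kflat_of_boundedAbove Q b
        (fun q hq => Q.isZero_of_isStrictlyLE b q hq) hflat)
  haveI : CochainComplex.IsStrictlyLE
      (((Scheme.Modules.pullback f).mapHomologicalComplex (ComplexShape.up ℤ)).obj Q) b :=
    (CochainComplex.isStrictlyLE_iff _ _).2 fun n hn =>
      (Scheme.Modules.pullback f).map_isZero (Q.isZero_of_isStrictlyLE b n hn)
  rw [DerivedCategory.isLE_iff]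
  intro n hn
  refine IsZero.of_iso ?_ ((DerivedCategory.homologyFunctor X.Modules n).mapIso i)
  exact DerivedCategory.isZero_of_isLE _ b n hn

/-- A morphism of `D` whose cone is `≤ m - 1`. -/
theorem isLE_cone_iff {A : Type*} [Category A] [Abelian A] [HasDerivedCategory A]
    (T : Triangle (DerivedCategory A)) (hT : T ∈ distTriang (DerivedCategory A)) (m : ℤ) :
    DerivedCategory.IsLE T.obj₃ (m - 1) ↔
      (∀ i : ℤ, m < i → IsIso ((DerivedCategory.homologyFunctor A i).map T.mor₁)) ∧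
        Epi ((DerivedCategory.homologyFunctor A m).map T.mor₁) := by
  rw [DerivedCategory.isLE_iff]
  constructor
  · intro h
    have hepi : ∀ i, m ≤ i → Epi ((DerivedCategory.homologyFunctor A i).map T.mor₁) := fun i hi =>
      (DerivedCategory.HomologySequence.epi_homologyMap_mor₁_iff T hT i).2
        ((h i (by omega)).eq_of_tgt _ _)
    refine ⟨fun i hi => ?_, hepi m le_rfl⟩
    haveI := hepi i hi.le
    haveI : Mono ((DerivedCategory.homologyFunctor A i).map T.mor₁) :=
      (DerivedCategory.HomologySequence.mono_homologyMap_mor₁_iff T hT (i - 1) i (by omega)).2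
        ((h (i - 1) (by omega)).eq_of_src _ _)
    exact isIso_of_mono_of_epi _
  · rintro ⟨hiso, hepi⟩ i hi
    refine ShortComplex.Exact.isZero_of_both_zeros
      (DerivedCategory.HomologySequence.exact₃ T hT i (i + 1) rfl) ?_ ?_
    · refine (DerivedCategory.HomologySequence.epi_homologyMap_mor₁_iff T hT i).1 ?_
      rcases eq_or_lt_of_le (show m ≤ i by omega) with h | h
      · subst h; exact hepi
      · haveI := hiso i h; infer_instance
    · refine (DerivedCategory.HomologySequence.mono_homologyMap_mor₁_iff T hT i (i + 1) rfl).1 ?_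
      haveI := hiso (i + 1) (by omega)
      infer_instance

/-- `Lf^*` preserves perfect objects. -/
theorem isPerfect_lpull (f : X ⟶ Y) [DCoh.HasLpull f] {E : DCoh.D Y} (hE : DCoh.IsPerfect E) :
    DCoh.IsPerfect ((DCoh.Lpull f).obj E) := by
  obtain ⟨P, hP, ⟨e⟩⟩ := exists_kflat_rep E
  intro x
  obtain ⟨V, hx, hV⟩ := hE (f.base x)
  obtain ⟨S, hS, ⟨θ⟩⟩ := hV P ⟨e⟩
  haveI := hasLpull (f ∣_ V)
  refine ⟨f ⁻¹ᵁ V, hx, fun F hF => ?_⟩
  obtain ⟨eF⟩ := hF
  exact ⟨_, isStrictlyPerfect_pullback (f ∣_ V) hS,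
    ⟨restrictLpullIso f V hP e eF ≪≫
      (lpullObjIso (f ∣_ V) _ (kflat_restrict V hP)).symm ≪≫
      (DCoh.Lpull (f ∣_ V)).mapIso θ ≪≫
      lpullObjIso (f ∣_ V) S (kflat_of_isStrictlyPerfect hS)⟩⟩

/-- `Lf^*` preserves pseudo-coherent objects. -/
theorem isPseudoCoherentD_lpull (f : X ⟶ Y) [DCoh.HasLpull f] {m : ℤ} {E : DCoh.D Y}
    (hE : DCoh.IsPseudoCoherentD m E) : DCoh.IsPseudoCoherentD m ((DCoh.Lpull f).obj E) := by
  obtain ⟨P, hP, ⟨e⟩⟩ := exists_kflat_rep E
  intro x
  obtain ⟨V, hx, hV⟩ := hE (f.base x)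
  obtain ⟨S, α, hS, hα₁, hα₂⟩ := hV P ⟨e⟩
  haveI := hasLpull (f ∣_ V)
  letI := lpullCommShift (f ∣_ V)
  haveI := lpull_isTriangulated (f ∣_ V)
  obtain ⟨C, β, γ, hT⟩ := distinguished_cocone_triangle α
  haveI : DerivedCategory.IsLE C (m - 1) := (isLE_cone_iff _ hT m).2 ⟨hα₁, hα₂⟩
  let L := DCoh.Lpull (f ∣_ V)
  haveI : DerivedCategory.IsLE (L.obj C) (m - 1) := isLE_lpull (f ∣_ V) C (m - 1)
  obtain ⟨h₁, h₂⟩ := (isLE_cone_iff _ (L.map_distinguished _ hT) m).1
    (by exact this)
  refine ⟨f ⁻¹ᵁ V, hx, fun F hF => ?_⟩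
  obtain ⟨eF⟩ := hF
  let s := lpullObjIso (f ∣_ V) S (kflat_of_isStrictlyPerfect hS)
  let t := lpullObjIso (f ∣_ V) _ (kflat_restrict V hP) ≪≫ (restrictLpullIso f V hP e eF).symm
  refine ⟨_, s.inv ≫ L.map α ≫ t.hom, isStrictlyPerfect_pullback (f ∣_ V) hS, fun i hi => ?_, ?_⟩
  · haveI : IsIso ((DerivedCategory.homologyFunctor _ i).map (L.map α)) := h₁ i hi
    rw [Functor.map_comp, Functor.map_comp]
    infer_instance
  · haveI : Epi ((DerivedCategory.homologyFunctor _ m).map (L.map α)) := h₂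
    rw [Functor.map_comp, Functor.map_comp]
    infer_instance

end Groth.Agent.H16Derived.KFlat.Stalk
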