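import Groth.Agent.H16Derived.KFlat.PushPull
import Groth.Agent.H16Derived.ExactAdj
import Groth.Agent.H16Derived.KFlat.LpullLocal
import Groth.Agent.H15Site.ModOver
import Groth.Agent.H10Coh.BaseChange
import Groth.Prelude.Def_CxOX

/-!
# Restriction to opens, extension by zero, flat pullback
-/

set_option autoImplicit false
set_option linter.style.haveILetI false

universe u

open CategoryTheory CategoryTheory.Limits CategoryTheory.Functor AlgebraicGeometry MonoidalCategory TensorProduct

attribute [local instance] HasDerivedCategory.standard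
attribute [local instance] Groth.Agent.H06Mod.stalkAlgebra

namespace Groth.Agent.H16Derived.KFlat.Stalk

open Groth.Agent.H06Mod

variable {X Y : Scheme.{u}}

/-- Extension by zero from an open is exact. -/
theorem preservesFiniteLimits_extZero (U : X.Opens) : PreservesFiniteLimits (CxOX.extZero U.ι) := by
  have h2 := H15Site.ModOver.preservesFiniteLimits_extZero X.sheaf U
  have h3 : PreservesFiniteLimits (Scheme.Modules.overEquiv U).inverse := inferInstance
  exact ⟨fun J _ _ =>
    have hc := @comp_preservesLimitsOfShape _ _ _ _ _ _ _ _ (Scheme.Modules.overEquiv U).inverse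
      (ModSite.extZero X.sheaf U) (h3.preservesFiniteLimits J) (h2.preservesFiniteLimits J)
    @preservesLimitsOfShape_of_natIso _ _ _ _ _ _ _ _ (CxOX.extZeroIsoSite U).symm hc⟩

/-- Pullback along a flat morphism is exact. -/
theorem preservesFiniteLimits_pullback_of_flat (f : X ⟶ Y) [AlgebraicGeometry.Flat f] :
    PreservesFiniteLimits (Scheme.Modules.pullback f) := by
  suffices h : ∀ (S : ShortComplex Y.Modules), S.Exact → (S.map (Scheme.Modules.pullback f)).Exact from
    (((Functor.exact_tfae (Scheme.Modules.pullback f)).out 1 3 :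
      _ ↔ PreservesFiniteLimits _ ∧ PreservesFiniteColimits _).mp h).1
  intro S hS
  refine (exact_iff _).2 fun x => ?_
  haveI : Module.Flat (Y.presheaf.stalk (f.base x)) (X.presheaf.stalk x) :=
    AlgebraicGeometry.Flat.stalkMap f x
  have h : ((S.map (DerSch.stalkFunctor Y (f.base x))).map (tensorLeft (pullRing f x))).Exact :=
    (ShortComplex.ShortExact.moduleCat_exact_iff_function_exact _).2
      (Module.Flat.lTensor_exact _
        ((ShortComplex.ShortExact.moduleCat_exact_iff_function_exact _).1 ((exact_iff _).1 hS (f.base x))))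
  rw [ShortComplex.exact_iff_exact_map_forget₂] at h ⊢
  exact ShortComplex.exact_of_iso (S.mapNatIso (pullStalkNatIso f x)) h

/-- `Rf_*` is left t-exact. -/
theorem isGE_rpush (f : X ⟶ Y) [DCoh.HasRpush f] (F : DCoh.D X) (n : ℤ) [hF : F.IsGE n] :
    DerivedCategory.IsGE ((DCoh.Rpush f).obj F) n := by
  haveI := hasLpull f
  refine (DerivedCategory.TStructure.t.isGE_iff_orthogonal (n - 1) n (by omega) _).2 fun C g hC => ?_
  haveI : DerivedCategory.IsLE C (n - 1) := hC
  haveI := isLE_lpull f C (n - 1)
  let a := lpullRpushAdj f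
  have h0 : (a.homEquiv C F).symm g = 0 :=
    DerivedCategory.TStructure.t.zero_of_isLE_of_isGE _ (n - 1) n (by omega) inferInstance hF
  letI := lpullCommShift f
  haveI := lpull_isTriangulated f
  haveI := a.right_adjoint_additive
  rw [← (a.homEquiv C F).apply_symm_apply g, h0, a.homEquiv_unit, Functor.map_zero, comp_zero]

/-- Restriction to an open preserves K-injective complexes. -/
theorem isKInjective_restrict (U : X.Opens) (I : CochainComplex X.Modules ℤ) [I.IsKInjective] :
    CochainComplex.IsKInjective ((DCoh.restrictCx U).obj I) :=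
  haveI := preservesFiniteLimits_extZero U
  ExactAdj.isKInjective_map (CxOX.extZeroAdj U.ι) I

/-- Direct image commutes with restriction to an open of the target. -/
noncomputable def pushRestrictNatIso (f : X ⟶ Y) (V : Y.Opens) :
    Scheme.Modules.pushforward f ⋙ Scheme.Modules.restrictFunctor V.ι ≅
      Scheme.Modules.restrictFunctor (f ⁻¹ᵁ V).ι ⋙ Scheme.Modules.pushforward (f ∣_ V) :=
  NatIso.ofComponents (fun M => H10Coh.pushRestrictIso (isPullback_morphismRestrict f V) M)
    (fun {M N} φ => Scheme.Modules.hom_ext _ _ fun W => by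
      show φ.app (f ⁻¹ᵁ (V.ι ''ᵁ W)) ≫
          (H10Coh.pushRestrictHom (isPullback_morphismRestrict f V) N).app W =
        (H10Coh.pushRestrictHom (isPullback_morphismRestrict f V) M).app W ≫
          φ.app ((f ⁻¹ᵁ V).ι ''ᵁ ((f ∣_ V) ⁻¹ᵁ W))
      rw [H10Coh.pushRestrictHom_app, H10Coh.pushRestrictHom_app]
      exact (((Scheme.Modules.toPresheaf X).map φ).naturality _).symm)

/-- The same, from the homotopy category to the derived category. -/
noncomputable def pushKhRestrictIso (f : X ⟶ Y) (V : Y.Opens) :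
    DCoh.pushKh f ⋙ DCoh.restrictD V.ι ≅
      (Scheme.Modules.restrictFunctor (f ⁻¹ᵁ V).ι).mapHomotopyCategory (ComplexShape.up ℤ) ⋙
        DCoh.pushKh (f ∣_ V) :=
  Functor.associator _ _ _ ≪≫
    Functor.isoWhiskerLeft _ (Scheme.Modules.restrictFunctor V.ι).mapDerivedCategoryFactorsh ≪≫
    (Functor.associator _ _ _).symm ≪≫
    Functor.isoWhiskerRight
      (NatIso.ofComponents (fun K => (HomotopyCategory.quotient _ _).mapIso
        ((NatIso.mapHomologicalComplex (pushRestrictNatIso f V) _).app K.as))
        (by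
          rintro ⟨K⟩ ⟨L⟩ ⟨φ⟩
          refine ((HomotopyCategory.quotient _ _).map_comp _ _).symm.trans (Eq.trans ?_
            ((HomotopyCategory.quotient _ _).map_comp _ _))
          refine congrArg (HomotopyCategory.quotient _ _).map ?_
          refine HomologicalComplex.hom_ext _ _ fun i => ?_
          exact (pushRestrictNatIso f V).hom.naturality (φ.f i)) :
        (Scheme.Modules.pushforward f).mapHomotopyCategory (ComplexShape.up ℤ) ⋙
            (Scheme.Modules.restrictFunctor V.ι).mapHomotopyCategory (ComplexShape.up ℤ) ≅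
          (Scheme.Modules.restrictFunctor (f ⁻¹ᵁ V).ι).mapHomotopyCategory (ComplexShape.up ℤ) ⋙
            (Scheme.Modules.pushforward (f ∣_ V)).mapHomotopyCategory (ComplexShape.up ℤ))
      DerivedCategory.Qh ≪≫ Functor.associator _ _ _

/-- `(Rf_* -)|_V ≅ Rg_* (-|_U)`. -/
theorem nonempty_restrictD_rpush_iso (f : X ⟶ Y) (V : Y.Opens) [DCoh.HasRpush f]
    [DCoh.HasRpush (f ∣_ V)] :
    Nonempty (DCoh.Rpush f ⋙ DCoh.restrictD V.ι ≅
      DCoh.restrictD (f ⁻¹ᵁ V).ι ⋙ DCoh.Rpush (f ∣_ V)) := by
  let r := Scheme.Modules.restrictFunctor (f ⁻¹ᵁ V).ι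
  let G := DCoh.restrictD (f ⁻¹ᵁ V).ι ⋙ DCoh.Rpush (f ∣_ V)
  let α : DCoh.pushKh f ⋙ DCoh.restrictD V.ι ⟶ DerivedCategory.Qh ⋙ G :=
    (pushKhRestrictIso f V).hom ≫
      whiskerLeft (r.mapHomotopyCategory (ComplexShape.up ℤ)) (rpushUnit (f ∣_ V)) ≫
      (Functor.associator _ _ _).inv ≫
      whiskerRight r.mapDerivedCategoryFactorsh.inv (DCoh.Rpush (f ∣_ V)) ≫
      (Functor.associator _ _ _).hom
  haveI : G.IsRightDerivedFunctor α (HomotopyCategory.quasiIso X.Modules (ComplexShape.up ℤ)) := by
    refine RDerived.isRightDerivedFunctor_of_isIso_local _ _ _ _ _ fun M => ?_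
    obtain ⟨I, hI, s, hs⟩ := exists_local M
    refine ⟨_, s, hs, fun K => CochainComplex.IsKInjective.Qh_map_bijective K I, ?_⟩
    haveI := isKInjective_restrict (f ⁻¹ᵁ V) I
    haveI : IsIso ((rpushUnit (f ∣_ V)).app
        ((r.mapHomotopyCategory (ComplexShape.up ℤ)).obj ((HomotopyCategory.quotient _ _).obj I))) :=
      isIso_rpushUnit (f ∣_ V) ((DCoh.restrictCx (f ⁻¹ᵁ V)).obj I)
    simp only [α, NatTrans.comp_app, associator_hom_app, associator_inv_app, whiskerRight_app,
      whiskerLeft_app]
    infer_instance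
  haveI := isRightDerived_rpush_comp f (DCoh.restrictD V.ι)
  exact ⟨Functor.rightDerivedUnique (DCoh.Rpush f ⋙ DCoh.restrictD V.ι) G
    (whiskerRight (rpushUnit f) (DCoh.restrictD V.ι) ≫ (Functor.associator _ _ _).hom) α
    (HomotopyCategory.quasiIso X.Modules (ComplexShape.up ℤ))⟩

end Groth.Agent.H16Derived.KFlat.Stalk
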