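import Groth.Agent.H16Derived.KFlat.Resolution
import Groth.Agent.H16Derived.AcyclicLES
import Mathlib.Algebra.Homology.BifunctorShift
import Mathlib.Algebra.Homology.HomotopyCategory.DegreewiseSplit

/-!
# Shifts, cones and sums of K-flat complexes; factorization through a K-flat complex
-/

set_option autoImplicit false

universe v v' v'' u u' u''

open CategoryTheory CategoryTheory.Limits CochainComplex CochainComplex.HomComplex

namespace Groth.Agent.H16Derived.KFlat

variable {A : Type u} [Category.{v} A] [Abelian A] {B : Type u'} [Category.{v'} B] [Abelian B]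
  {C : Type u''} [Category.{v''} C] [Abelian C] [HasCountableCoproducts C]
  {F : A ⥤ B ⥤ C} [F.Additive] [∀ a, (F.obj a).Additive]

lemma acyclic_shift {K : CochainComplex C ℤ} (h : K.Acyclic) (n : ℤ) :
    ((K⟦n⟧ : CochainComplex C ℤ)).Acyclic := fun i => by
  rw [HomologicalComplex.exactAt_iff_isZero_homology]
  exact (h (n + i)).isZero_homology.of_iso
    (((HomologicalComplex.homologyFunctor C (ComplexShape.up ℤ) 0).shiftIso n i (n + i) rfl).app K)

lemma IsKFlat.shift {E : CochainComplex B ℤ} (h : IsKFlat F E) (n : ℤ) :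
    IsKFlat F (E⟦n⟧) := fun L hL =>
  acyclic_of_iso (CochainComplex.mapBifunctorShift₂Iso L E F n).symm (acyclic_shift (h L hL) n)

variable [CountableAB4 C]

lemma IsKFlat.mappingCone {E E' : CochainComplex B ℤ} (u : E ⟶ E') (hE : IsKFlat F E)
    (hE' : IsKFlat F E') : IsKFlat F (CochainComplex.mappingCone u) :=
  (isFSES_of_splitting (F := F) (CochainComplex.mappingCone.triangleRotateShortComplex u) fun q =>
    ⟨CochainComplex.mappingCone.triangleRotateShortComplexSplitting u q⟩).isKFlat₂ hE' (hE.shift 1)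

lemma IsKFlat.biprod {E E' : CochainComplex B ℤ} (hE : IsKFlat F E) (hE' : IsKFlat F E') :
    IsKFlat F (E ⊞ E') :=
  (isFSES_of_splitting (F := F) (ShortComplex.mk (biprod.inl : E ⟶ E ⊞ E') biprod.snd (by simp))
    fun q => ⟨(ShortComplex.Splitting.mk (biprod.fst : E ⊞ E' ⟶ E) biprod.inr (by simp) (by simp)
      (by simp)).map (HomologicalComplex.eval B (ComplexShape.up ℤ) q)⟩).isKFlat₂ hE hE'

omit [HasCountableCoproducts C] [CountableAB4 C] in
lemma isFlatObj_mappingCone_X {E E' : CochainComplex B ℤ} (u : E ⟶ E')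
    (hE : ∀ q, IsFlatObj F (E.X q)) (hE' : ∀ q, IsFlatObj F (E'.X q)) (q : ℤ) :
    IsFlatObj F ((CochainComplex.mappingCone u).X q) :=
  isFlatObj_of_sum _ _ _ _ (CochainComplex.mappingCone.id_X u q (q + 1) rfl) (hE _) (hE' _)

omit [HasCountableCoproducts C] [CountableAB4 C] in
lemma isFlatObj_biprod_X {E E' : CochainComplex B ℤ} (hE : ∀ q, IsFlatObj F (E.X q))
    (hE' : ∀ q, IsFlatObj F (E'.X q)) (q : ℤ) : IsFlatObj F ((E ⊞ E').X q) :=
  isFlatObj_of_sum ((biprod.inl : E ⟶ E ⊞ E').f q) ((biprod.fst : E ⊞ E' ⟶ E).f q)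
    ((biprod.inr : E' ⟶ E ⊞ E').f q) ((biprod.snd : E ⊞ E' ⟶ E').f q)
    (by rw [← HomologicalComplex.comp_f, ← HomologicalComplex.comp_f,
      ← HomologicalComplex.add_f_apply, biprod.total, HomologicalComplex.id_f]) (hE _) (hE' _)

section Factor

variable {V : Type u'} [Category.{v'} V] [Abelian V] {P K R : CochainComplex V ℤ}
  (u : P ⟶ K) (v : P ⟶ R) (φ : P ⟶ K ⊞ R) (hφ : φ ≫ biprod.fst = u)

omit hφ in
/-- `R → cone(P → K ⊞ R)`. -/
noncomputable def coneInr : R ⟶ CochainComplex.mappingCone φ :=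
  biprod.inr ≫ CochainComplex.mappingCone.inr φ

/-- `cone(P → K ⊞ R) → cone(P → K)`. -/
noncomputable def coneProj : CochainComplex.mappingCone φ ⟶ CochainComplex.mappingCone u :=
  CochainComplex.mappingCone.map φ u (𝟙 P) biprod.fst (by rw [Category.id_comp, hφ])

lemma coneInr_coneProj : coneInr φ ≫ coneProj u φ hφ = 0 := by
  simp [coneInr, coneProj, CochainComplex.mappingCone.map]

omit hφ in
lemma fst_snd_f (q : ℤ) :
    (biprod.fst : K ⊞ R ⟶ K).f q ≫ (biprod.inl : K ⟶ K ⊞ R).f q +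
      (biprod.snd : K ⊞ R ⟶ R).f q ≫ (biprod.inr : R ⟶ K ⊞ R).f q = 𝟙 _ := by
  rw [← HomologicalComplex.comp_f, ← HomologicalComplex.comp_f,
    ← HomologicalComplex.add_f_apply, biprod.total, HomologicalComplex.id_f]

omit hφ in
lemma inr_snd_f (q : ℤ) :
    (biprod.inr : R ⟶ K ⊞ R).f q ≫ (biprod.snd : K ⊞ R ⟶ R).f q = 𝟙 _ := by
  rw [← HomologicalComplex.comp_f, biprod.inr_snd, HomologicalComplex.id_f]

omit hφ in
@[reassoc]
lemma inl_fst_f (q : ℤ) :
    (biprod.inl : K ⟶ K ⊞ R).f q ≫ (biprod.fst : K ⊞ R ⟶ K).f q = 𝟙 _ := by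
  rw [← HomologicalComplex.comp_f, biprod.inl_fst, HomologicalComplex.id_f]

/-- The degreewise splitting. -/
noncomputable def coneSplitting (q : ℤ) :
    ((ShortComplex.mk (coneInr φ) (coneProj u φ hφ) (coneInr_coneProj u φ hφ)).map
      (HomologicalComplex.eval V (ComplexShape.up ℤ) q)).Splitting where
  r := (CochainComplex.mappingCone.snd φ).v q q (add_zero q) ≫ (biprod.snd : K ⊞ R ⟶ R).f q
  s := (CochainComplex.mappingCone.fst u).1.v q (q + 1) rfl ≫
      (CochainComplex.mappingCone.inl φ).v (q + 1) q (by lia) +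
    (CochainComplex.mappingCone.snd u).v q q (add_zero q) ≫
      (biprod.inl : K ⟶ K ⊞ R).f q ≫ (CochainComplex.mappingCone.inr φ).f q
  f_r := by
    show (coneInr φ).f q ≫ (CochainComplex.mappingCone.snd φ).v q q (add_zero q) ≫
      (biprod.snd : K ⊞ R ⟶ R).f q = 𝟙 (R.X q)
    simp [coneInr, inr_snd_f]
  s_g := by
    show ((CochainComplex.mappingCone.fst u).1.v q (q + 1) rfl ≫
        (CochainComplex.mappingCone.inl φ).v (q + 1) q (by lia) +
      (CochainComplex.mappingCone.snd u).v q q (add_zero q) ≫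
        (biprod.inl : K ⟶ K ⊞ R).f q ≫ (CochainComplex.mappingCone.inr φ).f q) ≫
        (coneProj u φ hφ).f q = 𝟙 ((CochainComplex.mappingCone u).X q)
    apply CochainComplex.mappingCone.ext_from u (q + 1) q rfl <;>
      simp [coneProj, CochainComplex.mappingCone.map, inl_fst_f_assoc]
  id := by
    show ((CochainComplex.mappingCone.snd φ).v q q (add_zero q) ≫
        (biprod.snd : K ⊞ R ⟶ R).f q) ≫ (coneInr φ).f q +
      (coneProj u φ hφ).f q ≫ ((CochainComplex.mappingCone.fst u).1.v q (q + 1) rfl ≫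
        (CochainComplex.mappingCone.inl φ).v (q + 1) q (by lia) +
      (CochainComplex.mappingCone.snd u).v q q (add_zero q) ≫
        (biprod.inl : K ⟶ K ⊞ R).f q ≫ (CochainComplex.mappingCone.inr φ).f q) =
      𝟙 ((CochainComplex.mappingCone φ).X q)
    apply CochainComplex.mappingCone.ext_from φ (q + 1) q rfl
    · simp [coneInr, coneProj, CochainComplex.mappingCone.map]
    · simp [coneInr, coneProj, CochainComplex.mappingCone.map]
      rw [← Category.assoc, ← Category.assoc ((biprod.fst : K ⊞ R ⟶ K).f q),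
        ← Preadditive.add_comp, add_comm, fst_snd_f, Category.id_comp]

include hφ in
lemma quasiIso_coneInr [QuasiIso u] : QuasiIso (coneInr φ) := by
  let S := ShortComplex.mk (coneInr φ) (coneProj u φ hφ) (coneInr_coneProj u φ hφ)
  have hS : S.ShortExact :=
    HomologicalComplex.shortExact_of_degreewise_shortExact S fun q => (coneSplitting u φ hφ q).shortExact
  exact Horseshoe.quasiIso_of_acyclic_cokernel hS ((AcyclicLES.quasiIso_iff_acyclic_mappingCone u).1 ‹_›)

end Factor

/-- A morphism `a : K ⟶ L` out of a K-flat complex factors as `K ⟶ N ⟶ L` with `N` K-flat and `N ⟶ L`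
a quasi-isomorphism, given resolutions `rK`, `rL` compatible with `a`. -/
theorem exists_factor {K L P Q : CochainComplex B ℤ} (a : K ⟶ L) (rK : P ⟶ K) [QuasiIso rK]
    (rL : Q ⟶ L) [QuasiIso rL] (a' : P ⟶ Q) (comm : a' ≫ rL = rK ≫ a)
    (hK : IsKFlat F K) (hP : IsKFlat F P) (hQ : IsKFlat F Q) :
    ∃ (N : CochainComplex B ℤ) (b : K ⟶ N) (c : N ⟶ L), IsKFlat F N ∧ QuasiIso c ∧ b ≫ c = a ∧
      ((∀ q, IsFlatObj F (K.X q)) → (∀ q, IsFlatObj F (P.X q)) → (∀ q, IsFlatObj F (Q.X q)) →
        ∀ q, IsFlatObj F (N.X q)) := by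
  let φ : P ⟶ K ⊞ Q := biprod.lift rK (-a')
  have h0 : φ ≫ biprod.desc a rL = 0 := by simp [φ, comm]
  let c : CochainComplex.mappingCone φ ⟶ L :=
    CochainComplex.mappingCone.desc φ 0 (biprod.desc a rL) (by simp [h0])
  have hc : coneInr φ ≫ c = rL := by simp [coneInr, c]
  refine ⟨CochainComplex.mappingCone φ, biprod.inl ≫ CochainComplex.mappingCone.inr φ, c,
    hP.mappingCone φ (hK.biprod hQ), ?_, by simp [c], fun h₁ h₂ h₃ =>
    isFlatObj_mappingCone_X φ h₂ (isFlatObj_biprod_X h₁ h₃)⟩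
  have h₁ : QuasiIso (coneInr φ) := quasiIso_coneInr rK φ (biprod.lift_fst _ _)
  have : QuasiIso (coneInr φ ≫ c) := by rw [hc]; infer_instance
  exact quasiIso_of_comp_left (coneInr φ) c

end Groth.Agent.H16Derived.KFlat
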