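import Groth.Agent.H16Derived.KFlat.Single
import Groth.Agent.H16Derived.AcyclicLES
import Groth.Agent.H16Derived.KFlat.Cone

/-!
# K-flat and acyclic; quasi-isomorphisms in the left variable
-/

set_option autoImplicit false

universe v v' v'' u u' u''

open CategoryTheory CategoryTheory.Limits

namespace Groth.Agent.H16Derived.KFlat

variable {A : Type u} [Category.{v} A] [Abelian A] {B : Type u'} [Category.{v'} B] [Abelian B]
  {C : Type u''} [Category.{v''} C] [Abelian C] [HasCountableCoproducts C] [CountableAB4 C]
  (F : A ⥤ B ⥤ C) [F.Additive] [∀ a, (F.obj a).Additive]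

/-- An acyclic K-flat complex stays acyclic after tensoring with every complex which has a resolution by a
complex K-flat on the other side. -/
theorem acyclic_tot_of_acyclic_of_isKFlat {W : CochainComplex B ℤ} (hW : W.Acyclic)
    (hK : IsKFlat F W) {L P : CochainComplex A ℤ} (r : P ⟶ L) [QuasiIso r]
    (hP : IsKFlat F.flip P) : ((tot F L).obj W).Acyclic := by
  have h : QuasiIso (((F.map₂CochainComplex).map r).app W) := quasiIso_left_map F r hK
  intro i
  rw [HomologicalComplex.exactAt_iff_isZero_homology]
  exact ((acyclic_tot_of_isKFlat_flip hP hW) i).isZero_homology.of_iso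
    (isoOfQuasiIsoAt (((F.map₂CochainComplex).map r).app W) i).symm

/-- A quasi-isomorphism between complexes K-flat on the left stays one after tensoring with any complex with a
K-flat resolution. -/
theorem quasiIso_left_map' {L L' : CochainComplex A ℤ} (φ : L ⟶ L') [QuasiIso φ]
    (hL : IsKFlat F.flip L) (hL' : IsKFlat F.flip L') {E P : CochainComplex B ℤ} (r : P ⟶ E)
    [QuasiIso r] (hP : IsKFlat F P) : QuasiIso (((F.map₂CochainComplex).map φ).app E) := by
  haveI : QuasiIso (((F.map₂CochainComplex).map φ).app P) := quasiIso_left_map F φ hP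
  haveI : QuasiIso ((tot F L).map r) := by
    exact quasiIso_tot_map_of_isKFlat_left F L r fun W hW => acyclic_tot_of_isKFlat_flip hL hW
  haveI : QuasiIso ((tot F L').map r) :=
    quasiIso_tot_map_of_isKFlat_left F L' r fun W hW => acyclic_tot_of_isKFlat_flip hL' hW
  haveI : QuasiIso ((tot F L).map r ≫ ((F.map₂CochainComplex).map φ).app E) := by
    rw [((F.map₂CochainComplex).map φ).naturality r]; infer_instance
  exact quasiIso_of_comp_left ((tot F L).map r) _

omit [CountableAB4 C] in
/-- A functor applied termwise preserves a quasi-isomorphism if it preserves the acyclicity of its cone. -/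
theorem quasiIso_map_of_cone {D : Type u'} [Category.{v'} D] [Abelian D] (G : D ⥤ C) [G.Additive]
    {K L : CochainComplex D ℤ} (φ : K ⟶ L) [QuasiIso φ]
    (h : (CochainComplex.mappingCone φ).Acyclic →
      ((G.mapHomologicalComplex (ComplexShape.up ℤ)).obj (CochainComplex.mappingCone φ)).Acyclic) :
    QuasiIso ((G.mapHomologicalComplex (ComplexShape.up ℤ)).map φ) := by
  rw [AcyclicLES.quasiIso_iff_acyclic_mappingCone]
  exact acyclic_of_iso (CochainComplex.mappingCone.mapHomologicalComplexIso φ G)
    (h ((AcyclicLES.quasiIso_iff_acyclic_mappingCone φ).1 ‹_›))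

end Groth.Agent.H16Derived.KFlat
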