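import Groth.Agent.H16Derived.KFlat.PullDerived
import Groth.Agent.H16Derived.LeftDerTri
import Groth.Agent.H16Derived.QCoprod

/-!
# Derived pullback and derived tensor products: triangulated, commute with coproducts

`letI := lpullCommShift f; haveI := lpull_isTriangulated f`, and the same for `ltensorMod`.
-/

set_option autoImplicit false

universe u

open CategoryTheory CategoryTheory.Limits AlgebraicGeometry

attribute [local instance] HasDerivedCategory.standard

namespace Groth.Agent.H16Derived.KFlat.Stalk

variable {X Y : Scheme.{u}}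

/-- K-flat complexes. -/
abbrev kflat (X : Scheme.{u}) : ObjectProperty (CochainComplex X.Modules ℤ) :=
  IsKFlat (DCoh.tensorBi (X := X))

/-- Complexes K-flat as a left factor. -/
abbrev lkflat (X : Scheme.{u}) : ObjectProperty (CochainComplex X.Modules ℤ) :=
  IsKFlat (DCoh.tensorBi (X := X)).flip

instance : (kflat X).IsStableUnderShift ℤ where
  isStableUnderShiftBy n := ⟨fun _ hE => hE.shift n⟩

instance : (lkflat X).IsStableUnderShift ℤ where
  isStableUnderShiftBy n := ⟨fun _ hE => hE.shift n⟩

/-- K-flat complexes are adapted to the pullback. -/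
noncomputable def pullAdapted (f : X ⟶ Y) :
    LeftDerTri.Adapted (Scheme.Modules.pullback f) (kflat Y) where
  R := res
  ψ := resψ
  mem := isKFlat_res
  quasiIso := quasiIso_resψ
  cone φ hX hY := hX.mappingCone φ hY
  acyclic _ hW hK := acyclic_pullback f hW hK

/-- Left K-flat complexes are adapted to `- ⊗ M`. -/
noncomputable def tensorAdapted (M : X.Modules) :
    LeftDerTri.Adapted (DCoh.tensorRightMod M) (lkflat X) where
  R := res
  ψ := resψ
  mem := isKFlat_flip_res
  quasiIso := quasiIso_resψ
  cone φ hX hY := hX.mappingCone φ hY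
  acyclic _ hW hK := acyclic_of_iso ((NatIso.mapHomologicalComplex (tensorRightModIso M).symm
    (ComplexShape.up ℤ)).app _) (acyclic_tensor_module M hW hK)

/-- `Lf^* K = f^* K` on K-flat complexes. -/
noncomputable def lpullIso (f : X ⟶ Y) [DCoh.HasLpull f] :
    ((kflat Y).ι ⋙ DerivedCategory.Q) ⋙ DCoh.Lpull f ≅
      (kflat Y).ι ⋙ (Scheme.Modules.pullback f).mapHomologicalComplex (ComplexShape.up ℤ) ⋙
        DerivedCategory.Q :=
  LeftDerTri.derivedIso ((DCoh.pullKh f).totalLeftDerivedCounit DerivedCategory.Qh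
    (HomotopyCategory.quasiIso Y.Modules (ComplexShape.up ℤ))) (pullAdapted f)

/-- `K ⊗^L M = K ⊗ M` on left K-flat complexes. -/
noncomputable def ltensorModIso (M : X.Modules) [DCoh.HasLTensorMod M] :
    ((lkflat X).ι ⋙ DerivedCategory.Q) ⋙ DCoh.LTensorMod M ≅
      (lkflat X).ι ⋙ (DCoh.tensorRightMod M).mapHomologicalComplex (ComplexShape.up ℤ) ⋙
        DerivedCategory.Q :=
  LeftDerTri.derivedIso ((DCoh.tensorModKh M).totalLeftDerivedCounit DerivedCategory.Qh
    (HomotopyCategory.quasiIso X.Modules (ComplexShape.up ℤ))) (tensorAdapted M)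

/-- `Lf^*` commutes with shifts. -/
@[instance_reducible]
noncomputable def lpullCommShift (f : X ⟶ Y) [DCoh.HasLpull f] : (DCoh.Lpull f).CommShift ℤ :=
  LeftDerTri.commShift (lpullIso f) (pullAdapted f)

/-- `Lf^*` is triangulated. -/
theorem lpull_isTriangulated (f : X ⟶ Y) [DCoh.HasLpull f] :
    letI := lpullCommShift f
    (DCoh.Lpull f).IsTriangulated :=
  LeftDerTri.isTriangulated (lpullIso f) (pullAdapted f)

/-- `- ⊗^L M` commutes with shifts. -/
@[instance_reducible]
noncomputable def ltensorModCommShift (M : X.Modules) [DCoh.HasLTensorMod M] :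
    (DCoh.LTensorMod M).CommShift ℤ :=
  LeftDerTri.commShift (ltensorModIso M) (tensorAdapted M)

/-- `- ⊗^L M` is triangulated. -/
theorem ltensorMod_isTriangulated (M : X.Modules) [DCoh.HasLTensorMod M] :
    letI := ltensorModCommShift M
    (DCoh.LTensorMod M).IsTriangulated :=
  LeftDerTri.isTriangulated (ltensorModIso M) (tensorAdapted M)

instance preservesColimits_pullback (f : X ⟶ Y) :
    PreservesColimitsOfSize.{u, u} (Scheme.Modules.pullback f) :=
  (Scheme.Modules.pullbackPushforwardAdjunction f).leftAdjoint_preservesColimits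

instance preservesColimits_tensorRightMod (M : X.Modules) :
    PreservesColimitsOfSize.{u, u} (DCoh.tensorRightMod M) :=
  preservesColimits_of_natIso (tensorRightModIso M).symm

lemma preservesCoproducts_Q (X : Scheme.{u}) (ι : Type u) :
    PreservesColimitsOfShape (Discrete ι) (DerivedCategory.Q (C := X.Modules)) :=
  QCoprod.preservesColimitsOfShape_Q ι

lemma kflat_sigma {ι : Type u} (E : ι → CochainComplex X.Modules ℤ) (h : ∀ i, kflat X (E i)) :
    kflat X (∐ E) :=
  isKFlat_of_isColimit (coproductIsCoproduct E) fun i => h i.as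

lemma lkflat_sigma {ι : Type u} (E : ι → CochainComplex X.Modules ℤ) (h : ∀ i, lkflat X (E i)) :
    lkflat X (∐ E) :=
  isKFlat_of_isColimit (coproductIsCoproduct E) fun i => h i.as

/-- `Lf^*` commutes with direct sums. -/
theorem preservesCoproducts_lpull (f : X ⟶ Y) [DCoh.HasLpull f] (ι : Type u) :
    PreservesColimitsOfShape (Discrete ι) (DCoh.Lpull f) :=
  have := preservesCoproducts_Q X ι
  have := preservesCoproducts_Q Y ι
  LeftDerTri.preservesColimit_discrete (lpullIso f) (pullAdapted f) fun E h => kflat_sigma E h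

/-- `- ⊗^L M` commutes with direct sums. -/
theorem preservesCoproducts_ltensorMod (M : X.Modules) [DCoh.HasLTensorMod M] (ι : Type u) :
    PreservesColimitsOfShape (Discrete ι) (DCoh.LTensorMod M) :=
  have := preservesCoproducts_Q X ι
  LeftDerTri.preservesColimit_discrete (ltensorModIso M) (tensorAdapted M) fun E h => lkflat_sigma E h

/-- `K ⊗^L E = K ⊗ E` on left K-flat complexes. -/
noncomputable def ltensorCxIso (E : CochainComplex X.Modules ℤ) [DCoh.HasLTensorCx E] :
    ((lkflat X).ι ⋙ DerivedCategory.Q) ⋙ DCoh.LTensorCx E ≅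
      (lkflat X).ι ⋙ (DCoh.tensorCx (X := X)).flip.obj E ⋙ DerivedCategory.Q :=
  haveI : ∀ K : (lkflat X).FullSubcategory, IsIso (((lkflat X).ι.whiskerLeft
      ((DCoh.tensorCxQ E).totalLeftDerivedCounit DerivedCategory.Q
        (HomologicalComplex.quasiIso X.Modules (ComplexShape.up ℤ)))).app K) :=
    fun K => isIso_LTensorCx_counit E K.obj K.property
  haveI := NatIso.isIso_of_isIso_app ((lkflat X).ι.whiskerLeft
      ((DCoh.tensorCxQ E).totalLeftDerivedCounit DerivedCategory.Q
        (HomologicalComplex.quasiIso X.Modules (ComplexShape.up ℤ))))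
  Functor.associator _ _ _ ≪≫ asIso ((lkflat X).ι.whiskerLeft
      ((DCoh.tensorCxQ E).totalLeftDerivedCounit DerivedCategory.Q
        (HomologicalComplex.quasiIso X.Modules (ComplexShape.up ℤ))))

/-- `L ↦ Tot (L ⊗ E)` through the flip. -/
noncomputable def tensorCxFlipIso (E : CochainComplex X.Modules ℤ) :
    tot (DCoh.tensorBi (X := X)).flip E ≅ (DCoh.tensorCx (X := X)).flip.obj E :=
  NatIso.ofComponents (fun L => totFlipIso L E) (fun ψ => totFlipIso_naturality ψ E)

/-- `- ⊗^L E` commutes with direct sums. -/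
theorem preservesCoproducts_ltensorCx (E : CochainComplex X.Modules ℤ) [DCoh.HasLTensorCx E]
    (ι : Type u) : PreservesColimitsOfShape (Discrete ι) (DCoh.LTensorCx E) :=
  have := preservesCoproducts_Q X ι
  have : PreservesColimitsOfShape (Discrete ι) (tot (DCoh.tensorBi (X := X)).flip E) :=
    ⟨⟨fun hc => ⟨isColimitTot E hc⟩⟩⟩
  have : PreservesColimitsOfShape (Discrete ι) ((DCoh.tensorCx (X := X)).flip.obj E) :=
    preservesColimitsOfShape_of_natIso (tensorCxFlipIso E)
  LeftDerTri.preservesColimit_discrete_of_functor (P := lkflat X) res resψ isKFlat_flip_res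
    quasiIso_resψ _ (ltensorCxIso E) fun E' h => lkflat_sigma E' h

end Groth.Agent.H16Derived.KFlat.Stalk
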