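import Groth.Agent.H16Derived.KFlat.Basic

/-!
# Comparing total complexes after applying functors

If `G₁ F₁(L₁ᵖ, E₁q) ≅ G₂ F₂(L₂ᵖ, E₂q)` compatibly with the differentials, then `G₁ Tot₁ ≅ G₂ Tot₂`.
-/

set_option autoImplicit false

universe v₁ v₂ v₃ v₄ v₅ v₆ v u₁ u₂ u₃ u₄ u₅ u₆ u

open CategoryTheory CategoryTheory.Limits

namespace Groth.Agent.H16Derived.KFlat.TotCompare

variable {A₁ : Type u₁} [Category.{v₁} A₁] [Abelian A₁] {B₁ : Type u₂} [Category.{v₂} B₁] [Abelian B₁]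
  {C₁ : Type u₃} [Category.{v₃} C₁] [Abelian C₁] [HasCountableCoproducts C₁]
  {F₁ : A₁ ⥤ B₁ ⥤ C₁} [F₁.Additive] [∀ a, (F₁.obj a).Additive]
  {A₂ : Type u₄} [Category.{v₄} A₂] [Abelian A₂] {B₂ : Type u₅} [Category.{v₅} B₂] [Abelian B₂]
  {C₂ : Type u₆} [Category.{v₆} C₂] [Abelian C₂] [HasCountableCoproducts C₂]
  {F₂ : A₂ ⥤ B₂ ⥤ C₂} [F₂.Additive] [∀ a, (F₂.obj a).Additive]
  {D : Type u} [Category.{v} D] [Abelian D] {G₁ : C₁ ⥤ D} [G₁.Additive] {G₂ : C₂ ⥤ D} [G₂.Additive]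
  [∀ J : Type, PreservesColimitsOfShape (Discrete J) G₁]
  [∀ J : Type, PreservesColimitsOfShape (Discrete J) G₂]

section

variable {A : Type u₁} [Category.{v₁} A] [Abelian A] {B : Type u₂} [Category.{v₂} B] [Abelian B]
  {C : Type u₃} [Category.{v₃} C] [Abelian C] [HasCountableCoproducts C]
  (F : A ⥤ B ⥤ C) [F.Additive] [∀ a, (F.obj a).Additive] (G : C ⥤ D) [G.Additive]
  [∀ J : Type, PreservesColimitsOfShape (Discrete J) G]
  (L : CochainComplex A ℤ) (E : CochainComplex B ℤ)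

/-- The summands of degree `n`. -/
abbrev Ix (n : ℤ) : Type :=
  { i : ℤ × ℤ // ComplexShape.π (ComplexShape.up ℤ) (ComplexShape.up ℤ) (ComplexShape.up ℤ) i = n }

/-- `G` of a total complex as a coproduct. -/
noncomputable def cofan (n : ℤ) :
    Cofan fun i : Ix n => G.obj ((F.obj (L.X i.1.1)).obj (E.X i.1.2)) :=
  Cofan.mk (((G.mapHomologicalComplex (ComplexShape.up ℤ)).obj ((tot F L).obj E)).X n) fun i =>
    G.map (HomologicalComplex.ιMapBifunctor L E F (ComplexShape.up ℤ) i.1.1 i.1.2 n i.2)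

/-- `cofan` is a colimit. -/
noncomputable def isColimitCofan (n : ℤ) : IsColimit (cofan F G L E n) :=
  isColimitMapCoconeCofanMkEquiv G _ _ (isColimitOfPreserves G
    (GradedObject.isColimitCofanMapObj (((GradedObject.mapBifunctor F ℤ ℤ).obj L.X).obj E.X)
      (ComplexShape.π (ComplexShape.up ℤ) (ComplexShape.up ℤ) (ComplexShape.up ℤ)) n))

lemma hom_ext {n : ℤ} {Z : D}
    {f g : ((G.mapHomologicalComplex (ComplexShape.up ℤ)).obj ((tot F L).obj E)).X n ⟶ Z}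
    (h : ∀ (p q : ℤ) (hn : p + q = n),
      G.map (HomologicalComplex.ιMapBifunctor L E F (ComplexShape.up ℤ) p q n hn) ≫ f =
        G.map (HomologicalComplex.ιMapBifunctor L E F (ComplexShape.up ℤ) p q n hn) ≫ g) : f = g :=
  Cofan.IsColimit.hom_ext (isColimitCofan F G L E n) _ _ fun i => h i.1.1 i.1.2 i.2

omit [∀ J : Type, PreservesColimitsOfShape (Discrete J) G] in
lemma map_ι_d (p q n : ℤ) (h : p + q = n) :
    G.map (HomologicalComplex.ιMapBifunctor L E F (ComplexShape.up ℤ) p q n h) ≫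
        ((G.mapHomologicalComplex (ComplexShape.up ℤ)).obj ((tot F L).obj E)).d n (n + 1) =
      G.map ((F.map (L.d p (p + 1))).app (E.X q)) ≫
          G.map (HomologicalComplex.ιMapBifunctor L E F (ComplexShape.up ℤ) (p + 1) q (n + 1)
            (show p + 1 + q = n + 1 by omega)) +
        p.negOnePow • (G.map ((F.obj (L.X p)).map (E.d q (q + 1))) ≫
          G.map (HomologicalComplex.ιMapBifunctor L E F (ComplexShape.up ℤ) p (q + 1) (n + 1)
            (show p + (q + 1) = n + 1 by omega))) := by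
  change G.map _ ≫ G.map ((HomologicalComplex.mapBifunctor L E F (ComplexShape.up ℤ)).d n (n + 1)) = _
  rw [← G.map_comp, HomologicalComplex.mapBifunctor.d_eq]
  erw [Preadditive.comp_add]
  rw [HomologicalComplex.mapBifunctor.ι_D₁, HomologicalComplex.mapBifunctor.ι_D₂,
    HomologicalComplex.mapBifunctor.d₁_eq L E F _ (show (ComplexShape.up ℤ).Rel p (p + 1) from rfl)
      q (n + 1) (show p + 1 + q = n + 1 by omega),
    HomologicalComplex.mapBifunctor.d₂_eq L E F _ p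
      (show (ComplexShape.up ℤ).Rel q (q + 1) from rfl) (n + 1) (show p + (q + 1) = n + 1 by omega),
    G.map_add, G.map_units_smul, G.map_units_smul]
  erw [G.map_comp, G.map_comp]
  exact congrArg₂ (· + ·) (one_smul _ _) rfl

end

variable (L₁ : CochainComplex A₁ ℤ) (E₁ : CochainComplex B₁ ℤ)
  (L₂ : CochainComplex A₂ ℤ) (E₂ : CochainComplex B₂ ℤ)
  (β : ∀ p q : ℤ, G₁.obj ((F₁.obj (L₁.X p)).obj (E₁.X q)) ≅ G₂.obj ((F₂.obj (L₂.X p)).obj (E₂.X q)))
  (h₁ : ∀ p q : ℤ, G₁.map ((F₁.map (L₁.d p (p + 1))).app (E₁.X q)) ≫ (β (p + 1) q).hom =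
    (β p q).hom ≫ G₂.map ((F₂.map (L₂.d p (p + 1))).app (E₂.X q)))
  (h₂ : ∀ p q : ℤ, G₁.map ((F₁.obj (L₁.X p)).map (E₁.d q (q + 1))) ≫ (β p (q + 1)).hom =
    (β p q).hom ≫ G₂.map ((F₂.obj (L₂.X p)).map (E₂.d q (q + 1))))

/-- The comparison in degree `n`. -/
noncomputable def isoX (n : ℤ) :
    ((G₁.mapHomologicalComplex (ComplexShape.up ℤ)).obj ((tot F₁ L₁).obj E₁)).X n ≅
      ((G₂.mapHomologicalComplex (ComplexShape.up ℤ)).obj ((tot F₂ L₂).obj E₂)).X n where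
  hom := Cofan.IsColimit.desc (isColimitCofan F₁ G₁ L₁ E₁ n) fun i =>
    (β i.1.1 i.1.2).hom ≫ (cofan F₂ G₂ L₂ E₂ n).inj i
  inv := Cofan.IsColimit.desc (isColimitCofan F₂ G₂ L₂ E₂ n) fun i =>
    (β i.1.1 i.1.2).inv ≫ (cofan F₁ G₁ L₁ E₁ n).inj i
  hom_inv_id := Cofan.IsColimit.hom_ext (isColimitCofan F₁ G₁ L₁ E₁ n) _ _ fun i => by
    erw [← Category.assoc, Cofan.IsColimit.fac, Category.assoc, Cofan.IsColimit.fac, Iso.hom_inv_id_assoc, Category.comp_id]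
  inv_hom_id := Cofan.IsColimit.hom_ext (isColimitCofan F₂ G₂ L₂ E₂ n) _ _ fun i => by
    erw [← Category.assoc, Cofan.IsColimit.fac, Category.assoc, Cofan.IsColimit.fac, Iso.inv_hom_id_assoc, Category.comp_id]

lemma map_ι_isoX (p q n : ℤ) (h : p + q = n) :
    G₁.map (HomologicalComplex.ιMapBifunctor L₁ E₁ F₁ (ComplexShape.up ℤ) p q n h) ≫
        (isoX L₁ E₁ L₂ E₂ β n).hom =
      (β p q).hom ≫ G₂.map (HomologicalComplex.ιMapBifunctor L₂ E₂ F₂ (ComplexShape.up ℤ) p q n h) :=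
  Cofan.IsColimit.fac (isColimitCofan F₁ G₁ L₁ E₁ n)
    (fun i => (β i.1.1 i.1.2).hom ≫ (cofan F₂ G₂ L₂ E₂ n).inj i) ⟨(p, q), h⟩

/-- `G₁ Tot F₁(L₁, E₁) ≅ G₂ Tot F₂(L₂, E₂)`. -/
noncomputable def iso :
    (G₁.mapHomologicalComplex (ComplexShape.up ℤ)).obj ((tot F₁ L₁).obj E₁) ≅
      (G₂.mapHomologicalComplex (ComplexShape.up ℤ)).obj ((tot F₂ L₂).obj E₂) :=
  HomologicalComplex.Hom.isoOfComponents (isoX L₁ E₁ L₂ E₂ β) fun n n' hn => by
    obtain rfl : n + 1 = n' := hn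
    refine hom_ext F₁ G₁ L₁ E₁ fun p q h => ?_
    refine (reassoc_of% (map_ι_isoX L₁ E₁ L₂ E₂ β p q n h)) _ |>.trans ?_
    refine Eq.trans ?_ ((reassoc_of% (map_ι_d F₁ G₁ L₁ E₁ p q n h)) _).symm
    refine (Category.assoc _ _ _).trans
      ((congrArg ((β p q).hom ≫ ·) (map_ι_d F₂ G₂ L₂ E₂ p q n h)).trans ?_)
    erw [Preadditive.comp_add, Preadditive.add_comp, Linear.comp_units_smul, Linear.units_smul_comp,
      Category.assoc, Category.assoc, map_ι_isoX, map_ι_isoX, reassoc_of% h₁, reassoc_of% h₂]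
    rfl

end Groth.Agent.H16Derived.KFlat.TotCompare
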