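import Groth.Agent.H16Derived.KFlat.PullKFlat
import Groth.Agent.H16Derived.KFlat.SheafTri
import Groth.Agent.H16Derived.KFlat.TotCompare
import Groth.Agent.H15Site.ModAssoc
import Groth.Agent.H15Site.PullTensor

/-!
# Associativity of `⊗` on complexes of O_X-modules; compatibility of pullback with `⊗`

The site-theoretic results of `Groth.Agent.H15Site` apply to schemes by definitional equality.
-/

set_option autoImplicit false
set_option linter.style.haveILetI false

universe u

open CategoryTheory CategoryTheory.Limits AlgebraicGeometry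

attribute [local instance] HasDerivedCategory.standard

namespace Groth.Agent.H16Derived.KFlat.Stalk

variable {X Y : Scheme.{u}}

/-- `(K₁ ⊗ K₂) ⊗ K₃ ≅ K₁ ⊗ (K₂ ⊗ K₃)`. -/
noncomputable def tensorCxAssoc (K₁ K₂ K₃ : CochainComplex X.Modules ℤ) :
    ((DCoh.tensorCx (X := X)).obj (((DCoh.tensorCx (X := X)).obj K₁).obj K₂)).obj K₃ ≅
      ((DCoh.tensorCx (X := X)).obj K₁).obj (((DCoh.tensorCx (X := X)).obj K₂).obj K₃) :=
  H15Site.ModKFlat.totAssoc (O := X.sheaf) K₁ K₂ K₃

/-- The tensor product of K-flat complexes is K-flat. -/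
theorem isKFlat_tensorCx {K L : CochainComplex X.Modules ℤ} (hK : DCoh.IsKFlat K)
    (hL : DCoh.IsKFlat L) : DCoh.IsKFlat (((DCoh.tensorCx (X := X)).obj K).obj L) :=
  H15Site.ModKFlat.isKFlat_tensorCx (O := X.sheaf) hK hL

/-- `f^*(- ⊗ N) ≅ f^*(-) ⊗ f^* N`. -/
noncomputable def pullTensorLIso (f : X ⟶ Y) (N : Y.Modules) :
    (DCoh.tensorBi (X := Y)).flip.obj N ⋙ Scheme.Modules.pullback f ≅
      Scheme.Modules.pullback f ⋙
        (DCoh.tensorBi (X := X)).flip.obj ((Scheme.Modules.pullback f).obj N) :=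
  H15Site.PullTensor.cLIso (ModSite.RMor.ofScheme f) N

/-- The comparison in the second variable. -/
noncomputable def pullTensorR (f : X ⟶ Y) (M : Y.Modules) :
    (DCoh.tensorBi (X := Y)).obj M ⋙ Scheme.Modules.pullback f ⟶
      Scheme.Modules.pullback f ⋙
        (DCoh.tensorBi (X := X)).obj ((Scheme.Modules.pullback f).obj M) :=
  H15Site.PullTensor.cR (ModSite.RMor.ofScheme f) M

lemma pullTensorLIso_hom_app (f : X ⟶ Y) (M N : Y.Modules) :
    (pullTensorLIso f N).hom.app M = (pullTensorR f M).app N := rfl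

/-- `f^*(K ⊗ L) ≅ f^*K ⊗ f^*L` for complexes. -/
noncomputable def pullTotIso (f : X ⟶ Y) (K L : CochainComplex Y.Modules ℤ) :
    ((Scheme.Modules.pullback f).mapHomologicalComplex (ComplexShape.up ℤ)).obj
        ((tot (DCoh.tensorBi (X := Y)) K).obj L) ≅
      (tot (DCoh.tensorBi (X := X))
          (((Scheme.Modules.pullback f).mapHomologicalComplex (ComplexShape.up ℤ)).obj K)).obj
        (((Scheme.Modules.pullback f).mapHomologicalComplex (ComplexShape.up ℤ)).obj L) :=
  haveI : ∀ J : Type, PreservesColimitsOfShape (Discrete J) (Scheme.Modules.pullback f) := fun J =>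
    have := preservesColimitsOfSize_shrink.{0, u, 0, u} (Scheme.Modules.pullback f)
    inferInstance
  TotCompare.iso (G₁ := Scheme.Modules.pullback f) (G₂ := 𝟭 X.Modules)
    (F₁ := DCoh.tensorBi (X := Y)) (F₂ := DCoh.tensorBi (X := X)) K L
    (((Scheme.Modules.pullback f).mapHomologicalComplex (ComplexShape.up ℤ)).obj K)
    (((Scheme.Modules.pullback f).mapHomologicalComplex (ComplexShape.up ℤ)).obj L)
    (fun p q => (pullTensorLIso f (L.X q)).app (K.X p))
    (fun p q => (pullTensorLIso f (L.X q)).hom.naturality (K.d p (p + 1)))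
    (fun p q => (pullTensorR f (K.X p)).naturality (L.d q (q + 1))) ≪≫
    (Functor.mapHomologicalComplexIdIso _ _).app _

/-- `Q K ⊗^L E ≅ Q (K ⊗ E)` for a K-flat `E`. -/
noncomputable def ltensorCxObjIso (E : CochainComplex X.Modules ℤ) [DCoh.HasLTensorCx E]
    (hE : DCoh.IsKFlat E) (K : CochainComplex X.Modules ℤ) :
    (DCoh.LTensorCx E).obj (DerivedCategory.Q.obj K) ≅
      DerivedCategory.Q.obj (((DCoh.tensorCx (X := X)).obj K).obj E) :=
  @asIso _ _ _ _ _ (isIso_LTensorCx_counit' E K hE)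

/-- `Lf^*(K ⊗^L L) ≅ Lf^*K ⊗^L f^*L` for a K-flat `L`. -/
theorem nonempty_lpull_ltensorCx (f : X ⟶ Y) [DCoh.HasLpull f] (L : CochainComplex Y.Modules ℤ)
    (hL : DCoh.IsKFlat L) [DCoh.HasLTensorCx L]
    [DCoh.HasLTensorCx
      (((Scheme.Modules.pullback f).mapHomologicalComplex (ComplexShape.up ℤ)).obj L)]
    (K : DCoh.D Y) :
    Nonempty ((DCoh.Lpull f).obj ((DCoh.LTensorCx L).obj K) ≅
      (DCoh.LTensorCx
        (((Scheme.Modules.pullback f).mapHomologicalComplex (ComplexShape.up ℤ)).obj L)).obj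
          ((DCoh.Lpull f).obj K)) := by
  let G := DerivedCategory.Q.objPreimage K
  let P := (res (X := Y)).obj G
  haveI : IsIso (DerivedCategory.Q.map ((resψ (X := Y)).app G)) :=
    isIso_Q_map _ (quasiIso_resψ G)
  let e : DerivedCategory.Q.obj P ≅ K :=
    asIso (DerivedCategory.Q.map ((resψ (X := Y)).app G)) ≪≫ DerivedCategory.Q.objObjPreimageIso K
  have hP : DCoh.IsKFlat P := (isKFlat_iff' P).2 (isKFlat_res G)
  have hfL : DCoh.IsKFlat
      (((Scheme.Modules.pullback f).mapHomologicalComplex (ComplexShape.up ℤ)).obj L) :=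
    (isKFlat_iff' _).2 (isKFlat_pullback f ((isKFlat_iff' L).1 hL))
  exact ⟨(DCoh.Lpull f).mapIso ((DCoh.LTensorCx L).mapIso e.symm ≪≫ ltensorCxObjIso L hL P) ≪≫
    (lpullIso f).app ⟨_, (isKFlat_iff' _).1 (isKFlat_tensorCx hP hL)⟩ ≪≫
    DerivedCategory.Q.mapIso (pullTotIso f P L) ≪≫
    (ltensorCxObjIso _ hfL _).symm ≪≫
    (DCoh.LTensorCx _).mapIso (((lpullIso f).app ⟨P, isKFlat_res G⟩).symm ≪≫
      (DCoh.Lpull f).mapIso e)⟩

end Groth.Agent.H16Derived.KFlat.Stalk
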