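import Groth.Agent.H16Derived.KFlat.Cover
import Groth.Agent.H16Derived.Horseshoe

/-!
# Functorial K-flat resolutions

If there is a functorial cover of every object by a flat one (compatible with zero morphisms), every complex
`G` has a K-flat resolution `P(G) ⟶ G` by flat objects which is degreewise epimorphic and functorial in `G`.
-/

set_option autoImplicit false

universe v v' v'' u u' u''

open CategoryTheory CategoryTheory.Limits

namespace Groth.Agent.H16Derived.KFlat.Res

variable {B : Type u'} [Category.{v'} B] [Abelian B]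

lemma isIso_ιTruncLE_f (G : CochainComplex B ℤ) (n i : ℤ) (h : i < n) :
    IsIso ((G.ιTruncLE n).f i) := by
  let e := ComplexShape.embeddingUpIntLE n
  have hi : e.f (n - i).natAbs = i := by
    change n - (((n - i).natAbs : ℕ) : ℤ) = i
    omega
  change IsIso ((HomologicalComplex.op G).πTruncGE e.op |>.f i).unop
  have : IsIso (((HomologicalComplex.op G).πTruncGE e.op).f i) := by
    dsimp [HomologicalComplex.πTruncGE]
    erw [e.op.isIso_liftExtend_f_iff _ _ hi]
    refine (HomologicalComplex.op G).isIso_restrictionToTruncGE' e.op _ ?_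
    rw [ComplexShape.Embedding.op_boundaryGE_iff, ComplexShape.boundaryLE_embeddingUpIntLE_iff]
    omega
  infer_instance

lemma isIso_trunc_ι (G : CochainComplex B ℤ) {m m' : ℤ} (h : m ≤ m') :
    IsIso ((G.truncLE m).ιTruncLE m') :=
  (CochainComplex.isIso_ιTruncLE_iff _ _).2 (CochainComplex.isStrictlyLE_of_le _ m m' h)

/-- `τ≤m G ⟶ τ≤m' G` for `m ≤ m'`. -/
noncomputable def truncIncl {m m' : ℤ} (h : m ≤ m') : trunc (B := B) m ⟶ trunc m' where
  app G :=
    @inv _ _ _ _ ((G.truncLE m).ιTruncLE m') (isIso_trunc_ι G h) ≫ CochainComplex.truncLEMap (G.ιTruncLE m) m'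
  naturality G G' f := by
    have := isIso_trunc_ι G h
    have := isIso_trunc_ι G' h
    dsimp [trunc]
    have : Mono (G'.ιTruncLE m') := inferInstanceAs (Mono (HomologicalComplex.ιTruncLE G' _))
    rw [← cancel_mono (G'.ιTruncLE m')]
    simp only [Category.assoc, CochainComplex.ιTruncLE_naturality, IsIso.inv_hom_id_assoc,
      CochainComplex.ιTruncLE_naturality_assoc]

lemma truncIncl_ι {m m' : ℤ} (h : m ≤ m') :
    truncIncl (B := B) h ≫ truncι m' = truncι m := by
  ext G : 2
  have := isIso_trunc_ι G h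
  dsimp [truncIncl, truncι]
  rw [Category.assoc]
  erw [CochainComplex.ιTruncLE_naturality, IsIso.inv_hom_id_assoc]

/-- A cocone on a sequence of complexes which is eventually an isomorphism in each degree is a
colimit cocone. -/
noncomputable def isColimitOfEventuallyIso {K : ℕ ⥤ CochainComplex B ℤ} (c : Cocone K) (k₀ : ℤ → ℕ)
    (h : ∀ q k, k₀ q ≤ k → IsIso ((c.ι.app k).f q)) : IsColimit c :=
  HomologicalComplex.isColimitOfEval _ _ fun q =>
    have hw : ∀ {j k : ℕ} (f : j ⟶ k), (K.map f).f q ≫ (c.ι.app k).f q = (c.ι.app j).f q :=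
      fun {j k} f => congr_arg (fun φ : K.obj j ⟶ c.pt => φ.f q) (c.w f)
    have key (s : Cocone (K ⋙ HomologicalComplex.eval B (ComplexShape.up ℤ) q)) (k : ℕ)
        (hk : k₀ q ≤ k) : (c.ι.app k).f q ≫ (@inv _ _ _ _ _ (h q (k₀ q) (le_refl _)) ≫
          s.ι.app (k₀ q)) = s.ι.app k := by
      have := h q (k₀ q) (le_refl _)
      have := h q k hk
      refine Eq.trans ?_ (Brutal.comp_inv_comp ((c.ι.app (k₀ q)).f q) ((c.ι.app k).f q)
        ((K.map (homOfLE hk)).f q) (hw (homOfLE hk)) (s.ι.app k))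
      rw [← s.w (homOfLE hk)]
      rfl
    { desc := fun s => @inv _ _ _ _ _ (h q (k₀ q) (le_refl _)) ≫ s.ι.app (k₀ q)
      fac := fun s j => by
        refine Eq.trans ?_ (s.w (homOfLE (le_max_left j (k₀ q))))
        rw [← key s _ (le_max_right j (k₀ q))]
        change (c.ι.app j).f q ≫ _ = (K.map _).f q ≫ _
        rw [← hw (homOfLE (le_max_left j (k₀ q)))]
        exact Category.assoc _ _ _
      uniq := fun s m hm => by
        have := h q (k₀ q) (le_refl _)
        refine (cancel_epi ((c.ι.app (k₀ q)).f q)).1 ?_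
        refine (hm _).trans ?_
        exact (IsIso.hom_inv_id_assoc ((c.ι.app (k₀ q)).f q) _).symm }

/-- A degreewise colimit of short exact sequences of complexes is short exact. -/
lemma shortExact_colimit [HasColimitsOfShape ℕ B] [HasExactColimitsOfShape ℕ B]
    (T : ShortComplex (ℕ ⥤ CochainComplex B ℤ))
    (hT : ∀ j, (T.map ((evaluation ℕ (CochainComplex B ℤ)).obj j)).ShortExact) :
    (T.map colim).ShortExact := by
  refine HomologicalComplex.shortExact_of_degreewise_shortExact _ fun q => ?_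
  let e := HomologicalComplex.eval B (ComplexShape.up ℤ) q
  let T' := T.map ((Functor.whiskeringRight ℕ _ _).obj e)
  have hT' : (T'.map colim).ShortExact :=
    (shortExact_of_eval T' fun j => (hT j).map_of_exact e).map_of_exact colim
  refine ShortComplex.shortExact_of_iso ?_ hT'
  refine ShortComplex.isoMk (preservesColimitIso e T.X₁).symm (preservesColimitIso e T.X₂).symm
    (preservesColimitIso e T.X₃).symm ?_ ?_
  all_goals
    refine colimit.hom_ext fun j => ?_
    dsimp [T', e]
    erw [ι_preservesColimitIso_inv_assoc, ι_colimMap_assoc, ι_preservesColimitIso_inv]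
    first
    | exact congr_arg (fun φ : T.X₁.obj j ⟶ colimit T.X₂ => φ.f q) (ι_colimMap T.f j)
    | exact congr_arg (fun φ : T.X₂.obj j ⟶ colimit T.X₃ => φ.f q) (ι_colimMap T.g j)

variable (Φ : B ⥤ B) [Φ.PreservesZeroMorphisms] (π : Φ ⟶ 𝟭 B) [∀ b, Epi (π.app b)]

/-- `k` improvements starting from threshold `n`. -/
noncomputable def stage (n : ℤ) : ℕ → Stage B
  | 0 => base Φ π
  | k + 1 => step Φ π (n - k) (stage n k)

/-- Comparison of thresholds `n` and `n + 1`. -/
noncomputable def up (n : ℤ) : ∀ k : ℕ, StageHom (stage Φ π n k) (stage Φ π (n + 1) (k + 1))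
  | 0 => toStep Φ π _ _
  | k + 1 => stepMap Φ π _ (up n k) (by push_cast; omega)

/-- The diagonal stages. -/
noncomputable def diag (j : ℕ) : Stage B := stage Φ π j (2 * j)

/-- Transition between diagonal stages. -/
noncomputable def diagMap (j : ℕ) : StageHom (diag Φ π j) (diag Φ π (j + 1)) :=
  (up Φ π j (2 * j)).comp (toStep Φ π _ _)

/-- The sequence of functors `G ↦ P_j(τ≤j G)`. -/
noncomputable def seqP : ℕ ⥤ CochainComplex B ℤ ⥤ CochainComplex B ℤ :=
  Functor.ofSequence (X := fun j => trunc (j : ℤ) ⋙ (diag Φ π j).P) fun j =>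
    Functor.whiskerLeft (trunc (j : ℤ)) (diagMap Φ π j).1 ≫
      Functor.whiskerRight (truncIncl (by omega)) (diag Φ π (j + 1)).P

/-- The sequence of the truncations. -/
noncomputable def seqT : ℕ ⥤ CochainComplex B ℤ ⥤ CochainComplex B ℤ :=
  Functor.ofSequence (X := fun j => trunc (j : ℤ)) fun j => truncIncl (by omega)

/-- The augmentations. -/
noncomputable def seqφ : seqP Φ π ⟶ seqT (B := B) :=
  NatTrans.ofSequence (fun j => Functor.whiskerLeft (trunc (j : ℤ)) (diag Φ π j).φ) fun j => by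
    dsimp only [seqP, seqT]
    erw [Functor.ofSequence_map_homOfLE_succ, Functor.ofSequence_map_homOfLE_succ]
    ext G : 2
    have h1 := congr_app (diagMap Φ π j).2 ((trunc (j : ℤ)).obj G)
    have h2 := (diag Φ π (j + 1)).φ.naturality
      ((truncIncl (show (j : ℤ) ≤ ((j + 1 : ℕ) : ℤ) by omega)).app G)
    dsimp at h1 h2 ⊢
    erw [Category.assoc, h2, reassoc_of% h1]
    rfl

/-- The cocone of the truncations. -/
noncomputable def truncCocone (G : CochainComplex B ℤ) : Cocone ((seqT (B := B)).flip.obj G) where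
  pt := G
  ι := NatTrans.ofSequence (fun j : ℕ => G.ιTruncLE j) fun j => by
    dsimp [seqT]
    erw [Functor.ofSequence_map_homOfLE_succ]
    exact (congr_app (truncIncl_ι (B := B) _) G).trans (Category.comp_id _).symm

/-- A complex is the colimit of its canonical truncations. -/
noncomputable def isColimitTruncCocone (G : CochainComplex B ℤ) : IsColimit (truncCocone G) :=
  isColimitOfEventuallyIso _ (fun q => (q + 1).toNat) fun q k hk =>
    isIso_ιTruncLE_f G k q (by omega)

variable [HasColimitsOfShape ℕ B]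

/-- The resolution functor. -/
noncomputable def P : CochainComplex B ℤ ⥤ CochainComplex B ℤ :=
  (seqP Φ π).flip ⋙ colim

/-- The augmentation of the resolution. -/
noncomputable def ψ : P Φ π ⟶ 𝟭 _ where
  app G := colimMap (((flipFunctor _ _ _).map (seqφ Φ π)).app G) ≫ colimit.desc _ (truncCocone G)
  naturality G G' f := by
    refine colimit.hom_ext fun j => ?_
    dsimp [P]
    erw [ι_colimMap_assoc, ι_colimMap_assoc, colimit.ι_desc, Category.assoc, ι_colimMap_assoc,
      colimit.ι_desc_assoc]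
    have h := ((seqφ Φ π).app j).naturality f
    dsimp at h ⊢
    erw [reassoc_of% h]
    exact congrArg (((seqφ Φ π).app j).app G ≫ ·) ((truncι (B := B) (j : ℤ)).naturality f)

variable {Φ π}

omit [HasColimitsOfShape ℕ B] in
lemma isGood_base (G : CochainComplex B ℤ) (n : ℤ) (hG : ∀ q, n < q → IsZero (G.X q)) :
    IsGood (base Φ π) G n where
  epi i := inferInstanceAs (Epi (π.app (G.X i)))
  exactAt i hi := by
    rw [HomologicalComplex.exactAt_iff]
    refine ShortComplex.exact_of_isZero_X₂ _ ?_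
    have key : ∀ {X Y : CochainComplex B ℤ} (k : X ⟶ Y) [Mono k], IsZero (Y.X i) → IsZero (X.X i) :=
      fun k _ h => IsZero.of_mono (k.f i) h
    exact key (kernel.ι ((base Φ π).φ.app G)) (isZero_cov_X Φ (hG i hi))

omit [HasColimitsOfShape ℕ B] in
lemma isGood_stage (G : CochainComplex B ℤ) (n : ℤ) (hG : ∀ q, n < q → IsZero (G.X q)) :
    ∀ k : ℕ, IsGood (stage Φ π n k) G (n - k)
  | 0 => by simpa [stage] using isGood_base G n hG
  | k + 1 => by
    have := IsGood.step Φ π (n - k) (isGood_stage G n hG k)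
    rwa [show n - ((k + 1 : ℕ) : ℤ) = n - k - 1 by push_cast; omega]

omit [HasColimitsOfShape ℕ B] in
lemma isZero_stage_X (G : CochainComplex B ℤ) (n : ℤ) (hG : ∀ q, n < q → IsZero (G.X q)) :
    ∀ (k : ℕ) (q : ℤ), n < q → IsZero (((stage Φ π n k).P.obj G).X q)
  | 0, q, hq => isZero_cov_X Φ (hG q hq)
  | k + 1, q, hq => isZero_step_X Φ π _ (by omega) (isZero_stage_X G n hG k q hq)

variable [HasExactColimitsOfShape ℕ B]

omit [HasExactColimitsOfShape ℕ B] [HasColimitsOfShape ℕ B] in
lemma isGood_diag (G : CochainComplex B ℤ) (j : ℕ) :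
    IsGood (diag Φ π j) ((trunc (j : ℤ)).obj G) (-j) := by
  have h := isGood_stage (Φ := Φ) (π := π) (G.truncLE j) j
    (fun q hq => CochainComplex.isZero_of_isStrictlyLE _ (j : ℤ) q hq) (2 * j)
  rw [show (j : ℤ) - ((2 * j : ℕ) : ℤ) = -j by push_cast; omega] at h
  exact h

/-- `P G ⟶ G` is a degreewise epimorphic quasi-isomorphism. -/
theorem quasiIso_ψ_app (G : CochainComplex B ℤ) :
    QuasiIso ((ψ Φ π).app G) ∧ ∀ n, Epi (((ψ Φ π).app G).f n) := by
  let α : (seqP Φ π).flip.obj G ⟶ (seqT (B := B)).flip.obj G :=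
    ((flipFunctor _ _ _).map (seqφ Φ π)).app G
  let T : ShortComplex (ℕ ⥤ CochainComplex B ℤ) := ShortComplex.mk (kernel.ι α) α (kernel.condition α)
  have hT : ∀ j, (T.map ((evaluation ℕ (CochainComplex B ℤ)).obj j)).ShortExact := fun j => by
    have h1 : Epi (α.app j) :=
      HomologicalComplex.epi_of_epi_f _ (isGood_diag G j).epi
    exact
      { exact := (ShortComplex.exact_of_f_is_kernel T (kernelIsKernel α)).map
          ((evaluation ℕ (CochainComplex B ℤ)).obj j)
        mono_f := inferInstanceAs (Mono ((kernel.ι α).app j))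
        epi_g := h1 }
  have hS := shortExact_colimit T hT
  have hac : (colimit (kernel α)).Acyclic := fun i => by
    refine exactAt_colimit (colimit.isColimit (kernel α)) i fun j => ?_
    refine ⟨max j (-i + 1).toNat, homOfLE (le_max_left _ _), ?_⟩
    have h := (isGood_diag (Φ := Φ) (π := π) G (max j (-i + 1).toNat)).exactAt i (by omega)
    rw [HomologicalComplex.exactAt_iff_isZero_homology] at h ⊢
    exact h.of_iso ((HomologicalComplex.homologyFunctor B _ i).mapIso
      (PreservesKernel.iso ((evaluation ℕ (CochainComplex B ℤ)).obj _) α))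
  have hq : QuasiIso (colimMap α) := Horseshoe.quasiIso_of_acyclic_kernel hS hac
  obtain ⟨d, hd0⟩ : ∃ d : colimit ((seqT (B := B)).flip.obj G) ⟶ G,
      d = colimit.desc _ (truncCocone G) := ⟨_, rfl⟩
  have hd : IsIso d := hd0 ▸
    (IsColimit.coconePointUniqueUpToIso (colimit.isColimit _) (isColimitTruncCocone G)).isIso_hom
  have hψ : (ψ Φ π).app G = colimMap α ≫ d := by rw [hd0]; rfl
  refine ⟨by rw [hψ]; exact quasiIso_comp (colimMap α) d, fun n => ?_⟩
  have h1 : Epi ((colimMap α).f n) :=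
    (hS.map_of_exact (HomologicalComplex.eval B (ComplexShape.up ℤ) n)).epi_g
  have : IsIso (d.f n) :=
    inferInstanceAs (IsIso ((HomologicalComplex.eval B (ComplexShape.up ℤ) n).map d))
  rw [hψ, HomologicalComplex.comp_f]
  exact @epi_comp _ _ _ _ _ _ h1 _ inferInstance

end Res

variable {A : Type u} [Category.{v} A] [Abelian A] {B : Type u'} [Category.{v'} B] [Abelian B]
  {C : Type u''} [Category.{v''} C] [Abelian C]
  {F : A ⥤ B ⥤ C} [F.Additive] [∀ a, (F.obj a).Additive]

/-- A summand of a sum of two flat objects is flat. -/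
lemma isFlatObj_of_sum {b₁ b₂ c : B} (i₁ : b₁ ⟶ c) (p₁ : c ⟶ b₁) (i₂ : b₂ ⟶ c) (p₂ : c ⟶ b₂)
    (h : p₁ ≫ i₁ + p₂ ≫ i₂ = 𝟙 c) (h₁ : IsFlatObj F b₁) (h₂ : IsFlatObj F b₂) : IsFlatObj F c := by
  intro S hS
  have hsum : ∀ a, (F.obj a).map p₁ ≫ (F.obj a).map i₁ + (F.obj a).map p₂ ≫ (F.obj a).map i₂ = 𝟙 _ :=
    fun a => by
      rw [← Functor.map_comp, ← Functor.map_comp, ← Functor.map_add, h, CategoryTheory.Functor.map_id]
  let I₁ := S.mapNatTrans (F.flip.map i₁)
  let I₂ := S.mapNatTrans (F.flip.map i₂)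
  let P₁ := S.mapNatTrans (F.flip.map p₁)
  let P₂ := S.mapNatTrans (F.flip.map p₂)
  have hid : P₁ ≫ I₁ + P₂ ≫ I₂ = 𝟙 (S.map (F.flip.obj c)) := by
    ext <;> exact hsum _
  refine { exact := ?_, mono_f := ?_, epi_g := ?_ }
  · rw [ShortComplex.exact_iff_isZero_homology, IsZero.iff_id_eq_zero, ← ShortComplex.homologyMap_id,
      ← hid, ShortComplex.homologyMap_add, ShortComplex.homologyMap_comp, ShortComplex.homologyMap_comp,
      ((ShortComplex.exact_iff_isZero_homology _).1 (h₁ S hS).exact).eq_of_tgt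
        (ShortComplex.homologyMap P₁) 0,
      ((ShortComplex.exact_iff_isZero_homology _).1 (h₂ S hS).exact).eq_of_tgt
        (ShortComplex.homologyMap P₂) 0, zero_comp, zero_comp, add_zero]
  · have := (h₁ S hS).mono_f
    have := (h₂ S hS).mono_f
    refine Preadditive.mono_of_cancel_zero _ fun {W} z hz => ?_
    have e₁ : z ≫ P₁.τ₁ = 0 := by
      rw [← cancel_mono (S.map (F.flip.obj b₁)).f, Category.assoc, P₁.comm₁₂, reassoc_of% hz,
        zero_comp, zero_comp]
    have e₂ : z ≫ P₂.τ₁ = 0 := by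
      rw [← cancel_mono (S.map (F.flip.obj b₂)).f, Category.assoc, P₂.comm₁₂, reassoc_of% hz,
        zero_comp, zero_comp]
    rw [← Category.comp_id z, ← ShortComplex.id_τ₁ (S.map (F.flip.obj c)), ← hid]
    simp [reassoc_of% e₁, reassoc_of% e₂]
  · have := (h₁ S hS).epi_g
    have := (h₂ S hS).epi_g
    refine Preadditive.epi_of_cancel_zero _ fun {W} z hz => ?_
    have e₁ : I₁.τ₃ ≫ z = 0 := by
      rw [← cancel_epi (S.map (F.flip.obj b₁)).g, ← reassoc_of% I₁.comm₂₃, hz, comp_zero, comp_zero]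
    have e₂ : I₂.τ₃ ≫ z = 0 := by
      rw [← cancel_epi (S.map (F.flip.obj b₂)).g, ← reassoc_of% I₂.comm₂₃, hz, comp_zero, comp_zero]
    rw [← Category.id_comp z, ← ShortComplex.id_τ₃ (S.map (F.flip.obj c)), ← hid]
    simp [e₁, e₂]

namespace Res

variable {Φ : B ⥤ B} [Φ.PreservesZeroMorphisms] {π : Φ ⟶ 𝟭 B} [∀ b, Epi (π.app b)]

lemma isFlatObj_stage (hΦ : ∀ b, IsFlatObj F (Φ.obj b)) (n : ℤ) :
    ∀ (k : ℕ) (G : CochainComplex B ℤ) (q : ℤ), IsFlatObj F (((stage Φ π n k).P.obj G).X q)
  | 0, G, q => hΦ (G.X q)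
  | k + 1, G, q =>
    isFlatObj_of_sum _ _ _ _
      (CochainComplex.mappingCone.id_X ((attach Φ π (n - k) (stage Φ π n k)).app G) q (q + 1) rfl)
      (hΦ _) (isFlatObj_stage hΦ n k G q)

variable [HasCountableCoproducts C] [CountableAB4 C]
  [HasColimitsOfShape ℕ B] [HasExactColimitsOfShape ℕ B]
  [HasColimitsOfShape ℕ C] [HasExactColimitsOfShape ℕ C]
  [∀ a, PreservesColimitsOfShape ℕ (F.obj a)]

omit [HasCountableCoproducts C] [CountableAB4 C] [HasExactColimitsOfShape ℕ B] in
theorem isFlatObj_P (hΦ : ∀ b, IsFlatObj F (Φ.obj b)) (G : CochainComplex B ℤ) (q : ℤ) :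
    IsFlatObj F (((P Φ π).obj G).X q) :=
  isFlatObj_of_isColimit (isColimitOfPreserves (HomologicalComplex.eval B _ q)
    (colimit.isColimit ((seqP Φ π).flip.obj G))) fun j => isFlatObj_stage hΦ _ _ _ q

omit [HasExactColimitsOfShape ℕ B] in
theorem isKFlat_P (hΦ : ∀ b, IsFlatObj F (Φ.obj b)) (G : CochainComplex B ℤ) :
    IsKFlat F ((P Φ π).obj G) :=
  isKFlat_of_isColimit (colimit.isColimit ((seqP Φ π).flip.obj G)) fun j =>
    isKFlat_of_boundedAbove _ (j : ℤ)
      (isZero_stage_X (G.truncLE j) j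
        (fun q hq => CochainComplex.isZero_of_isStrictlyLE _ (j : ℤ) q hq) (2 * j))
      (isFlatObj_stage hΦ _ _ _)

end Res

end Groth.Agent.H16Derived.KFlat
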