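import Groth.Agent.H16Derived.KFlat.SheafTensor
import Groth.Agent.H16Derived.KFlat.Resolution
import Mathlib.Algebra.Category.ModuleCat.Presheaf.Generator
import Mathlib.Algebra.Category.ModuleCat.Products
import Mathlib.RingTheory.Flat.Basic

/-!
# A functorial flat cover of O_X-modules

`gen U` is the extension by zero of `O_U`: maps out of it are sections over `U`, its stalks are flat.
`cover : X.Modules ⥤ X.Modules` preserves zero morphisms, has flat values and maps epimorphically to the
identity.
-/

set_option autoImplicit false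

universe u

open CategoryTheory CategoryTheory.Limits AlgebraicGeometry Opposite TopologicalSpace
open scoped ZeroObject

namespace Groth.Agent.H16Derived.KFlat.Stalk

open Groth.Agent.H06Mod

variable {X : Scheme.{u}}

/-- The extension by zero of `O_U`. -/
noncomputable def gen (U : X.Opens) : X.Modules :=
  (PresheafOfModules.sheafification.{u, u, u, u} (R := X.ringCatSheaf) (𝟙 X.ringCatSheaf.obj)).obj
    ((PresheafOfModules.free X.ringCatSheaf.obj).obj (yoneda.obj U))

/-- Maps out of `gen U` are sections over `U`. -/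
noncomputable def genEquiv (U : X.Opens) (M : X.Modules) : (gen U ⟶ M) ≃ Γ(M, U) :=
  ((PresheafOfModules.sheafificationAdjunction (R := X.ringCatSheaf)
    (𝟙 X.ringCatSheaf.obj)).homEquiv _ M).trans PresheafOfModules.freeYonedaEquiv

lemma genEquiv_comp (U : X.Opens) {M N : X.Modules} (f : gen U ⟶ M) (g : M ⟶ N) :
    genEquiv U N (f ≫ g) = g.app U (genEquiv U M f) := by
  let adj := PresheafOfModules.sheafificationAdjunction (R := X.ringCatSheaf) (𝟙 X.ringCatSheaf.obj)
  exact (congrArg PresheafOfModules.freeYonedaEquiv (adj.homEquiv_naturality_right f g)).trans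
    (PresheafOfModules.freeYonedaEquiv_comp _ _)

/-- The tautological section of `gen U`. -/
noncomputable def genSect (U : X.Opens) : Γ(gen U, U) := genEquiv U _ (𝟙 _)

lemma genEquiv_eq (U : X.Opens) {M : X.Modules} (f : gen U ⟶ M) :
    genEquiv U M f = f.app U (genSect U) := by
  conv_lhs => rw [← Category.id_comp f]
  exact genEquiv_comp U (𝟙 _) f

lemma stalkOfHom_homOfStalk {x : X} {N : Type u} [AddCommGroup N] [Module (X.presheaf.stalk x) N]
    {F : X.Modules} (ψ : F.presheaf.stalk x →ₗ[X.presheaf.stalk x] N) (a : F.presheaf.stalk x) :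
    stalkOfHom (homOfStalk ψ) a = ψ a := by
  obtain ⟨U, hU, a, rfl⟩ := F.presheaf.exists_germ_eq a
  rw [stalkOfHom_germ, skyEval_homOfStalk]

lemma gen_stalk_ext (U : X.Opens) (x : X) {N : Type u} [AddCommGroup N]
    [Module (X.presheaf.stalk x) N] (ψ ψ' : (gen U).presheaf.stalk x →ₗ[X.presheaf.stalk x] N)
    (h : ∀ hx : x ∈ U, ψ ((gen U).presheaf.germ U x hx (genSect U)) =
      ψ' ((gen U).presheaf.germ U x hx (genSect U))) : ψ = ψ' := by
  have he : homOfStalk ψ = homOfStalk ψ' := by
    apply (genEquiv U (sky x N)).injective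
    rw [genEquiv_eq, genEquiv_eq]
    refine skyEval_ext (N := N) x fun hx => ?_
    rw [skyEval_homOfStalk, skyEval_homOfStalk]
    exact h hx
  refine LinearMap.ext fun a => ?_
  rw [← stalkOfHom_homOfStalk ψ, ← stalkOfHom_homOfStalk ψ', he]

/-- The stalks of `gen U` are flat. -/
theorem isFlat_gen (U : X.Opens) : FlatMod.IsFlat (gen U) := by
  intro x
  let R := X.presheaf.stalk x
  let d : gen U ⟶ sky x R := (genEquiv U (sky x R)).symm (fun _ => (1 : R))
  let i : (gen U).presheaf.stalk x →ₗ[R] R :=
    { toFun := stalkOfHom d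
      map_add' := map_add _
      map_smul' := stalkOfHom_smul d }
  by_cases hx : x ∈ U
  · refine Module.Flat.of_retract (M := R) i
      (LinearMap.toSpanSingleton R _ ((gen U).presheaf.germ U x hx (genSect U))) ?_
    refine gen_stalk_ext U x _ _ fun hx' => ?_
    have h1 : i ((gen U).presheaf.germ U x hx' (genSect U)) = 1 := by
      show stalkOfHom d _ = _
      rw [stalkOfHom_germ, ← genEquiv_eq, Equiv.apply_symm_apply]
      rfl
    rw [LinearMap.comp_apply, h1, LinearMap.id_apply, LinearMap.toSpanSingleton_apply, one_smul]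
  · refine Module.Flat.of_retract (M := R) i 0 ?_
    exact gen_stalk_ext U x _ _ fun hx' => absurd hx' hx

/-- A coproduct of flat O_X-modules is flat. -/
theorem isFlat_sigma {ι : Type u} (M : ι → X.Modules) (h : ∀ i, FlatMod.IsFlat (M i)) :
    FlatMod.IsFlat (∐ M) := by
  intro x
  classical
  haveI : ∀ i, Module.Flat (X.presheaf.stalk x) ((DerSch.stalkFunctor X x).obj (M i)) :=
    fun i => h i x
  exact Module.Flat.of_linearEquiv
    ((PreservesCoproduct.iso (DerSch.stalkFunctor X x) M) ≪≫
      ModuleCat.coprodIsoDirectSum fun i => (DerSch.stalkFunctor X x).obj (M i)).toLinearEquiv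

/-- A retract of a flat O_X-module is flat. -/
theorem isFlat_of_retract {M N : X.Modules} (i : N ⟶ M) (r : M ⟶ N) (h : i ≫ r = 𝟙 N)
    (hM : FlatMod.IsFlat M) : FlatMod.IsFlat N := fun x => by
  haveI : Module.Flat (X.presheaf.stalk x) ((DerSch.stalkFunctor X x).obj M) := hM x
  refine Module.Flat.of_retract (M := ((DerSch.stalkFunctor X x).obj M))
    ((DerSch.stalkFunctor X x).map i).hom ((DerSch.stalkFunctor X x).map r).hom ?_
  have hh : (DerSch.stalkFunctor X x).map i ≫ (DerSch.stalkFunctor X x).map r = 𝟙 _ := by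
    rw [← Functor.map_comp, h, CategoryTheory.Functor.map_id]
  exact LinearMap.ext fun a => congr($hh a)

/-- A zero O_X-module is flat. -/
theorem isFlat_of_isZero {M : X.Modules} (h : IsZero M) : FlatMod.IsFlat M :=
  isFlat_of_retract (M := ∐ fun e : PEmpty.{u + 1} => e.elim) 0 0 (h.eq_of_src _ _)
    (isFlat_sigma _ fun e => e.elim)

/-- The free cover, before reduction. -/
noncomputable def cover₀ : X.Modules ⥤ X.Modules where
  obj M := ∐ fun p : Σ U : X.Opens, Γ(M, U) => gen p.1
  map {M N} f := Sigma.desc fun p =>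
    Sigma.ι (fun q : Σ U : X.Opens, Γ(N, U) => gen q.1) ⟨p.1, f.app p.1 p.2⟩
  map_id M := Sigma.hom_ext _ _ fun p => by simp
  map_comp f g := Sigma.hom_ext _ _ fun p => by
    rw [Sigma.ι_desc, Sigma.ι_desc_assoc, Sigma.ι_desc]
    rfl

/-- The free cover maps to the identity. -/
noncomputable def cover₀π : cover₀ ⟶ 𝟭 X.Modules where
  app M := Sigma.desc fun p => (genEquiv p.1 M).symm p.2
  naturality {M N} f := by
    refine Sigma.hom_ext _ _ fun p => ?_
    dsimp [cover₀]
    rw [Sigma.ι_desc_assoc, Sigma.ι_desc_assoc, Sigma.ι_desc]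
    apply (genEquiv p.1 N).injective
    rw [Equiv.apply_symm_apply, genEquiv_comp, Equiv.apply_symm_apply]

instance epi_cover₀π (M : X.Modules) : Epi (cover₀π.app M) := by
  refine Preadditive.epi_of_cancel_zero _ fun {N} g hg => ?_
  refine Scheme.Modules.hom_ext _ _ fun U => ?_
  ext m
  have e : Sigma.ι (fun q : Σ U : X.Opens, Γ(M, U) => gen q.1) ⟨U, m⟩ ≫ cover₀π.app M =
      (genEquiv U M).symm m := Sigma.ι_desc _ _
  have h1 : (genEquiv U M).symm m ≫ g = 0 :=
    (congrArg (· ≫ g) e).symm.trans ((Category.assoc _ _ _).trans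
      ((congrArg (Sigma.ι (fun q : Σ U : X.Opens, Γ(M, U) => gen q.1) ⟨U, m⟩ ≫ ·) hg).trans
        comp_zero))
  have h2 := congrArg (genEquiv U N) h1
  rw [genEquiv_comp, Equiv.apply_symm_apply, genEquiv_eq] at h2
  exact h2

/-- The reduced cover: a functor preserving zero morphisms. -/
noncomputable def cover : X.Modules ⥤ X.Modules where
  obj M := cokernel ((cover₀ (X := X)).map (0 : (0 : X.Modules) ⟶ M))
  map {M N} f := cokernel.map _ _ (𝟙 _) ((cover₀ (X := X)).map f) (by
    rw [Category.id_comp, ← Functor.map_comp, zero_comp])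
  map_id M := (cancel_epi (cokernel.π _)).1 (by simp)
  map_comp f g := (cancel_epi (cokernel.π _)).1 (by simp)

instance : (cover (X := X)).PreservesZeroMorphisms where
  map_zero M N := by
    refine (cancel_epi (cokernel.π _)).1 ?_
    refine (cokernel.π_desc _ _ _).trans (Eq.trans ?_ comp_zero.symm)
    show (cover₀ (X := X)).map (0 : M ⟶ N) ≫ cokernel.π ((cover₀ (X := X)).map
      (0 : (0 : X.Modules) ⟶ N)) = 0
    rw [show (0 : M ⟶ N) = (0 : M ⟶ 0) ≫ (0 : (0 : X.Modules) ⟶ N) from zero_comp.symm,
      Functor.map_comp, Category.assoc, cokernel.condition, comp_zero]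

/-- The reduced cover maps to the identity. -/
noncomputable def coverπ : cover ⟶ 𝟭 X.Modules where
  app M := cokernel.desc _ (cover₀π.app M) (by
    rw [cover₀π.naturality]
    exact comp_zero)
  naturality {M N} f := by
    refine (cancel_epi (cokernel.π _)).1 ?_
    refine ((cokernel.π_desc_assoc _ _ _ _).trans ?_).trans (cokernel.π_desc_assoc _ _ _ _).symm
    exact ((Category.assoc _ _ _).trans (congrArg (_ ≫ ·) (cokernel.π_desc _ _ _))).trans
      (cover₀π.naturality f)

instance epi_coverπ (M : X.Modules) : Epi (coverπ.app M) :=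
  epi_of_epi_fac (cokernel.π_desc _ _ _ : _ ≫ coverπ.app M = cover₀π.app M)

theorem isFlat_cover (M : X.Modules) : FlatMod.IsFlat (cover.obj M) := by
  refine isFlat_of_retract (M := cover₀.obj M)
    (cokernel.desc _ (𝟙 _ - (cover₀ (X := X)).map (0 : M ⟶ 0) ≫
      (cover₀ (X := X)).map (0 : (0 : X.Modules) ⟶ M)) ?_)
    (cokernel.π _) ?_ (isFlat_sigma _ fun p => isFlat_gen p.1)
  · rw [Preadditive.comp_sub, Category.comp_id, ← Category.assoc, ← Functor.map_comp,
      show (0 : (0 : X.Modules) ⟶ M) ≫ (0 : M ⟶ 0) = 𝟙 _ from (isZero_zero _).eq_of_src _ _,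
      CategoryTheory.Functor.map_id, Category.id_comp, sub_self]
  · refine (cancel_epi (cokernel.π ((cover₀ (X := X)).map (0 : (0 : X.Modules) ⟶ M)))).1 ?_
    refine (cokernel.π_desc_assoc _ _ _ _).trans ?_
    show _ = cokernel.π ((cover₀ (X := X)).map (0 : (0 : X.Modules) ⟶ M)) ≫ 𝟙 _
    rw [Preadditive.sub_comp, Category.id_comp, Category.assoc, Category.comp_id]
    exact ((congrArg (_ - _ ≫ ·) (cokernel.condition _)).trans
      (congrArg (_ - ·) comp_zero)).trans (sub_zero _)

/-- The K-flat resolution functor of O_X-modules. -/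
noncomputable abbrev res : CochainComplex X.Modules ℤ ⥤ CochainComplex X.Modules ℤ :=
  Res.P (cover (X := X)) coverπ

/-- The augmentation of the K-flat resolution. -/
noncomputable abbrev resψ : res (X := X) ⟶ 𝟭 _ := Res.ψ (cover (X := X)) coverπ

theorem quasiIso_resψ (G : CochainComplex X.Modules ℤ) : QuasiIso (resψ.app G) :=
  (Res.quasiIso_ψ_app G).1

theorem epi_resψ (G : CochainComplex X.Modules ℤ) (n : ℤ) : Epi ((resψ.app G).f n) :=
  (Res.quasiIso_ψ_app G).2 n

theorem isKFlat_res (G : CochainComplex X.Modules ℤ) :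
    IsKFlat (DCoh.tensorBi (X := X)) (res.obj G) :=
  Res.isKFlat_P (fun M => isFlatObj_of_isFlat (isFlat_cover M)) G

theorem isKFlat_flip_res (G : CochainComplex X.Modules ℤ) :
    IsKFlat (DCoh.tensorBi (X := X)).flip (res.obj G) :=
  Res.isKFlat_P (fun M => isFlatObj_flip_of_isFlat (isFlat_cover M)) G

end Groth.Agent.H16Derived.KFlat.Stalk
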