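import Mathlib.Algebra.Homology.BifunctorShift
import Mathlib.Algebra.Homology.BifunctorHomotopy
import Mathlib.CategoryTheory.Abelian.GrothendieckAxioms.Colim
import Mathlib.Algebra.Homology.HomologySequenceLemmas
import Groth.Agent.H16Derived.TermwiseSplit
import Groth.Agent.H16Derived.KInjRes.Main

/-!
# K-flat complexes for a biadditive bifunctor

`IsKFlat F E`: `L ↦ Tot F(L, E)` preserves acyclicity.  Flatness of objects: `IsFlatObj F b` says that
`a ↦ F(a, b)` is exact.  The left-handed notions are obtained by applying these to `F.flip`.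
-/

set_option autoImplicit false

universe v v' v'' u u' u''

open CategoryTheory CategoryTheory.Limits

namespace Groth.Agent.H16Derived.KFlat

variable {A : Type u} [Category.{v} A] [Abelian A] {B : Type u'} [Category.{v'} B] [Abelian B]
  {C : Type u''} [Category.{v''} C] [Abelian C] [HasCountableCoproducts C]
  (F : A ⥤ B ⥤ C) [F.Additive] [∀ a, (F.obj a).Additive]

instance hasMapBifunctor (K : CochainComplex A ℤ) (L : CochainComplex B ℤ) :
    HomologicalComplex.HasMapBifunctor K L F (ComplexShape.up ℤ) := fun _ => inferInstance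

/-- `E ↦ Tot F(L, E)`. -/
noncomputable abbrev tot (L : CochainComplex A ℤ) : CochainComplex B ℤ ⥤ CochainComplex C ℤ :=
  F.map₂CochainComplex.obj L

/-- `Tot F(L, E)` is acyclic for every acyclic `L`. -/
def IsKFlat (E : CochainComplex B ℤ) : Prop :=
  ∀ L : CochainComplex A ℤ, L.Acyclic → ((tot F L).obj E).Acyclic

/-- `a ↦ F(a, b)` is exact. -/
def IsFlatObj (b : B) : Prop :=
  ∀ S : ShortComplex A, S.ShortExact → (S.map (F.flip.obj b)).ShortExact

lemma isKFlat_iff_homology (E : CochainComplex B ℤ) :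
    IsKFlat F E ↔ ∀ L : CochainComplex A ℤ, (∀ i, IsZero (L.homology i)) →
      ∀ i, IsZero (((tot F L).obj E).homology i) := by
  simp only [IsKFlat, HomologicalComplex.Acyclic, HomologicalComplex.exactAt_iff_isZero_homology]

variable {F}

lemma ι_tot_map (L : CochainComplex A ℤ) {E E' : CochainComplex B ℤ} (φ : E ⟶ E') (p q n : ℤ)
    (h : p + q = n) :
    HomologicalComplex.ιMapBifunctor L E F (ComplexShape.up ℤ) p q n h ≫ ((tot F L).map φ).f n =
      (F.obj (L.X p)).map (φ.f q) ≫
        HomologicalComplex.ιMapBifunctor L E' F (ComplexShape.up ℤ) p q n h := by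
  dsimp [tot]
  erw [HomologicalComplex.ι_mapBifunctorMap]
  simp

instance (L : CochainComplex A ℤ) : (tot F L).Additive where
  map_add {E E' f g} := by
    ext n : 1
    refine HomologicalComplex.mapBifunctor.hom_ext fun p q h => ?_
    rw [HomologicalComplex.add_f_apply]
    erw [Preadditive.comp_add]
    erw [ι_tot_map L (f + g) p q n h, ι_tot_map L f p q n h, ι_tot_map L g p q n h]
    rw [HomologicalComplex.add_f_apply, Functor.map_add]
    exact Preadditive.add_comp _ _ _ _ _ _

lemma tot_map_zero (L : CochainComplex A ℤ) {E E' : CochainComplex B ℤ} :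
    (tot F L).map (0 : E ⟶ E') = 0 := Functor.map_zero _ _ _

/-- `Tot F(L, -)` on homotopies. -/
noncomputable def totHomotopy (L : CochainComplex A ℤ) {E E' : CochainComplex B ℤ} {f g : E ⟶ E'}
    (h : Homotopy f g) : Homotopy ((tot F L).map f) ((tot F L).map g) :=
  HomologicalComplex.mapBifunctorMapHomotopy₂ (𝟙 L) h F (ComplexShape.up ℤ)

lemma quasiIso_tot_map_of_homotopy_inverse (L : CochainComplex A ℤ) {E E' : CochainComplex B ℤ}
    (f : E ⟶ E') (g : E' ⟶ E) (h₁ : Nonempty (Homotopy (f ≫ g) (𝟙 E)))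
    (h₂ : Nonempty (Homotopy (g ≫ f) (𝟙 E'))) : QuasiIso ((tot F L).map f) := by
  let e : HomotopyEquiv ((tot F L).obj E) ((tot F L).obj E') :=
    { hom := (tot F L).map f
      inv := (tot F L).map g
      homotopyHomInvId := (Homotopy.ofEq ((tot F L).map_comp f g).symm).trans
        ((totHomotopy L h₁.some).trans (Homotopy.ofEq ((tot F L).map_id E)))
      homotopyInvHomId := (Homotopy.ofEq ((tot F L).map_comp g f).symm).trans
        ((totHomotopy L h₂.some).trans (Homotopy.ofEq ((tot F L).map_id E'))) }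
  exact e.quasiIso_hom

lemma acyclic_of_iso {K K' : CochainComplex C ℤ} (e : K ≅ K') (h : K.Acyclic) : K'.Acyclic :=
  fun i => (HomologicalComplex.exactAt_iff_isZero_homology _ _).2
    (((HomologicalComplex.exactAt_iff_isZero_homology _ _).1 (h i)).of_iso
      ((HomologicalComplex.homologyFunctor C _ i).mapIso e).symm)

lemma IsKFlat.of_iso {E E' : CochainComplex B ℤ} (e : E ≅ E') (h : IsKFlat F E) : IsKFlat F E' :=
  fun L hL => acyclic_of_iso ((tot F L).mapIso e) (h L hL)

lemma acyclic_of_homotopy_id_zero' {K : CochainComplex C ℤ} (h : Homotopy (𝟙 K) 0) : K.Acyclic := by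
  intro i
  rw [HomologicalComplex.exactAt_iff_isZero_homology, IsZero.iff_id_eq_zero,
    ← HomologicalComplex.homologyMap_id, h.homologyMap_eq i, HomologicalComplex.homologyMap_zero]

lemma acyclic_tot_of_contractible (L : CochainComplex A ℤ) {E : CochainComplex B ℤ}
    (h : Homotopy (𝟙 E) 0) : ((tot F L).obj E).Acyclic :=
  acyclic_of_homotopy_id_zero'
    ((Homotopy.ofEq ((tot F L).map_id E).symm).trans
      ((totHomotopy L h).trans (Homotopy.ofEq ((tot F L).map_zero E E))))

/-- A short complex of functors which is pointwise short exact is short exact. -/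
lemma shortExact_of_eval {J : Type*} [Category J] {D : Type*} [Category D] [Abelian D]
    (T : ShortComplex (J ⥤ D)) (h : ∀ j, (T.map ((evaluation J D).obj j)).ShortExact) :
    T.ShortExact where
  exact := by
    rw [ShortComplex.exact_iff_isZero_homology, IsZero.iff_id_eq_zero]
    ext j
    exact (((ShortComplex.exact_iff_isZero_homology _).1 (h j).exact).of_iso
      (T.mapHomologyIso ((evaluation J D).obj j)).symm).eq_of_src _ _
  mono_f := by
    have : ∀ j, Mono (T.f.app j) := fun j => (h j).mono_f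
    exact NatTrans.mono_of_mono_app _
  epi_g := by
    have : ∀ j, Epi (T.g.app j) := fun j => (h j).epi_g
    exact NatTrans.epi_of_epi_app _

section Exact

variable [CountableAB4 C]

/-- Coproducts of short exact sequences are short exact. -/
lemma shortExact_sigma {I : Type} [Countable I] (S : I → ShortComplex C)
    (hS : ∀ i, (S i).ShortExact) :
    (ShortComplex.mk (Limits.Sigma.map fun i => (S i).f) (Limits.Sigma.map fun i => (S i).g)
      (Sigma.hom_ext _ _ fun i => by simp [reassoc_of% (S i).zero])).ShortExact := by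
  let T : ShortComplex (Discrete I ⥤ C) := ShortComplex.mk
    (Discrete.natTrans (F := Discrete.functor fun i => (S i).X₁)
      (G := Discrete.functor fun i => (S i).X₂) fun j => (S j.as).f)
    (Discrete.natTrans (G := Discrete.functor fun i => (S i).X₃) fun j => (S j.as).g)
    (by ext ⟨j⟩; exact (S j).zero)
  have hT : T.ShortExact := shortExact_of_eval T fun ⟨j⟩ => hS j
  exact hT.map_of_exact colim

omit [CountableAB4 C] in
/-- In degree `n`, `Tot F(L, φ)` is the coproduct of the `F(Lᵖ, φ^q)`, `p + q = n`. -/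
lemma sigma_map_eq_tot_map (L : CochainComplex A ℤ) {E E' : CochainComplex B ℤ} (φ : E ⟶ E')
    (n : ℤ) :
    (Limits.Sigma.map fun i : ((ComplexShape.π (ComplexShape.up ℤ) (ComplexShape.up ℤ)
        (ComplexShape.up ℤ)) ⁻¹' {n} : Set (ℤ × ℤ)) => (F.obj (L.X i.1.1)).map (φ.f i.1.2)) =
      ((tot F L).map φ).f n := by
  refine Sigma.hom_ext _ _ fun i => (Sigma.ι_map _ i).trans ?_
  exact (ι_tot_map L φ i.1.1 i.1.2 n i.2).symm

variable (F) in
lemma shortExact_tot (L : CochainComplex A ℤ) (S : ShortComplex (CochainComplex B ℤ))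
    (hS : ∀ p q : ℤ, ((S.map (HomologicalComplex.eval B (ComplexShape.up ℤ) q)).map
      (F.obj (L.X p))).ShortExact) :
    (S.map (tot F L)).ShortExact := by
  refine HomologicalComplex.shortExact_of_degreewise_shortExact _ fun n => ?_
  let I := (ComplexShape.π (ComplexShape.up ℤ) (ComplexShape.up ℤ) (ComplexShape.up ℤ)) ⁻¹' {n}
  have h := shortExact_sigma
    (fun i : I => (S.map (HomologicalComplex.eval B (ComplexShape.up ℤ) i.1.2)).map
      (F.obj (L.X i.1.1))) (fun i => hS _ _)
  refine ShortComplex.shortExact_of_iso ?_ h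
  refine ShortComplex.isoMk (Iso.refl _) (Iso.refl _) (Iso.refl _) ?_ ?_
  all_goals
    exact (Category.id_comp _).trans ((sigma_map_eq_tot_map L _ n).symm.trans
      (Category.comp_id _).symm)

/-- A short exact sequence which stays exact after applying each `F(a, -)` in each degree. -/
def IsFSES (S : ShortComplex (CochainComplex B ℤ)) : Prop :=
  ∀ (a : A) (q : ℤ), ((S.map (HomologicalComplex.eval B (ComplexShape.up ℤ) q)).map
    (F.obj a)).ShortExact

lemma isFSES_of_splitting (S : ShortComplex (CochainComplex B ℤ))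
    (hS : ∀ q, Nonempty (S.map (HomologicalComplex.eval B (ComplexShape.up ℤ) q)).Splitting) :
    IsFSES (F := F) S :=
  fun a q => ((hS q).some.map (F.obj a)).shortExact

lemma quasiIso_of_acyclic {K K' : CochainComplex C ℤ} (f : K ⟶ K') (hK : K.Acyclic)
    (hK' : K'.Acyclic) : QuasiIso f :=
  ⟨fun i => by
    rw [quasiIsoAt_iff_isIso_homologyMap]
    exact IsZero.isIso (HomologicalComplex.ExactAt.isZero_homology (hK i))
      (HomologicalComplex.ExactAt.isZero_homology (hK' i)) _⟩

lemma IsFSES.isKFlat₁ {S : ShortComplex (CochainComplex B ℤ)} (hS : IsFSES (F := F) S)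
    (h₂ : IsKFlat F S.X₂) (h₃ : IsKFlat F S.X₃) : IsKFlat F S.X₁ := fun L hL =>
  (shortExact_tot F L S fun _ _ => hS _ _).acyclic_X₁ (quasiIso_of_acyclic _ (h₂ L hL) (h₃ L hL))

lemma IsFSES.isKFlat₂ {S : ShortComplex (CochainComplex B ℤ)} (hS : IsFSES (F := F) S)
    (h₁ : IsKFlat F S.X₁) (h₃ : IsKFlat F S.X₃) : IsKFlat F S.X₂ := fun L hL =>
  (shortExact_tot F L S fun _ _ => hS _ _).acyclic_X₂ (h₁ L hL) (h₃ L hL)

lemma IsFSES.isKFlat₃ {S : ShortComplex (CochainComplex B ℤ)} (hS : IsFSES (F := F) S)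
    (h₁ : IsKFlat F S.X₁) (h₂ : IsKFlat F S.X₂) : IsKFlat F S.X₃ := fun L hL =>
  (shortExact_tot F L S fun _ _ => hS _ _).acyclic_X₃ (quasiIso_of_acyclic _ (h₁ L hL) (h₂ L hL))

/-- Every morphism `φ` comes with a complex `W` (a cone of `φ`) whose behaviour controls whether
`Tot F(L, φ)` is a quasi-isomorphism. -/
lemma exists_cone {E E' : CochainComplex B ℤ} (φ : E ⟶ E') :
    ∃ (S : ShortComplex (CochainComplex B ℤ)) (e : S.X₁ ≅ E),
      IsFSES (F := F) S ∧ S.ShortExact ∧
      ∃ (π : S.X₂ ⟶ E') (s : E' ⟶ S.X₂), e.inv ≫ S.f ≫ π = φ ∧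
        Nonempty (Homotopy (π ≫ s) (𝟙 _)) ∧ s ≫ π = 𝟙 _ := by
  obtain ⟨M, j, π, s, h₁, h₂, h₃, h₄, -, -⟩ := TermwiseSplit.exists_injective_factorization E E' φ
  have : Mono j := HomologicalComplex.mono_of_mono_f _ fun n => by
    obtain ⟨C', e, he⟩ := h₄ n
    exact mono_of_mono_fac he
  let S := ShortComplex.mk j (cokernel.π j) (cokernel.condition j)
  have hS : S.ShortExact := { exact := ShortComplex.exact_cokernel j }
  refine ⟨S, Iso.refl _, isFSES_of_splitting S fun q => ?_, hS, π, s, ?_, h₃, h₂⟩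
  · obtain ⟨C', e, he⟩ := h₄ q
    have hq := hS.map_of_exact (HomologicalComplex.eval B (ComplexShape.up ℤ) q)
    exact ⟨ShortComplex.Splitting.ofExactOfRetraction _ hq.exact (e.hom ≫ biprod.fst)
      (by change j.f q ≫ e.hom ≫ biprod.fst = 𝟙 _; rw [← Category.assoc, he, biprod.inl_fst])
      hq.epi_g⟩
  · simpa [S] using h₁

/-- `Tot F(L, φ)` is a quasi-isomorphism if `φ` is a quasi-isomorphism of K-flat complexes and `L` is
acyclic, or more generally as soon as `Tot F(L, -)` kills the acyclic complexes that are K-flat. -/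
lemma quasiIso_tot_map (L : CochainComplex A ℤ) {E E' : CochainComplex B ℤ} (φ : E ⟶ E')
    [QuasiIso φ]
    (hW : ∀ W : CochainComplex B ℤ, W.Acyclic → (IsKFlat F E → IsKFlat F E' → IsKFlat F W) →
      ((tot F L).obj W).Acyclic) :
    QuasiIso ((tot F L).map φ) := by
  obtain ⟨S, e, hF, hS, π, s, h₁, h₂, h₃⟩ := exists_cone (F := F) φ
  have hπ : QuasiIso π :=
    (HomotopyEquiv.mk π s h₂.some (Homotopy.ofEq h₃)).quasiIso_hom
  have : QuasiIso (e.inv ≫ S.f ≫ π) := by rw [h₁]; infer_instance
  have : QuasiIso (S.f ≫ π) := quasiIso_of_comp_left e.inv (S.f ≫ π)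
  have hf : QuasiIso S.f := quasiIso_of_comp_right S.f π
  have hX₃ : S.X₃.Acyclic := hS.acyclic_X₃ hf
  have hW' := hW S.X₃ hX₃ fun hE hE' => hF.isKFlat₃ (hE.of_iso e.symm) (fun L' hL' => by
    have := quasiIso_tot_map_of_homotopy_inverse (F := F) L' π s h₂ ⟨Homotopy.ofEq h₃⟩
    intro i
    rw [HomologicalComplex.exactAt_iff_isZero_homology]
    exact ((hE' L' hL') i).isZero_homology.of_iso
      (isoOfQuasiIsoAt ((tot F L').map π) i))
  have hq : QuasiIso ((tot F L).map S.f) :=
    have h := shortExact_tot F L S fun _ _ => hF _ _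
    haveI : Mono ((tot F L).map S.f) := h.mono_f
    KInjRes.quasiIso_of_mono _ (acyclic_of_iso
      (IsColimit.coconePointUniqueUpToIso h.gIsCokernel (colimit.isColimit _)) hW')
  have := quasiIso_tot_map_of_homotopy_inverse (F := F) L π s h₂ ⟨Homotopy.ofEq h₃⟩
  rw [← h₁, Functor.map_comp, Functor.map_comp]
  infer_instance

variable (F) in
lemma quasiIso_tot_map_of_isKFlat_left (L : CochainComplex A ℤ) {E E' : CochainComplex B ℤ}
    (φ : E ⟶ E') [QuasiIso φ]
    (hL : ∀ W : CochainComplex B ℤ, W.Acyclic → ((tot F L).obj W).Acyclic) :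
    QuasiIso ((tot F L).map φ) :=
  quasiIso_tot_map L φ fun W hW _ => hL W hW

variable (F) in
lemma quasiIso_tot_map_of_acyclic (L : CochainComplex A ℤ) (hL : L.Acyclic)
    {E E' : CochainComplex B ℤ} (φ : E ⟶ E') [QuasiIso φ] (hE : IsKFlat F E) (hE' : IsKFlat F E') :
    QuasiIso ((tot F L).map φ) :=
  quasiIso_tot_map L φ fun _ _ h => h hE hE' L hL

end Exact

section Flip

instance : (F.flip).Additive where
instance (b : B) : (F.flip.obj b).Additive where

/-- `Tot F^flip(E, L) ≅ Tot F(L, E)`. -/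
noncomputable def totFlipIso (L : CochainComplex A ℤ) (E : CochainComplex B ℤ) :
    (tot F.flip E).obj L ≅ (tot F L).obj E :=
  HomologicalComplex.mapBifunctorFlipIso L E F (ComplexShape.up ℤ)

lemma acyclic_tot_of_isKFlat_flip {L : CochainComplex A ℤ} (hL : IsKFlat F.flip L)
    {E : CochainComplex B ℤ} (hE : E.Acyclic) : ((tot F L).obj E).Acyclic :=
  acyclic_of_iso (totFlipIso L E) (hL E hE)

/-- `Tot F(-, E)` on a morphism, through the flip. -/
lemma totFlipIso_naturality {L L' : CochainComplex A ℤ} (ψ : L ⟶ L') (E : CochainComplex B ℤ) :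
    (tot F.flip E).map ψ ≫ (totFlipIso L' E).hom =
      (totFlipIso L E).hom ≫ (F.map₂CochainComplex.map ψ).app E :=
  HomologicalComplex.mapBifunctorFlipIso_hom_naturality ψ (𝟙 E) F (ComplexShape.up ℤ)

lemma quasiIso_left_map_of_flip {L L' : CochainComplex A ℤ} (ψ : L ⟶ L') (E : CochainComplex B ℤ)
    [QuasiIso ((tot F.flip E).map ψ)] : QuasiIso ((F.map₂CochainComplex.map ψ).app E) := by
  have h : QuasiIso ((totFlipIso (F := F) L E).hom ≫ (F.map₂CochainComplex.map ψ).app E) := by
    rw [← totFlipIso_naturality]; infer_instance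
  exact quasiIso_of_comp_left (totFlipIso (F := F) L E).hom _

variable [CountableAB4 C]

variable (F) in
/-- Tensoring with a K-flat complex preserves quasi-isomorphisms. -/
theorem quasiIso_left_map {L L' : CochainComplex A ℤ} (ψ : L ⟶ L') [QuasiIso ψ]
    {E : CochainComplex B ℤ} (hE : IsKFlat F E) :
    QuasiIso ((F.map₂CochainComplex.map ψ).app E) := by
  have := quasiIso_tot_map_of_isKFlat_left F.flip E ψ fun W hW =>
    acyclic_of_iso (totFlipIso (F := F) W E).symm (hE W hW)
  exact quasiIso_left_map_of_flip ψ E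

variable (F) in
/-- A quasi-isomorphism of K-flat complexes stays one after applying `Tot F(L, -)`, for every `L`
having a left K-flat resolution. -/
theorem quasiIso_tot_map_of_resolution {E E' : CochainComplex B ℤ} (φ : E ⟶ E') [QuasiIso φ]
    (hE : IsKFlat F E) (hE' : IsKFlat F E') {L P : CochainComplex A ℤ} (r : P ⟶ L) [QuasiIso r]
    (hP : IsKFlat F.flip P) : QuasiIso ((tot F L).map φ) := by
  have h₁ := quasiIso_tot_map_of_isKFlat_left F P φ fun W hW => acyclic_tot_of_isKFlat_flip hP hW
  have h₂ := quasiIso_left_map F r hE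
  have h₃ := quasiIso_left_map F r hE'
  have h₄ : QuasiIso ((tot F P).map φ ≫ (F.map₂CochainComplex.map r).app E') := inferInstance
  rw [(F.map₂CochainComplex.map r).naturality φ] at h₄
  exact quasiIso_of_comp_left ((F.map₂CochainComplex.map r).app E) _

end Flip

end Groth.Agent.H16Derived.KFlat
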