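import Groth.Prelude.Def_DerSch
import Groth.Agent.H10Coh.ToSheaf
import Groth.Agent.H10Coh.ModGroth
import Mathlib.Topology.Sheaves.Abelian
import Mathlib.Topology.Sheaves.Skyscraper
import Mathlib.Algebra.Category.ModuleCat.Colimits

/-!
# Stalks of O_X-modules: exactness, colimits, conservativity
-/

set_option autoImplicit false

universe u

open CategoryTheory CategoryTheory.Limits AlgebraicGeometry TopologicalSpace
open scoped ZeroObject

namespace Groth.Agent.H16Derived.KFlat.Stalk

variable {X : Scheme.{u}} (x : X)

instance isGrothendieckAbelian_modules : IsGrothendieckAbelian.{u} X.Modules :=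
  H10Coh.isGrothendieckAbelian_sheafOfModules X.ringCatSheaf

/-- O_X-modules as abelian sheaves. -/
noncomputable def toAb : X.Modules ⥤ TopCat.Sheaf AddCommGrpCat.{u} X.toPresheafedSpace.carrier :=
  SheafOfModules.toSheaf X.ringCatSheaf

instance : (toAb (X := X)).Additive := inferInstanceAs (SheafOfModules.toSheaf X.ringCatSheaf).Additive
instance : (toAb (X := X)).Faithful := inferInstanceAs (SheafOfModules.toSheaf X.ringCatSheaf).Faithful
instance : PreservesFiniteLimits (toAb (X := X)) :=
  inferInstanceAs (PreservesFiniteLimits (SheafOfModules.toSheaf X.ringCatSheaf))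
instance : PreservesFiniteColimits (toAb (X := X)) :=
  inferInstanceAs (PreservesFiniteColimits (SheafOfModules.toSheaf X.ringCatSheaf))
instance (K : Type u) [SmallCategory K] : PreservesColimitsOfShape K (toAb (X := X)) :=
  H10Coh.preservesColimitsOfShape_toSheaf X.ringCatSheaf K
instance : PreservesColimitsOfSize.{u, u} (toAb (X := X)) where

/-- The underlying abelian group of the stalk. -/
noncomputable def stalkAbIso :
    DerSch.stalkFunctor X x ⋙ forget₂ (ModuleCat.{u} (X.presheaf.stalk x)) AddCommGrpCat.{u} ≅
      toAb ⋙ (TopCat.Sheaf.forget AddCommGrpCat.{u} X.toPresheafedSpace.carrier ⋙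
        TopCat.Presheaf.stalkFunctor AddCommGrpCat.{u} x) :=
  NatIso.ofComponents (fun _ => Iso.refl _) (fun _ => by ext; rfl)

instance : PreservesFiniteLimits (DerSch.stalkFunctor X x) := by
  have : PreservesFiniteLimits (DerSch.stalkFunctor X x ⋙
      forget₂ (ModuleCat.{u} (X.presheaf.stalk x)) AddCommGrpCat.{u}) :=
    preservesFiniteLimits_of_natIso (stalkAbIso x).symm
  exact preservesFiniteLimits_of_reflects_of_preserves _
    (forget₂ (ModuleCat.{u} (X.presheaf.stalk x)) AddCommGrpCat.{u})

instance : PreservesColimitsOfSize.{u, u} (DerSch.stalkFunctor X x) := by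
  have : PreservesColimitsOfSize.{u, u} (DerSch.stalkFunctor X x ⋙
      forget₂ (ModuleCat.{u} (X.presheaf.stalk x)) AddCommGrpCat.{u}) :=
    preservesColimits_of_natIso (stalkAbIso x).symm
  have : ReflectsColimitsOfSize.{u, u}
      (forget₂ (ModuleCat.{u} (X.presheaf.stalk x)) AddCommGrpCat.{u}) :=
    reflectsColimits_of_reflectsIsomorphisms
  exact preservesColimits_of_reflects_of_preserves _
    (forget₂ (ModuleCat.{u} (X.presheaf.stalk x)) AddCommGrpCat.{u})

instance : PreservesFiniteColimits (DerSch.stalkFunctor X x) :=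
  PreservesColimitsOfSize.preservesFiniteColimits _

/-- Exactness is checked on stalks. -/
theorem exact_iff (S : ShortComplex X.Modules) :
    S.Exact ↔ ∀ x : X, (S.map (DerSch.stalkFunctor X x)).Exact := by
  rw [← S.exact_map_iff_of_faithful toAb, TopCat.Sheaf.exact_iff_stalkFunctor_map_exact]
  refine forall_congr' fun y => ?_
  rw [ShortComplex.exact_iff_exact_map_forget₂ (S.map (DerSch.stalkFunctor X y))]
  exact ShortComplex.exact_iff_of_iso (S.mapNatIso (stalkAbIso y)).symm

/-- Short exactness is checked on stalks. -/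
theorem shortExact_iff (S : ShortComplex X.Modules) :
    S.ShortExact ↔ ∀ x : X, (S.map (DerSch.stalkFunctor X x)).ShortExact := by
  refine ⟨fun h y => h.map_of_exact _, fun h => ?_⟩
  refine { exact := (exact_iff S).2 fun y => (h y).exact, mono_f := ?_, epi_g := ?_ }
  · have h0 : (ShortComplex.mk (0 : (0 : X.Modules) ⟶ S.X₁) S.f zero_comp).Exact :=
      (exact_iff _).2 fun y => by
        have : Mono ((DerSch.stalkFunctor X y).map S.f) := (h y).mono_f
        exact (ShortComplex.exact_iff_mono _ ((DerSch.stalkFunctor X y).map_zero _ _)).2 this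
    exact (ShortComplex.exact_iff_mono _ rfl).1 h0
  · have h0 : (ShortComplex.mk S.g (0 : S.X₃ ⟶ (0 : X.Modules)) comp_zero).Exact :=
      (exact_iff _).2 fun y => by
        have : Epi ((DerSch.stalkFunctor X y).map S.g) := (h y).epi_g
        exact (ShortComplex.exact_iff_epi _ ((DerSch.stalkFunctor X y).map_zero _ _)).2 this
    exact (ShortComplex.exact_iff_epi _ rfl).1 h0

end Groth.Agent.H16Derived.KFlat.Stalk
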