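import Groth.Agent.H16Derived.KFlat.StalkTensor
import Groth.Agent.H16Derived.KFlat.SheafStalk
import Groth.Agent.H16Derived.KFlat.Basic
import Mathlib.RingTheory.Flat.CategoryTheory

/-!
# The tensor product of O_X-modules as a bifunctor: colimits and flatness

The hypotheses of the generic K-flat library (`IsKFlat`, `IsFlatObj`, ...) for `F := DCoh.tensorBi`.
-/

set_option autoImplicit false

universe u w

open CategoryTheory CategoryTheory.Limits AlgebraicGeometry TopologicalSpace MonoidalCategory

namespace Groth.Agent.H16Derived.KFlat.Stalk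

open Groth.Agent.H06Mod

variable {X : Scheme.{u}}

lemma isZero_of_stalk {M : X.Modules}
    (h : ∀ x : X, IsZero ((DerSch.stalkFunctor X x).obj M)) : IsZero M := by
  have h0 : (ShortComplex.mk (0 : M ⟶ M) (0 : M ⟶ M) zero_comp).Exact :=
    (exact_iff _).2 fun x => ShortComplex.exact_of_isZero_X₂ _ (h x)
  exact h0.isZero_X₂ rfl rfl

lemma isIso_of_stalk {M N : X.Modules} (f : M ⟶ N)
    (h : ∀ x : X, IsIso ((DerSch.stalkFunctor X x).map f)) : IsIso f := by
  have hm : Mono f := by
    refine Preadditive.mono_of_isZero_kernel _ (isZero_of_stalk fun x => ?_)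
    have := h x
    have h2 : (DerSch.stalkFunctor X x).map (kernel.ι f) = 0 := by
      rw [← cancel_mono ((DerSch.stalkFunctor X x).map f), ← Functor.map_comp, kernel.condition,
        Functor.map_zero, zero_comp]
    have := (DerSch.stalkFunctor X x).map_mono (kernel.ι f)
    rw [IsZero.iff_id_eq_zero, ← cancel_mono ((DerSch.stalkFunctor X x).map (kernel.ι f)), h2,
      comp_zero, comp_zero]
  have he : Epi f := by
    refine Preadditive.epi_of_isZero_cokernel _ (isZero_of_stalk fun x => ?_)
    have := h x
    have h2 : (DerSch.stalkFunctor X x).map (cokernel.π f) = 0 := by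
      rw [← cancel_epi ((DerSch.stalkFunctor X x).map f), ← Functor.map_comp, cokernel.condition,
        Functor.map_zero, comp_zero]
    have := (DerSch.stalkFunctor X x).map_epi (cokernel.π f)
    rw [IsZero.iff_id_eq_zero, ← cancel_epi ((DerSch.stalkFunctor X x).map (cokernel.π f)), h2,
      zero_comp, zero_comp]
  exact isIso_of_mono_of_epi f

/-- A functor to O_X-modules preserves a colimit as soon as all its stalks do. -/
lemma preservesColimit_of_stalk {D : Type*} [Category D] {J : Type u} [SmallCategory J]
    [HasColimitsOfShape J D] (K : J ⥤ D) (G : D ⥤ X.Modules)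
    [∀ x : X, PreservesColimit K (G ⋙ DerSch.stalkFunctor X x)] : PreservesColimit K G := by
  have : IsIso (colimit.post K G) := isIso_of_stalk _ fun x => by
    have e : colimit.post (K ⋙ G) (DerSch.stalkFunctor X x) ≫
        (DerSch.stalkFunctor X x).map (colimit.post K G) =
          colimit.post K (G ⋙ DerSch.stalkFunctor X x) := colimit.post_post K G _
    exact IsIso.of_isIso_fac_left e
  exact preservesColimit_of_isIso_post G K

variable (M : X.Modules) (x : X)

/-- `(M ⊗ -)_x ≅ M_x ⊗ (-)_x`. -/
noncomputable def leftIso :
    (DCoh.tensorBi (X := X)).obj M ⋙ DerSch.stalkFunctor X x ≅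
      DerSch.stalkFunctor X x ⋙ tensorLeft ((DerSch.stalkFunctor X x).obj M) :=
  (NatIso.ofComponents (fun N => (stalkEquiv M N x).toModuleIso) fun {N N'} g => by
    refine ModuleCat.hom_ext (LinearMap.ext fun t => ?_)
    have h := toStalk_naturality x (𝟙 M) g t
    rw [CategoryTheory.Functor.map_id, NatTrans.id_app, Category.id_comp] at h
    refine Eq.trans ?_ h.symm
    refine congrArg (toStalk M N' x) ?_
    have key : TensorProduct.map (stalkLin (𝟙 M) x) (stalkLin g x) =
        ((DerSch.stalkFunctor X x ⋙ tensorLeft ((DerSch.stalkFunctor X x).obj M)).map g).hom := by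
      refine TensorProduct.ext' fun a b => ?_
      have hid : stalkLin (𝟙 M) x a = a :=
        congr($(((DerSch.stalkFunctor X x).map_id M)) a)
      show stalkLin (𝟙 M) x a ⊗ₜ stalkLin g x b = _
      rw [hid]
      rfl
    exact (congr($key t)).symm).symm

/-- `(- ⊗ M)_x ≅ (-)_x ⊗ M_x`. -/
noncomputable def rightIso :
    (DCoh.tensorBi (X := X)).flip.obj M ⋙ DerSch.stalkFunctor X x ≅
      DerSch.stalkFunctor X x ⋙ tensorRight ((DerSch.stalkFunctor X x).obj M) :=
  (NatIso.ofComponents (fun N => (stalkEquiv N M x).toModuleIso) fun {N N'} g => by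
    refine ModuleCat.hom_ext (LinearMap.ext fun t => ?_)
    have h := toStalk_naturality x g (𝟙 M) t
    rw [CategoryTheory.Functor.map_id, Category.comp_id] at h
    refine Eq.trans ?_ h.symm
    refine congrArg (toStalk N' M x) ?_
    have key : TensorProduct.map (stalkLin g x) (stalkLin (𝟙 M) x) =
        ((DerSch.stalkFunctor X x ⋙ tensorRight ((DerSch.stalkFunctor X x).obj M)).map g).hom := by
      refine TensorProduct.ext' fun a b => ?_
      have hid : stalkLin (𝟙 M) x b = b :=
        congr($(((DerSch.stalkFunctor X x).map_id M)) b)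
      show stalkLin g x a ⊗ₜ stalkLin (𝟙 M) x b = _
      rw [hid]
      rfl
    exact (congr($key t)).symm).symm

instance preservesColimits_tensorBi_obj :
    PreservesColimitsOfSize.{u, u} ((DCoh.tensorBi (X := X)).obj M) where
  preservesColimitsOfShape {_ _} :=
    { preservesColimit := fun {K} =>
        have : ∀ y : X, PreservesColimit K
            ((DCoh.tensorBi (X := X)).obj M ⋙ DerSch.stalkFunctor X y) :=
          fun y => preservesColimit_of_natIso K (leftIso M y).symm
        preservesColimit_of_stalk K _ }

instance preservesColimits_tensorBi_flip_obj :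
    PreservesColimitsOfSize.{u, u} ((DCoh.tensorBi (X := X)).flip.obj M) where
  preservesColimitsOfShape {_ _} :=
    { preservesColimit := fun {K} =>
        have : ∀ y : X, PreservesColimit K
            ((DCoh.tensorBi (X := X)).flip.obj M ⋙ DerSch.stalkFunctor X y) :=
          fun y => preservesColimit_of_natIso K (rightIso M y).symm
        preservesColimit_of_stalk K _ }

variable {M}

/-- A stalkwise flat O_X-module is flat for `DCoh.tensorBi`. -/
theorem isFlatObj_of_isFlat (hM : FlatMod.IsFlat M) :
    IsFlatObj (DCoh.tensorBi (X := X)) M := by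
  intro S hS
  refine (shortExact_iff _).2 fun y => ?_
  haveI : Module.Flat (X.presheaf.stalk y) ((DerSch.stalkFunctor X y).obj M) := hM y
  exact ShortComplex.shortExact_of_iso (S.mapNatIso (rightIso M y).symm)
    ((hS.map_of_exact (DerSch.stalkFunctor X y)).map_of_exact (tensorRight _))

/-- A stalkwise flat O_X-module is flat for the flipped bifunctor. -/
theorem isFlatObj_flip_of_isFlat (hM : FlatMod.IsFlat M) :
    IsFlatObj (DCoh.tensorBi (X := X)).flip M := by
  intro S hS
  refine (shortExact_iff _).2 fun y => ?_
  haveI : Module.Flat (X.presheaf.stalk y) ((DerSch.stalkFunctor X y).obj M) := hM y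
  exact ShortComplex.shortExact_of_iso (S.mapNatIso (leftIso M y).symm)
    ((hS.map_of_exact (DerSch.stalkFunctor X y)).map_of_exact (tensorLeft _))

/-- A short exact sequence with flat quotient stays exact after tensoring with any module. -/
theorem shortExact_tensor_of_isFlat (N : X.Modules) {S : ShortComplex X.Modules} (hS : S.ShortExact)
    (h₃ : FlatMod.IsFlat S.X₃) : (S.map ((DCoh.tensorBi (X := X)).obj N)).ShortExact := by
  refine (shortExact_iff _).2 fun y => ShortComplex.shortExact_of_iso (S.mapNatIso (leftIso N y).symm) ?_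
  let T := S.map (DerSch.stalkFunctor X y)
  have hT : T.ShortExact := hS.map_of_exact _
  haveI : Module.Flat (X.presheaf.stalk y) T.X₃ := h₃ y
  have hf : Function.Injective T.f := (ModuleCat.mono_iff_injective _).1 hT.mono_f
  have hg : Function.Surjective T.g := (ModuleCat.epi_iff_surjective _).1 hT.epi_g
  have hfg : Function.Exact T.f T.g :=
    (ShortComplex.ShortExact.moduleCat_exact_iff_function_exact T).1 hT.exact
  refine { exact := ?_, mono_f := ?_, epi_g := ?_ }
  · rw [ShortComplex.ShortExact.moduleCat_exact_iff_function_exact]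
    exact lTensor_exact _ hfg hg
  · rw [ModuleCat.mono_iff_injective]
    exact LinearMap.lTensor_injective_of_exact_of_flat T.g.hom hg T.f.hom hf hfg _
  · rw [ModuleCat.epi_iff_surjective]
    exact LinearMap.lTensor_surjective _ hg

instance : HasCountableCoproducts X.Modules := inferInstance
instance : CountableAB4 X.Modules := inferInstance
instance : HasFilteredColimitsOfSize.{0, 0} X.Modules := hasFilteredColimitsOfSize_shrink.{0, 0, u, u}
instance : AB5OfSize.{0, 0} X.Modules := AB5OfSize_shrink.{0, 0, u, u} X.Modules
instance : HasExactColimitsOfShape ℕ X.Modules := AB5OfSize.ofShape ℕ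

instance preservesColimitsNat_tensorBi_obj (N : X.Modules) :
    PreservesColimitsOfShape ℕ ((DCoh.tensorBi (X := X)).obj N) :=
  have := preservesColimitsOfSize_shrink.{0, u, 0, u} ((DCoh.tensorBi (X := X)).obj N)
  inferInstance

instance preservesColimitsNat_tensorBi_flip_obj (N : X.Modules) :
    PreservesColimitsOfShape ℕ ((DCoh.tensorBi (X := X)).flip.obj N) :=
  have := preservesColimitsOfSize_shrink.{0, u, 0, u} ((DCoh.tensorBi (X := X)).flip.obj N)
  inferInstance

end Groth.Agent.H16Derived.KFlat.Stalk
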