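import Groth.Agent.H16Derived.KFlat.FlatIff
import Groth.Agent.H16Derived.KFlat.TotCompare
import Groth.Prelude.Def_KFlatSite
import Mathlib.Algebra.Homology.Monoidal

/-!
# K-flatness is stalkwise
-/

set_option autoImplicit false

universe u

open CategoryTheory CategoryTheory.Limits AlgebraicGeometry MonoidalCategory

namespace Groth.Agent.H16Derived.KFlat.Stalk

open Groth.Agent.H06Mod

variable {X : Scheme.{u}}

/-- A short complex of O_X-modules which is exact on sections is exact. -/
theorem exact_of_sections (S : ShortComplex X.Modules)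
    (h : ∀ (U : X.Opens) (b : Γ(S.X₂, U)), S.g.app U b = 0 → ∃ a, S.f.app U a = b) : S.Exact := by
  refine (exact_iff _).2 fun x => ?_
  rw [ShortComplex.moduleCat_exact_iff]
  intro b hb
  obtain ⟨U, hU, b, rfl⟩ := S.X₂.presheaf.exists_germ_eq b
  have hb' : stalkLin S.g x (S.X₂.presheaf.germ U x hU b) = 0 := hb
  rw [stalkLin_germ, ← map_zero (S.X₃.presheaf.germ U x hU).hom] at hb'
  obtain ⟨W, hxW, iU, iU', heq⟩ := S.X₃.presheaf.germ_eq x hU hU _ 0 hb'
  rw [map_zero] at heq
  have hb'' : S.g.app W (S.X₂.presheaf.map iU.op b) = 0 := by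
    rw [← heq]
    exact congr($(S.g.mapPresheaf.naturality iU.op) b)
  obtain ⟨a, ha⟩ := h W _ hb''
  refine ⟨S.X₁.presheaf.germ W x hxW a, ?_⟩
  show stalkLin S.f x (S.X₁.presheaf.germ W x hxW a) = _
  rw [stalkLin_germ, ha]
  exact S.X₂.presheaf.germ_res_apply iU x hxW b

variable (x : X)

lemma skyMap_comp {A B C : Type u} [AddCommGroup A] [Module (X.presheaf.stalk x) A]
    [AddCommGroup B] [Module (X.presheaf.stalk x) B] [AddCommGroup C]
    [Module (X.presheaf.stalk x) C] (f : A →ₗ[X.presheaf.stalk x] B)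
    (g : B →ₗ[X.presheaf.stalk x] C) : skyMap f ≫ skyMap g = skyMap (g.comp f) := by
  refine Scheme.Modules.hom_ext _ _ fun U => ?_
  ext a
  refine skyEval_ext (N := C) x fun hx => ?_
  show skyEval x C U hx ((skyMap g).app U ((skyMap f).app U a)) = _
  rw [skyEval_skyMap, skyEval_skyMap, skyEval_skyMap]
  rfl

lemma skyMap_zero {A B : Type u} [AddCommGroup A] [Module (X.presheaf.stalk x) A]
    [AddCommGroup B] [Module (X.presheaf.stalk x) B] :
    skyMap (0 : A →ₗ[X.presheaf.stalk x] B) = (0 : sky x A ⟶ sky x B) := by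
  refine Scheme.Modules.hom_ext _ _ fun U => ?_
  ext a
  refine skyEval_ext (N := B) x fun hx => ?_
  rw [skyEval_skyMap, LinearMap.zero_apply]
  exact (map_zero _).symm

/-- The complex of skyscrapers of a complex of modules over the local ring at `x`. -/
noncomputable def skyCx (M : DRing.Cx (X.presheaf.stalk x)) : CochainComplex X.Modules ℤ where
  X i := sky x (M.X i)
  d i j := skyMap (M.d i j).hom
  shape i j h := by rw [M.shape i j h]; exact skyMap_zero x
  d_comp_d' i j k _ _ := by
    rw [skyMap_comp, ← ModuleCat.hom_comp, M.d_comp_d]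
    exact skyMap_zero x

lemma acyclic_skyCx (M : DRing.Cx (X.presheaf.stalk x)) (hM : M.Acyclic) : (skyCx x M).Acyclic := by
  intro i
  rw [HomologicalComplex.exactAt_iff' _ (i - 1) i (i + 1) (by simp) (by simp)]
  have h := hM i
  rw [HomologicalComplex.exactAt_iff' _ (i - 1) i (i + 1) (by simp) (by simp),
    ShortComplex.moduleCat_exact_iff] at h
  refine exact_of_sections _ fun U b hb => ?_
  by_cases hx : x ∈ U
  · obtain ⟨a, ha⟩ := h (skyEval x (M.X i) U hx b) (by
      refine (skyEval_skyMap (M.d i (i + 1)).hom U hx b).symm.trans ?_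
      exact (congrArg (skyEval x (M.X (i + 1)) U hx) hb).trans (map_zero _))
    refine ⟨fun _ => a, skyEval_ext (N := M.X i) x fun hx' => ?_⟩
    exact (skyEval_skyMap (M.d (i - 1) i).hom U hx' _).trans ha
  · exact ⟨0, skyEval_ext (N := M.X i) x fun hx' => absurd hx' hx⟩

/-- The stalk of the skyscraper complex. -/
noncomputable def skyCxStalkIso (M : DRing.Cx (X.presheaf.stalk x)) :
    ((DerSch.stalkFunctor X x).mapHomologicalComplex (ComplexShape.up ℤ)).obj (skyCx x M) ≅ M :=
  HomologicalComplex.Hom.isoOfComponents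
    (fun i => (LinearEquiv.ofBijective (skyStalk x (M.X i)) (skyStalk_bijective x (M.X i))).toModuleIso)
    fun i j _ => ModuleCat.hom_ext (skyStalk_naturality (M.d i j).hom).symm

variable (L E : CochainComplex X.Modules ℤ)

instance (J : Type) : PreservesColimitsOfShape (Discrete J) (DerSch.stalkFunctor X x) :=
  have := preservesColimitsOfSize_shrink.{0, u, 0, u} (DerSch.stalkFunctor X x)
  inferInstance

/-- `(L ⊗ E)_x ≅ L_x ⊗ E_x` for complexes. -/
noncomputable def stalkTotIso :
    ((DerSch.stalkFunctor X x).mapHomologicalComplex (ComplexShape.up ℤ)).obj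
        ((tot (DCoh.tensorBi (X := X)) L).obj E) ≅
      (tot (curriedTensor (ModuleCat.{u} (X.presheaf.stalk x)))
        (((DerSch.stalkFunctor X x).mapHomologicalComplex (ComplexShape.up ℤ)).obj L)).obj
        (((DerSch.stalkFunctor X x).mapHomologicalComplex (ComplexShape.up ℤ)).obj E) :=
  TotCompare.iso (G₁ := DerSch.stalkFunctor X x) (G₂ := 𝟭 (ModuleCat.{u} (X.presheaf.stalk x)))
    (F₁ := DCoh.tensorBi (X := X)) (F₂ := curriedTensor (ModuleCat.{u} (X.presheaf.stalk x))) L E
    (((DerSch.stalkFunctor X x).mapHomologicalComplex (ComplexShape.up ℤ)).obj L)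
    (((DerSch.stalkFunctor X x).mapHomologicalComplex (ComplexShape.up ℤ)).obj E)
    (fun p q => (rightIso (E.X q) x).app (L.X p))
    (fun p q => (rightIso (E.X q) x).hom.naturality (L.d p (p + 1)))
    (fun p q => (leftIso (L.X p) x).hom.naturality (E.d q (q + 1))) ≪≫
    (Functor.mapHomologicalComplexIdIso _ _).app _

/-- K-flatness is checked on stalks. -/
theorem isKFlat_iff_stalk :
    IsKFlat (DCoh.tensorBi (X := X)) E ↔ ∀ x : X, DRing.IsKFlat (X.presheaf.stalk x)
      (((DerSch.stalkFunctor X x).mapHomologicalComplex (ComplexShape.up ℤ)).obj E) := by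
  constructor
  · intro hE x
    refine (isKFlat_iff_homology (curriedTensor (ModuleCat.{u} (X.presheaf.stalk x))) _).1
      fun M hM => ?_
    have h1 := hE (skyCx x M) (acyclic_skyCx x M hM)
    refine acyclic_of_iso (stalkTotIso x (skyCx x M) E ≪≫
      ((curriedTensor (ModuleCat.{u} (X.presheaf.stalk x))).map₂CochainComplex.mapIso
        (skyCxStalkIso x M)).app _) fun i => ?_
    exact (exact_iff _).1 (h1 i) x
  · intro hE L hL i
    rw [HomologicalComplex.exactAt_iff]
    refine (exact_iff _).2 fun x => ?_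
    have h1 := (isKFlat_iff_homology (curriedTensor (ModuleCat.{u} (X.presheaf.stalk x))) _).2 (hE x)
      (((DerSch.stalkFunctor X x).mapHomologicalComplex (ComplexShape.up ℤ)).obj L)
      (fun j => (exact_iff _).1 (hL j) x)
    exact acyclic_of_iso (stalkTotIso x L E).symm h1 i

end Groth.Agent.H16Derived.KFlat.Stalk
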