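import Groth.Agent.H16Derived.KFlat.LocFreeOps
import Groth.Agent.H16Derived.KFlat.StalkCriterion
import Groth.Agent.H10Coh.QCohOps
import Groth.Prelude.Def_DCoh2

/-!
# Maps out of finite free modules lift locally along epimorphisms
-/

set_option autoImplicit false
set_option linter.style.haveILetI false

universe u

open CategoryTheory CategoryTheory.Limits AlgebraicGeometry Opposite TopologicalSpace

attribute [local instance] HasDerivedCategory.standard

namespace Groth.Agent.H16Derived.KFlat.Stalk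

open Groth.Agent.H06Mod

variable {X Y : Scheme.{u}}

lemma map_map_apply (M : X.Modules) {U V W : X.Opens} (h₁ : V ≤ U) (h₂ : W ≤ V) (a : Γ(M, U)) :
    M.presheaf.map (homOfLE h₂).op (M.presheaf.map (homOfLE h₁).op a) =
      M.presheaf.map (homOfLE (h₂.trans h₁)).op a := by
  rw [← ConcreteCategory.comp_apply, ← Functor.map_comp]
  rfl

/-- A global section as a morphism from the structure sheaf. -/
noncomputable def sectHom (M : X.Modules) (s : Γ(M, ⊤)) : Coh.structureModule X ⟶ M :=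
  (SheafOfModules.unitHomEquiv (M : SheafOfModules X.ringCatSheaf)).symm
    (PresheafOfModules.sectionsMk (fun U => M.presheaf.map (homOfLE le_top).op s)
      (fun U V i => by
        show M.presheaf.map i (M.presheaf.map _ s) = _
        rw [← ConcreteCategory.comp_apply, ← Functor.map_comp]
        rfl))

lemma sectHom_app_top (M : X.Modules) (s : Γ(M, ⊤)) :
    (sectHom M s).app ⊤ (1 : Γ(X, ⊤)) = s := by
  have h := congrArg (fun t => t.val (op (⊤ : X.Opens)))
    ((SheafOfModules.unitHomEquiv (M : SheafOfModules X.ringCatSheaf)).apply_symm_apply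
      (PresheafOfModules.sectionsMk (fun U => M.presheaf.map (homOfLE le_top).op s)
        (fun U V i => by
          show M.presheaf.map i (M.presheaf.map _ s) = _
          rw [← ConcreteCategory.comp_apply, ← Functor.map_comp]
          rfl)))
  refine h.trans ?_
  show M.presheaf.map (𝟙 (op (⊤ : X.Opens))) s = s
  rw [CategoryTheory.Functor.map_id]
  rfl

/-- Morphisms from the structure sheaf are determined by the image of `1`. -/
lemma unit_hom_ext {M : X.Modules} (f g : Coh.structureModule X ⟶ M)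
    (h : f.app ⊤ (1 : Γ(X, ⊤)) = g.app ⊤ (1 : Γ(X, ⊤))) : f = g := by
  apply (SheafOfModules.unitHomEquiv (M : SheafOfModules X.ringCatSheaf)).injective
  ext U
  have key : ∀ k : Coh.structureModule X ⟶ M, k.app U.unop (1 : Γ(X, U.unop)) =
      M.presheaf.map (homOfLE le_top).op (k.app ⊤ (1 : Γ(X, ⊤))) := fun k => by
    refine Eq.trans ?_ (NatTrans.naturality_apply ((Scheme.Modules.toPresheaf X).map k)
      (homOfLE le_top).op (1 : Γ(X, ⊤)))
    exact congrArg (fun a => k.app U.unop a) (map_one (X.presheaf.map (homOfLE le_top).op).hom).symm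
  exact (key f).trans ((congrArg _ h).trans (key g).symm)

variable (j : Y ⟶ X) [IsOpenImmersion j]

lemma restrict_map_unit {M : X.Modules} (φ : Coh.structureModule X ⟶ M) :
    ((Scheme.Modules.restrictUnitIso j).inv ≫ (Scheme.Modules.restrictFunctor j).map φ).app ⊤
        (1 : Γ(Y, ⊤)) =
      M.presheaf.map (homOfLE (le_top : j ''ᵁ ⊤ ≤ ⊤)).op (φ.app ⊤ (1 : Γ(X, ⊤))) := by
  refine Eq.trans ?_ (NatTrans.naturality_apply ((Scheme.Modules.toPresheaf X).map φ)
    (homOfLE le_top).op (1 : Γ(X, ⊤)))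
  refine congrArg (fun a => φ.app (j ''ᵁ ⊤) a) ?_
  exact (map_one (j.appIso ⊤).inv.hom).trans (map_one (X.presheaf.map (homOfLE le_top).op).hom).symm

/-- A map from the structure sheaf into the kernel of an exact sequence lifts near every point. -/
theorem exists_lift_unit {S : ShortComplex X.Modules} (hS : S.Exact)
    (φ : Coh.structureModule X ⟶ S.X₂) (hφ : φ ≫ S.g = 0) (x : X) :
    ∃ U : X.Opens, x ∈ U ∧ ∀ {Y : Scheme.{u}} (j : Y ⟶ X) [IsOpenImmersion j], j ''ᵁ ⊤ ≤ U →
      ∃ ψ : Coh.structureModule Y ⟶ S.X₁.restrict j,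
        ψ ≫ (Scheme.Modules.restrictFunctor j).map S.f =
          (Scheme.Modules.restrictUnitIso j).inv ≫ (Scheme.Modules.restrictFunctor j).map φ := by
  let s := φ.app ⊤ (1 : Γ(X, ⊤))
  have hgs : S.g.app ⊤ s = 0 := by
    show (φ ≫ S.g).app ⊤ (1 : Γ(X, ⊤)) = 0
    rw [hφ]
    rfl
  have hx := (exact_iff S).1 hS x
  rw [ShortComplex.moduleCat_exact_iff] at hx
  obtain ⟨a₀, ha₀⟩ := hx (S.X₂.presheaf.germ ⊤ x (Opens.mem_top x) s) (by
    refine (stalkLin_germ S.g x ⊤ (Opens.mem_top x) s).trans ?_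
    exact (congrArg _ hgs).trans (map_zero _))
  obtain ⟨U, hU, a, rfl⟩ := S.X₁.presheaf.exists_germ_eq a₀
  have ha : S.X₂.presheaf.germ U x hU (S.f.app U a) = S.X₂.presheaf.germ ⊤ x (Opens.mem_top x) s :=
    (stalkLin_germ S.f x U hU a).symm.trans ha₀
  obtain ⟨W, hW, iU, iT, e⟩ := S.X₂.presheaf.germ_eq x hU (Opens.mem_top x) _ _ ha
  refine ⟨W, hW, fun {Y} j _ hj => ?_⟩
  refine ⟨sectHom (S.X₁.restrict j)
    (S.X₁.presheaf.map (homOfLE (hj.trans iU.le)).op a), unit_hom_ext _ _ ?_⟩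
  rw [restrict_map_unit]
  show S.f.app (j ''ᵁ ⊤) ((sectHom (S.X₁.restrict j) _).app ⊤ (1 : Γ(Y, ⊤))) = _
  refine (congrArg (S.f.app (j ''ᵁ ⊤)) (sectHom_app_top (S.X₁.restrict j) _)).trans ?_
  refine (NatTrans.naturality_apply ((Scheme.Modules.toPresheaf X).map S.f)
    (homOfLE (hj.trans iU.le)).op a).trans ?_
  refine (map_map_apply S.X₂ iU.le hj (S.f.app U a)).symm.trans ?_
  exact (congrArg (S.X₂.presheaf.map (homOfLE hj).op) e).trans (map_map_apply S.X₂ le_top hj s)

/-- A map from a finite free module into the kernel of an exact sequence lifts near every point. -/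
theorem exists_lift_freeMod {S : ShortComplex X.Modules} (hS : S.Exact) {n : ℕ}
    (φ : FlatMod.freeMod X n ⟶ S.X₂) (hφ : φ ≫ S.g = 0) (x : X) :
    ∃ U : X.Opens, x ∈ U ∧ ∀ {Y : Scheme.{u}} (j : Y ⟶ X) [IsOpenImmersion j], j ''ᵁ ⊤ ≤ U →
      ∃ ψ : (FlatMod.freeMod X n).restrict j ⟶ S.X₁.restrict j,
        ψ ≫ (Scheme.Modules.restrictFunctor j).map S.f =
          (Scheme.Modules.restrictFunctor j).map φ := by
  choose U hU hlift using fun i : Fin n => exists_lift_unit hS
    (Sigma.ι (fun _ : Fin n => Coh.structureModule X) i ≫ φ) (by rw [Category.assoc, hφ, comp_zero]) x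
  refine ⟨Finset.univ.inf U,
    by simpa [← SetLike.mem_coe, Opens.coe_finset_inf] using hU, fun {Y} j _ hj => ?_⟩
  choose ψ hψ using fun i : Fin n => hlift i j (hj.trans (Finset.inf_le (Finset.mem_univ i)))
  haveI := preservesColimitsOfSize_shrink.{0, u, 0, u} (Scheme.Modules.restrictFunctor j)
  have hc := isColimitCofanMkObjOfIsColimit (Scheme.Modules.restrictFunctor j) _ _
    (coproductIsCoproduct fun _ : Fin n => Coh.structureModule X)
  refine ⟨Cofan.IsColimit.desc hc fun i => (Scheme.Modules.restrictUnitIso j).hom ≫ ψ i, ?_⟩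
  refine Cofan.IsColimit.hom_ext hc _ _ fun i => ?_
  refine (Category.assoc _ _ _).symm.trans ((congrArg (· ≫ _) (Cofan.IsColimit.fac hc _ i)).trans ?_)
  rw [Category.assoc, hψ, Iso.hom_inv_id_assoc, Functor.map_comp]
  rfl

/-- Restriction from a larger open, then further down. -/
noncomputable def cmp {V W : X.Opens} (h : W ≤ V) :
    Scheme.Modules.restrictFunctor W.ι ≅
      Scheme.Modules.restrictFunctor V.ι ⋙ Scheme.Modules.restrictFunctor (X.homOfLE h) :=
  Scheme.Modules.restrictFunctorCongr (X.homOfLE_ι h).symm ≪≫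
    Scheme.Modules.restrictFunctorComp (X.homOfLE h) V.ι

/-- Restrict a morphism of restrictions. -/
noncomputable def res' {V W : X.Opens} (h : W ≤ V) {A B : X.Modules}
    (φ : A.restrict V.ι ⟶ B.restrict V.ι) : A.restrict W.ι ⟶ B.restrict W.ι :=
  (cmp h).hom.app A ≫ (Scheme.Modules.restrictFunctor (X.homOfLE h)).map φ ≫ (cmp h).inv.app B

lemma res'_comp {V W : X.Opens} (h : W ≤ V) {A B C : X.Modules}
    (φ : A.restrict V.ι ⟶ B.restrict V.ι) (ψ : B.restrict V.ι ⟶ C.restrict V.ι) :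
    res' h (φ ≫ ψ) = res' h φ ≫ res' h ψ := by
  dsimp [res']
  simp only [Category.assoc, Iso.inv_hom_id_app_assoc, Functor.map_comp]

lemma res'_map {V W : X.Opens} (h : W ≤ V) {A B : X.Modules} (f : A ⟶ B) :
    res' h ((Scheme.Modules.restrictFunctor V.ι).map f) =
      (Scheme.Modules.restrictFunctor W.ι).map f := by
  dsimp [res']
  have e := (cmp h).inv.naturality f
  dsimp at e
  rw [e]
  exact Iso.hom_inv_id_app_assoc _ _ _

lemma res'_add {V W : X.Opens} (h : W ≤ V) {A B : X.Modules}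
    (φ ψ : A.restrict V.ι ⟶ B.restrict V.ι) : res' h (φ + ψ) = res' h φ + res' h ψ := by
  dsimp [res']
  rw [Functor.map_add, Preadditive.add_comp]
  exact Preadditive.comp_add _ _ _ _ _ _

lemma res'_zero {V W : X.Opens} (h : W ≤ V) {A B : X.Modules} :
    res' h (0 : A.restrict V.ι ⟶ B.restrict V.ι) = 0 := by
  dsimp [res']
  rw [Functor.map_zero, zero_comp]
  exact comp_zero

/-- A map from a module which is free on `V` lifts on a smaller neighbourhood. -/
theorem exists_lift_restrict {S : ShortComplex X.Modules} (hS : S.Exact) {V : X.Opens} {x : X}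
    (hx : x ∈ V) {M : X.Modules} (hM : FreeNear M V) (φ : M.restrict V.ι ⟶ S.X₂.restrict V.ι)
    (hφ : φ ≫ (Scheme.Modules.restrictFunctor V.ι).map S.g = 0) :
    ∃ (W : X.Opens) (h : W ≤ V) (ψ : M.restrict W.ι ⟶ S.X₁.restrict W.ι), x ∈ W ∧
      ψ ≫ (Scheme.Modules.restrictFunctor W.ι).map S.f = res' h φ := by
  obtain ⟨n, ⟨eM⟩⟩ := hM
  let e : M.restrict V.ι ≅ FlatMod.freeMod (V : Scheme.{u}) n :=
    (Scheme.Modules.restrictFunctorIsoPullback V.ι).app M ≪≫ eM
  obtain ⟨U, hU, hlift⟩ := exists_lift_freeMod (hS.map (Scheme.Modules.restrictFunctor V.ι))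
    (e.inv ≫ φ) (by
      refine (Category.assoc _ _ _).trans ?_
      erw [hφ]
      exact comp_zero) (⟨x, hx⟩ : V)
  have h : V.ι ''ᵁ U ≤ V := fun y hy => by
    obtain ⟨z, -, rfl⟩ := hy
    exact z.2
  obtain ⟨ψ, hψ⟩ := hlift (X.homOfLE h) (by
    rintro y ⟨z, -, rfl⟩
    obtain ⟨t, ht, e⟩ := z.2
    have : (X.homOfLE h) z = t := Subtype.ext (by
      refine Eq.trans ?_ e.symm
      exact congr($(X.homOfLE_ι h).base z))
    exact (congrArg (fun q => q ∈ U) this).mpr ht)
  refine ⟨V.ι ''ᵁ U, h, (cmp h).hom.app M ≫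
    (Scheme.Modules.restrictFunctor (X.homOfLE h)).map e.hom ≫ ψ ≫ (cmp h).inv.app S.X₁,
    ⟨⟨x, hx⟩, hU, rfl⟩, ?_⟩
  have en := (cmp h).inv.naturality S.f
  dsimp at en
  simp only [Category.assoc]
  erw [← en]
  erw [reassoc_of% hψ]
  dsimp [res']
  rw [← Functor.map_comp_assoc]
  erw [Iso.hom_inv_id_assoc]
  rfl

end Groth.Agent.H16Derived.KFlat.Stalk
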