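import Groth.Agent.H16Derived.KFlat.PerfLocal

/-!
# Perfect and pseudo-coherent objects in distinguished triangles
-/

set_option autoImplicit false
set_option linter.style.haveILetI false

universe u

open CategoryTheory CategoryTheory.Limits AlgebraicGeometry Pretriangulated

attribute [local instance] HasDerivedCategory.standard

namespace Groth.Agent.H16Derived.KFlat.Stalk

variable {X U W : Scheme.{u}}

/-- `K` has an `m`-approximation by a strictly perfect complex after restriction along `j`. -/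
def HasApprox (m : ℤ) (j : U ⟶ X) [IsOpenImmersion j] (K : DCoh.D X) : Prop :=
  ∃ (E : CochainComplex U.Modules ℤ) (α : DerivedCategory.Q.obj E ⟶ (rd j).obj K),
    DCoh.IsStrictlyPerfect E ∧ Approx m α

/-- `K` is isomorphic to a strictly perfect complex after restriction along `j`. -/
def HasPerfModel (j : U ⟶ X) [IsOpenImmersion j] (K : DCoh.D X) : Prop :=
  ∃ E : CochainComplex U.Modules ℤ, DCoh.IsStrictlyPerfect E ∧
    Nonempty (DerivedCategory.Q.obj E ≅ (rd j).obj K)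

theorem HasApprox.pull {m : ℤ} {j : U ⟶ X} [IsOpenImmersion j] {K : DCoh.D X}
    (h : HasApprox m j K) (k : W ⟶ U) (l : W ⟶ X) [IsOpenImmersion k] [IsOpenImmersion l]
    (e : k ≫ j = l) : HasApprox m l K := by
  obtain ⟨E, α, hE, hα⟩ := h
  exact ⟨_, (rdQ k).inv.app E ≫ (rd k).map α ≫ (rdComp k j l e K).inv, isStrictlyPerfect_rd k hE,
    (Approx.of_isIso m _).comp ((hα.map_rd k).comp (Approx.of_isIso m _))⟩

theorem HasPerfModel.pull {j : U ⟶ X} [IsOpenImmersion j] {K : DCoh.D X}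
    (h : HasPerfModel j K) (k : W ⟶ U) (l : W ⟶ X) [IsOpenImmersion k] [IsOpenImmersion l]
    (e : k ≫ j = l) : HasPerfModel l K := by
  obtain ⟨E, hE, ⟨α⟩⟩ := h
  exact ⟨_, isStrictlyPerfect_rd k hE,
    ⟨(rdQ k).symm.app E ≪≫ (rd k).mapIso α ≪≫ (rdComp k j l e K).symm⟩⟩

theorem HasApprox.mono_open {m : ℤ} {V V' : X.Opens} {K : DCoh.D X} (h : HasApprox m V.ι K)
    (hV : V' ≤ V) : HasApprox m V'.ι K :=
  h.pull (X.homOfLE hV) V'.ι (X.homOfLE_ι hV)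

theorem HasPerfModel.mono_open {V V' : X.Opens} {K : DCoh.D X} (h : HasPerfModel V.ι K)
    (hV : V' ≤ V) : HasPerfModel V'.ι K :=
  h.pull (X.homOfLE hV) V'.ι (X.homOfLE_ι hV)

theorem HasApprox.opensRange {m : ℤ} {j : U ⟶ X} [IsOpenImmersion j] {K : DCoh.D X}
    (h : HasApprox m j K) : HasApprox m j.opensRange.ι K :=
  h.pull j.isoOpensRange.inv j.opensRange.ι (j.isoOpensRange_inv_comp)

theorem HasPerfModel.opensRange {j : U ⟶ X} [IsOpenImmersion j] {K : DCoh.D X}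
    (h : HasPerfModel j K) : HasPerfModel j.opensRange.ι K :=
  h.pull j.isoOpensRange.inv j.opensRange.ι (j.isoOpensRange_inv_comp)

theorem HasApprox.mono_deg {m m' : ℤ} {j : U ⟶ X} [IsOpenImmersion j] {K : DCoh.D X}
    (h : HasApprox m j K) (hm : m ≤ m') : HasApprox m' j K := by
  obtain ⟨E, α, hE, hα⟩ := h
  exact ⟨E, α, hE, hα.mono hm⟩

theorem HasPerfModel.hasApprox {j : U ⟶ X} [IsOpenImmersion j] {K : DCoh.D X}
    (h : HasPerfModel j K) (m : ℤ) : HasApprox m j K := by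
  obtain ⟨E, hE, ⟨α⟩⟩ := h
  exact ⟨E, α.hom, hE, Approx.of_isIso m _⟩

theorem isPseudoCoherentD_iff (m : ℤ) (K : DCoh.D X) :
    DCoh.IsPseudoCoherentD m K ↔ ∀ x : X, ∃ V : X.Opens, x ∈ V ∧ HasApprox m V.ι K := by
  refine forall_congr' fun x => exists_congr fun V => and_congr_right fun _ => ⟨fun h => ?_, fun h => ?_⟩
  · obtain ⟨E, α, hE, h₁, h₂⟩ := h (DerivedCategory.Q.objPreimage K)
      ⟨DerivedCategory.Q.objObjPreimageIso K⟩
    exact ⟨E, α ≫ (rdQ V.ι).inv.app _ ≫ (rd V.ι).map (DerivedCategory.Q.objObjPreimageIso K).hom, hE,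
      Approx.comp ⟨h₁, h₂⟩ (Approx.of_isIso m _)⟩
  · intro F hF
    obtain ⟨eF⟩ := hF
    obtain ⟨E, α, hE, hα⟩ := h
    exact ⟨E, α ≫ (rd V.ι).map eF.inv ≫ (rdQ V.ι).hom.app F, hE,
      hα.comp (Approx.of_isIso m _)⟩

theorem isPerfect_iff (K : DCoh.D X) :
    DCoh.IsPerfect K ↔ ∀ x : X, ∃ V : X.Opens, x ∈ V ∧ HasPerfModel V.ι K := by
  refine forall_congr' fun x => exists_congr fun V => and_congr_right fun _ => ⟨fun h => ?_, fun h => ?_⟩
  · obtain ⟨E, hE, ⟨α⟩⟩ := h (DerivedCategory.Q.objPreimage K)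
      ⟨DerivedCategory.Q.objObjPreimageIso K⟩
    exact ⟨E, hE, ⟨α.symm ≪≫ (rdQ V.ι).symm.app _ ≪≫
      (rd V.ι).mapIso (DerivedCategory.Q.objObjPreimageIso K)⟩⟩
  · intro F hF
    obtain ⟨eF⟩ := hF
    obtain ⟨E, hE, ⟨α⟩⟩ := h
    exact ⟨E, hE, ⟨(rdQ V.ι).symm.app F ≪≫ (rd V.ι).mapIso eF ≪≫ α.symm⟩⟩

theorem isPseudoCoherentD_of_local {m : ℤ} {K : DCoh.D X}
    (h : ∀ x : X, ∃ (U : Scheme.{u}) (j : U ⟶ X) (_ : IsOpenImmersion j),
      x ∈ j.opensRange ∧ HasApprox m j K) : DCoh.IsPseudoCoherentD m K :=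
  (isPseudoCoherentD_iff m K).2 fun x => by
    obtain ⟨U, j, _, hx, hj⟩ := h x
    exact ⟨_, hx, hj.opensRange⟩

theorem isPerfect_of_local {K : DCoh.D X}
    (h : ∀ x : X, ∃ (U : Scheme.{u}) (j : U ⟶ X) (_ : IsOpenImmersion j),
      x ∈ j.opensRange ∧ HasPerfModel j K) : DCoh.IsPerfect K :=
  (isPerfect_iff K).2 fun x => by
    obtain ⟨U, j, _, hx, hj⟩ := h x
    exact ⟨_, hx, hj.opensRange⟩

/-- The cone of a morphism from an `(m+1)`-approximable object to an `m`-approximable one. -/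
theorem HasApprox.exists_cone {m : ℤ} {T : Triangle (DCoh.D X)}
    (hT : T ∈ distTriang (DCoh.D X)) {V : X.Opens} (h₁ : HasApprox (m + 1) V.ι T.obj₁)
    (h₂ : HasApprox m V.ι T.obj₂) {x : X} (hx : x ∈ V) :
    ∃ V' : X.Opens, x ∈ V' ∧ HasApprox m V'.ι T.obj₃ := by
  obtain ⟨P₀, a₀, hP₀, ha₀⟩ := h₁
  obtain ⟨S, b, hS, hb⟩ := h₂
  obtain ⟨P, ι, hP, hPz, hι⟩ := exists_trunc hP₀ (m + 1)
  obtain ⟨W, β, hxW, hβ⟩ := exists_lift hP m (fun i hi => hPz i (by omega)) b hb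
    ((DerivedCategory.Q.map ι ≫ a₀) ≫ (rd V.ι).map T.mor₁) ⟨x, hx⟩
  let T' := (rd W.ι).mapTriangle.obj ((rd V.ι).mapTriangle.obj T)
  have hT' : T' ∈ distTriang (DCoh.D (W : Scheme.{u})) :=
    (rd W.ι).map_distinguished _ ((rd V.ι).map_distinguished _ hT)
  let a' : DerivedCategory.Q.obj ((DCoh.restrictCx W).obj P) ⟶ T'.obj₁ :=
    (rdQ W.ι).inv.app P ≫ (rd W.ι).map (DerivedCategory.Q.map ι ≫ a₀)
  let b' : DerivedCategory.Q.obj ((DCoh.restrictCx W).obj S) ⟶ T'.obj₂ :=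
    (rdQ W.ι).inv.app S ≫ (rd W.ι).map b
  have ha' : Approx (m + 1) a' := (Approx.of_isIso _ _).comp ((hι.comp ha₀).map_rd W.ι)
  have hb' : Approx m b' := (Approx.of_isIso _ _).comp (hb.map_rd W.ι)
  have hcomm : DerivedCategory.Q.map β ≫ b' = a' ≫ T'.mor₁ := by
    rw [← cancel_epi ((rdQ W.ι).hom.app P)]
    refine Eq.trans ?_ (hβ.trans ?_)
    · rfl
    · rw [Functor.map_comp, Functor.map_comp]
      simp [a', T']
      erw [Category.assoc]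
      rfl
  let Tβ := DerivedCategory.Q.mapTriangle.obj (CochainComplex.mappingCone.triangle β)
  have hTβ : Tβ ∈ distTriang (DCoh.D (W : Scheme.{u})) :=
    DerivedCategory.mappingCone_triangle_distinguished β
  obtain ⟨Za, va, wa, ha⟩ := distinguished_cocone_triangle a'
  obtain ⟨Zb, vb, wb, hb₁⟩ := distinguished_cocone_triangle b'
  obtain ⟨Z, v, w, hZ⟩ := distinguished_cocone_triangle (a' ≫ T'.mor₁)
  obtain ⟨g₁, hg₁⟩ := (approx_of_octahedron₂ hcomm hTβ hb₁ hZ).1 hb'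
  obtain ⟨g₂, hg₂⟩ := (approx_of_octahedron₂ rfl ha hT' hZ).2 ha'
  refine ⟨(W.ι ≫ V.ι).opensRange, ⟨⟨⟨x, hx⟩, hxW⟩, rfl⟩, HasApprox.opensRange
    ⟨_, g₁ ≫ g₂ ≫ (rdComp W.ι V.ι _ rfl T.obj₃).inv,
      isStrictlyPerfect_mappingCone β (isStrictlyPerfect_rd W.ι hP) (isStrictlyPerfect_rd W.ι hS),
      hg₁.comp (hg₂.comp (Approx.of_isIso m _))⟩⟩

/-- The cone of a morphism of locally perfect objects. -/
theorem HasPerfModel.exists_cone {T : Triangle (DCoh.D X)}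
    (hT : T ∈ distTriang (DCoh.D X)) {V : X.Opens} (h₁ : HasPerfModel V.ι T.obj₁)
    (h₂ : HasPerfModel V.ι T.obj₂) {x : X} (hx : x ∈ V) :
    ∃ V' : X.Opens, x ∈ V' ∧ HasPerfModel V'.ι T.obj₃ := by
  obtain ⟨P, hP, ⟨a⟩⟩ := h₁
  obtain ⟨S, hS, ⟨b⟩⟩ := h₂
  obtain ⟨p, q, hpq⟩ := hP.1
  obtain ⟨W, β, hxW, hβ⟩ := exists_lift hP p (fun i hi => hpq i (Or.inl hi)) b.hom
    (Approx.of_isIso p _) (a.hom ≫ (rd V.ι).map T.mor₁) ⟨x, hx⟩
  let T' := (rd W.ι).mapTriangle.obj ((rd V.ι).mapTriangle.obj T)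
  have hT' : T' ∈ distTriang (DCoh.D (W : Scheme.{u})) :=
    (rd W.ι).map_distinguished _ ((rd V.ι).map_distinguished _ hT)
  let Tβ := DerivedCategory.Q.mapTriangle.obj (CochainComplex.mappingCone.triangle β)
  have hTβ : Tβ ∈ distTriang (DCoh.D (W : Scheme.{u})) :=
    DerivedCategory.mappingCone_triangle_distinguished β
  let e₁ : Tβ.obj₁ ≅ T'.obj₁ := (rdQ W.ι).symm.app P ≪≫ (rd W.ι).mapIso a
  let e₂ : Tβ.obj₂ ≅ T'.obj₂ := (rdQ W.ι).symm.app S ≪≫ (rd W.ι).mapIso b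
  let e := isoTriangleOfIso₁₂ Tβ T' hTβ hT' e₁ e₂ (by
    refine (cancel_epi ((rdQ W.ι).hom.app P)).1 ?_
    refine Eq.trans ?_ (hβ.trans ?_)
    · simp [e₂, Tβ]
      rfl
    · simp [e₁, T']
      erw [Iso.hom_inv_id_app_assoc]
      rfl)
  exact ⟨(W.ι ≫ V.ι).opensRange, ⟨⟨⟨x, hx⟩, hxW⟩, rfl⟩, HasPerfModel.opensRange
    ⟨_, isStrictlyPerfect_mappingCone β (isStrictlyPerfect_rd W.ι hP) (isStrictlyPerfect_rd W.ι hS),
      ⟨Triangle.π₃.mapIso e ≪≫ (rdComp W.ι V.ι _ rfl T.obj₃).symm⟩⟩⟩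

theorem isPseudoCoherentD_obj₃ {m : ℤ} {T : Triangle (DCoh.D X)} (hT : T ∈ distTriang (DCoh.D X))
    (h₁ : DCoh.IsPseudoCoherentD (m + 1) T.obj₁) (h₂ : DCoh.IsPseudoCoherentD m T.obj₂) :
    DCoh.IsPseudoCoherentD m T.obj₃ := by
  rw [isPseudoCoherentD_iff] at h₁ h₂ ⊢
  intro x
  obtain ⟨V₁, hx₁, a₁⟩ := h₁ x
  obtain ⟨V₂, hx₂, a₂⟩ := h₂ x
  exact HasApprox.exists_cone hT (a₁.mono_open (inf_le_left (b := V₂))) (a₂.mono_open inf_le_right)
    ⟨hx₁, hx₂⟩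

theorem isPerfect_obj₃ {T : Triangle (DCoh.D X)} (hT : T ∈ distTriang (DCoh.D X))
    (h₁ : DCoh.IsPerfect T.obj₁) (h₂ : DCoh.IsPerfect T.obj₂) : DCoh.IsPerfect T.obj₃ := by
  rw [isPerfect_iff] at h₁ h₂ ⊢
  intro x
  obtain ⟨V₁, hx₁, a₁⟩ := h₁ x
  obtain ⟨V₂, hx₂, a₂⟩ := h₂ x
  exact HasPerfModel.exists_cone hT (a₁.mono_open (inf_le_left (b := V₂))) (a₂.mono_open inf_le_right)
    ⟨hx₁, hx₂⟩

/-- Shifts of strictly perfect complexes are strictly perfect. -/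
theorem isStrictlyPerfect_shift {E : CochainComplex X.Modules ℤ} (hE : DCoh.IsStrictlyPerfect E)
    (n : ℤ) : DCoh.IsStrictlyPerfect (E⟦n⟧) := by
  obtain ⟨⟨a, b, h⟩, hf⟩ := hE
  exact ⟨⟨a - n, b - n, fun i hi => h (i + n) (by omega)⟩, fun i => hf (i + n)⟩

/-- Shifts of approximations are approximations. -/
theorem Approx.shift {A : Type*} [Category A] [Abelian A] [HasDerivedCategory A]
    {M N : DerivedCategory A} {m m' n : ℤ} (hm : n + m' = m) {α : M ⟶ N} (h : Approx m α) :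
    Approx m' (α⟦n⟧') := by
  obtain ⟨C, β, γ, hT⟩ := distinguished_cocone_triangle α
  haveI : DerivedCategory.IsLE C (m - 1) := (approx_iff hT m).1 h
  haveI : DerivedCategory.IsLE (C⟦n⟧) (m' - 1) :=
    (DerivedCategory.TStructure.t).isLE_shift C (m - 1) n (m' - 1)
  have hc := (approx_iff (Triangle.shift_distinguished _ hT n) m').2 (by exact this)
  let u : M⟦n⟧ ≅ M⟦n⟧ :=
    { hom := n.negOnePow • 𝟙 _
      inv := n.negOnePow • 𝟙 _
      hom_inv_id := by simp [smul_smul]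
      inv_hom_id := by simp [smul_smul] }
  have e : α⟦n⟧' = u.hom ≫
      ((Triangle.shiftFunctor (DerivedCategory A) n).obj (Triangle.mk α β γ)).mor₁ := by
    simp only [u, Linear.units_smul_comp, Category.id_comp]
    show _ = n.negOnePow • (n.negOnePow • α⟦n⟧')
    rw [smul_smul, Int.units_mul_self, one_smul]
  rw [e]
  exact (@Approx.of_isIso _ _ _ _ _ _ m' u.hom u.isIso_hom).comp hc

theorem isPseudoCoherentD_shift {m : ℤ} {K : DCoh.D X} (h : DCoh.IsPseudoCoherentD m K) (n m' : ℤ)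
    (hm : n + m' = m) : DCoh.IsPseudoCoherentD m' (K⟦n⟧) := by
  rw [isPseudoCoherentD_iff] at h ⊢
  intro x
  obtain ⟨V, hx, E, α, hE, hα⟩ := h x
  exact ⟨V, hx, E⟦n⟧, (DerivedCategory.Q.commShiftIso n).hom.app E ≫ α⟦n⟧' ≫
    ((rd V.ι).commShiftIso n).inv.app K, isStrictlyPerfect_shift hE n,
    (Approx.of_isIso m' _).comp ((hα.shift hm).comp (Approx.of_isIso m' _))⟩

theorem isPerfect_shift {K : DCoh.D X} (h : DCoh.IsPerfect K) (n : ℤ) :
    DCoh.IsPerfect (K⟦n⟧) := by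
  rw [isPerfect_iff] at h ⊢
  intro x
  obtain ⟨V, hx, E, hE, ⟨α⟩⟩ := h x
  exact ⟨V, hx, E⟦n⟧, isStrictlyPerfect_shift hE n, ⟨(DerivedCategory.Q.commShiftIso n).app E ≪≫
    (shiftFunctor _ n).mapIso α ≪≫ ((rd V.ι).commShiftIso n).symm.app K⟩⟩

end Groth.Agent.H16Derived.KFlat.Stalk
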