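import Groth.Agent.H16Derived.KFlat.PerfCohLocal
import Groth.Agent.H06EGA11.Sheaf

/-!
# Top cohomology of pseudo-coherent objects
-/

set_option autoImplicit false
set_option linter.style.haveILetI false

universe u

open CategoryTheory CategoryTheory.Limits AlgebraicGeometry Pretriangulated

attribute [local instance] HasDerivedCategory.standard

namespace Groth.Agent.H16Derived.KFlat.Stalk

variable {X U : Scheme.{u}}

/-- Flatness over the base scheme itself is flatness. -/
theorem isFlatOver_id {M : X.Modules} (h : FlatMod.IsFlat M) : FlatMod.IsFlatOver (𝟙 X) M := by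
  intro x
  have e : FlatMod.moduleStalkOver (𝟙 X) M x =
      (FlatMod.moduleStalk M x : Module (X.presheaf.stalk x) (M.presheaf.stalk x)) := by
    refine Module.ext' _ _ fun r m => ?_
    show @HSMul.hSMul (X.presheaf.stalk x) (M.presheaf.stalk x) (M.presheaf.stalk x) _
      ((Scheme.Hom.stalkMap (𝟙 X) x).hom r) m = @HSMul.hSMul (X.presheaf.stalk x) _ _ _ r m
    rw [Scheme.Hom.stalkMap_id]
    rfl
  show @Module.Flat (X.presheaf.stalk x) (M.presheaf.stalk x) _ _ (FlatMod.moduleStalkOver (𝟙 X) M x)
  rw [e]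
  exact h x

/-- The kernel of an epimorphism of finite locally free modules is finite locally free. -/
theorem isFinLocFree_left {S : ShortComplex X.Modules} (hS : S.ShortExact)
    (h₂ : FlatMod.IsFinLocFree S.X₂) (h₃ : FlatMod.IsFinLocFree S.X₃) :
    FlatMod.IsFinLocFree S.X₁ := by
  haveI := hS.epi_g
  haveI := hS.mono_f
  refine isFinLocFree_of_isFP_flat (isFP_of_iso
    (hS.fIsKernel.conePointUniqueUpToIso (kernelIsKernel S.g)).symm
    (H06EGA11.isFP_kernel_of_isFlatOver (𝟙 X) (H8Props.FinLocFree.isFP_of_isFinLocFree _ h₂)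
      (H8Props.FinLocFree.isFP_of_isFinLocFree _ h₃) (isFlatOver_id (isFlat_of_isFinLocFree h₃)) S.g))
    (isFlat_left hS (isFlat_of_isFinLocFree h₂) (isFlat_of_isFinLocFree h₃))

/-- The cycles in degree `≥ m` of a strictly perfect complex which is exact above `m`. -/
theorem isFinLocFree_cycles {D : CochainComplex X.Modules ℤ} (hD : DCoh.IsStrictlyPerfect D) (m : ℤ)
    (hex : ∀ i, m < i → IsZero (D.homology i)) (i : ℤ) (hi : m ≤ i) :
    FlatMod.IsFinLocFree (D.cycles i) := by
  obtain ⟨a, b, hab⟩ := hD.1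
  suffices key : ∀ k : ℕ, ∀ i, m ≤ i → b + 1 - k ≤ i → FlatMod.IsFinLocFree (D.cycles i) from
    key (b + 1 - i).toNat i hi (by omega)
  intro k
  induction k with
  | zero =>
    intro i _ hi
    exact isFinLocFree_of_isZero (IsZero.of_mono (D.iCycles i) (hab i (Or.inr (by omega))))
  | succ k ih =>
    intro i hai hi
    have w : D.iCycles i ≫ D.toCycles i (i + 1) = 0 := by
      rw [← cancel_mono (D.iCycles (i + 1)), Category.assoc, HomologicalComplex.toCycles_i,
        HomologicalComplex.iCycles_d, zero_comp]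
    let S := ShortComplex.mk _ _ w
    haveI : Epi S.g := Preadditive.epi_of_cancel_zero _ fun {P} g hg => by
      have hc := (D.homologyIsCokernel i (i + 1) (by simp)).fac (CokernelCofork.ofπ g hg)
        WalkingParallelPair.one
      exact hc.symm.trans ((congrArg (· ≫ _) ((hex (i + 1) (by omega)).eq_of_tgt _ 0)).trans zero_comp)
    let hk : IsLimit (KernelFork.ofι S.f S.zero) :=
      KernelFork.IsLimit.ofι _ _ (fun g hg => D.liftCycles g (i + 1) (by simp) (by
          have := congrArg (· ≫ D.iCycles (i + 1)) hg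
          simpa [S, Category.assoc] using this))
        (fun g hg => D.liftCycles_i _ _ _ _)
        (fun g hg m hm => by
          show m = _
          rw [← cancel_mono (D.iCycles i), HomologicalComplex.liftCycles_i]
          exact hm)
    exact isFinLocFree_left (S := S) { exact := ShortComplex.exact_of_f_is_kernel _ hk } (hD.2 i)
      (ih (i + 1) (by omega) (by omega))

/-- The top cohomology of a strictly perfect complex is of finite presentation. -/
theorem isFP_homology {D : CochainComplex X.Modules ℤ} (hD : DCoh.IsStrictlyPerfect D) (m : ℤ)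
    (hex : ∀ i, m < i → IsZero (D.homology i)) : CohB1.IsFP (D.homology m) :=
  isFP_of_iso ((cokernelIsCokernel (D.toCycles (m - 1) m)).coconePointUniqueUpToIso
      (D.homologyIsCokernel (m - 1) m (by simp)))
    (H06EGA11.isFP_cokernel (H8Props.FinLocFree.isFP_of_isFinLocFree _
      (isFinLocFree_cycles hD m hex m le_rfl))
      (H8Props.FinLocFree.isFP_of_isFinLocFree _ (hD.2 _)) _)

/-- Restriction commutes with cohomology sheaves. -/
noncomputable def homologyRdIso (j : U ⟶ X) [IsOpenImmersion j] (K : DCoh.D X) (i : ℤ) :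
    (DerivedCategory.homologyFunctor U.Modules i).obj ((rd j).obj K) ≅
      (Scheme.Modules.restrictFunctor j).obj (DCoh.HD K i) :=
  (DerivedCategory.homologyFunctor U.Modules i).mapIso
      ((rd j).mapIso (DerivedCategory.Q.objObjPreimageIso K).symm ≪≫ (rdQ j).app _) ≪≫
    (DerivedCategory.homologyFunctorFactors U.Modules i).app _ ≪≫
    ((DerivedCategory.Q.objPreimage K).sc i).mapHomologyIso (Scheme.Modules.restrictFunctor j) ≪≫
    (Scheme.Modules.restrictFunctor j).mapIso
      (((DerivedCategory.homologyFunctorFactors X.Modules i).app _).symm ≪≫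
        (DerivedCategory.homologyFunctor X.Modules i).mapIso (DerivedCategory.Q.objObjPreimageIso K))

/-- A module which is locally a quotient of finitely presented modules is of finite type. -/
theorem isFT_of_epi {M N : X.Modules} (p : N ⟶ M) [Epi p] (hN : CohB1.IsFT N) : CohB1.IsFT M := by
  refine isFT_of_local fun x => ?_
  obtain ⟨W, hW, G, hG⟩ := H10Coh.exists_generators_nhd N hN x
  refine ⟨_, W.ι, inferInstance, ⟨⟨x, hW⟩, rfl⟩, ?_⟩
  haveI : Epi ((Scheme.Modules.restrictFunctor W.ι).map p) := inferInstance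
  let G' := @SheafOfModules.GeneratingSections.ofEpi.{u} _ _ _ _ _ _ _ _ G
    ((Scheme.Modules.restrictFunctor W.ι).map p) (by assumption)
  haveI : Finite G'.I := hG
  haveI := G'.epi
  have h := H29Fitt.isFT_of_isFP _ (H8Props.FinLocFree.isFP_of_isFinLocFree _
    (isFinLocFree_free (X := (W : Scheme.{u})) G'.I))
  let σ : SheafOfModules.LocalGeneratorsData.{u} (R := (W : Scheme.{u}).ringCatSheaf)
      ((Scheme.Modules.restrictFunctor W.ι).obj M) :=
    { I := PUnit
      X := fun _ => ⊤
      coversTop := (Opens.coversTop_iff _ _).2 (iSup_const)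
      generators := fun _ => generatorsOver _ _ (generatorsRestrict (⊤ : (W : Scheme.{u}).Opens).ι G') }
  have hft : σ.IsFiniteType := by
    constructor
    intro x
    exact ⟨hG⟩
  exact SheafOfModules.IsFiniteType.mk (R := (W : Scheme.{u}).ringCatSheaf) ⟨_, hft⟩

theorem isFT_HD_of_pc {m : ℤ} {K : DCoh.D X} (hK : DCoh.IsPseudoCoherentD m K)
    (hz : ∀ i, m < i → IsZero (DCoh.HD K i)) : CohB1.IsFT (DCoh.HD K m) := by
  refine isFT_of_local fun x => ?_
  obtain ⟨V, hx, P, α, hP, hα⟩ := (isPseudoCoherentD_iff _ _).1 hK x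
  refine ⟨_, V.ι, inferInstance, ⟨⟨x, hx⟩, rfl⟩, ?_⟩
  have hP0 : ∀ i, m < i → IsZero (P.homology i) := fun i hi => by
    haveI := hα.1 i hi
    exact IsZero.of_iso ((Scheme.Modules.restrictFunctor V.ι).map_isZero (hz i hi))
      (((DerivedCategory.homologyFunctorFactors _ i).app P).symm ≪≫
        asIso ((DerivedCategory.homologyFunctor _ i).map α) ≪≫ homologyRdIso V.ι K i)
  haveI := hα.2
  exact isFT_of_epi (((DerivedCategory.homologyFunctorFactors _ m).inv.app P ≫
    (DerivedCategory.homologyFunctor _ m).map α) ≫ (homologyRdIso V.ι K m).hom)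
    (H29Fitt.isFT_of_isFP _ (isFP_homology hP m hP0))

theorem isFP_HD_of_pc {m : ℤ} {K : DCoh.D X} (hK : DCoh.IsPseudoCoherentD m K)
    (hz : ∀ i, m + 1 < i → IsZero (DCoh.HD K i)) : CohB1.IsFP (DCoh.HD K (m + 1)) := by
  refine isFP_of_local fun x => ?_
  obtain ⟨V, hx, P, α, hP, hα⟩ := (isPseudoCoherentD_iff _ _).1 hK x
  refine ⟨_, V.ι, inferInstance, ⟨⟨x, hx⟩, rfl⟩, ?_⟩
  have hP0 : ∀ i, m + 1 < i → IsZero (P.homology i) := fun i hi => by
    haveI := hα.1 i (by omega)
    exact IsZero.of_iso ((Scheme.Modules.restrictFunctor V.ι).map_isZero (hz i hi))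
      (((DerivedCategory.homologyFunctorFactors _ i).app P).symm ≪≫
        asIso ((DerivedCategory.homologyFunctor _ i).map α) ≪≫ homologyRdIso V.ι K i)
  haveI := hα.1 (m + 1) (by omega)
  exact isFP_of_iso (((DerivedCategory.homologyFunctorFactors _ (m + 1)).app P).symm ≪≫
      asIso ((DerivedCategory.homologyFunctor _ (m + 1)).map α) ≪≫ homologyRdIso V.ι K (m + 1))
    (isFP_homology hP (m + 1) hP0)

end Groth.Agent.H16Derived.KFlat.Stalk
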