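import Groth.Prelude.Def_DCoh4
import Groth.Agent.H06Mod.StalkExact

/-!
# Stalks of tensor products of O_X-modules

`(M ⊗ N)_x = M_x ⊗_{O_{X,x}} N_x`, for `DCoh.tensorBi` (equivalently `CohB1.tensorMod`).
-/

set_option autoImplicit false

universe u

open CategoryTheory CategoryTheory.Limits AlgebraicGeometry Opposite TensorProduct MonoidalCategory
  TopologicalSpace

namespace Groth.Agent.H16Derived.KFlat.Stalk

open Groth.Agent.H06Mod

variable {X : Scheme.{u}} (M N : X.Modules)

/-- `M ⊗ N`. -/
noncomputable abbrev tensor : X.Modules := ((DCoh.tensorBi (X := X)).obj M).obj N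

/-- The unit of sheafification on the sectionwise tensor product. -/
noncomputable def unitHom : CohB1.tensorPre M N ⟶ (show CohB1.PMod X from (tensor M N).val) :=
  (PresheafOfModules.sheafificationAdjunction (R := X.ringCatSheaf) (𝟙 X.ringCatSheaf.obj)).unit.app
    (CohB1.tensorPre M N)

variable {M N}

/-- `m ⊗ n` as a section of `M ⊗ N`. -/
noncomputable def tensorSect (U : X.Opens) (m : Γ(M, U)) (n : Γ(N, U)) : Γ(tensor M N, U) :=
  ((unitHom M N).app (op U)).hom
    ((show (CohB1.toPMod M).obj (op U) from m) ⊗ₜ (show (CohB1.toPMod N).obj (op U) from n))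

variable {U : X.Opens}

lemma tensorSect_add_left (m m' : Γ(M, U)) (n : Γ(N, U)) :
    tensorSect U (m + m') n = tensorSect U m n + tensorSect U m' n :=
  (congrArg _ (TensorProduct.add_tmul _ _ _)).trans (map_add _ _ _)

lemma tensorSect_add_right (m : Γ(M, U)) (n n' : Γ(N, U)) :
    tensorSect U m (n + n') = tensorSect U m n + tensorSect U m n' :=
  (congrArg _ (TensorProduct.tmul_add _ _ _)).trans (map_add _ _ _)

lemma tensorSect_smul_left (r : Γ(X, U)) (m : Γ(M, U)) (n : Γ(N, U)) :
    tensorSect U (r • m) n = r • tensorSect U m n := by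
  let r' : (X.sheaf.obj ⋙ forget₂ CommRingCat RingCat).obj (op U) := r
  let m' : (CohB1.toPMod M).obj (op U) := m
  let n' : (CohB1.toPMod N).obj (op U) := n
  exact (congrArg ((unitHom M N).app (op U)).hom (TensorProduct.smul_tmul' r' m' n').symm).trans
    (((unitHom M N).app (op U)).hom.map_smul r' (m' ⊗ₜ n'))

lemma tensorSect_smul_right (r : Γ(X, U)) (m : Γ(M, U)) (n : Γ(N, U)) :
    tensorSect U m (r • n) = r • tensorSect U m n := by
  let r' : (X.sheaf.obj ⋙ forget₂ CommRingCat RingCat).obj (op U) := r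
  let m' : (CohB1.toPMod M).obj (op U) := m
  let n' : (CohB1.toPMod N).obj (op U) := n
  exact (congrArg ((unitHom M N).app (op U)).hom (TensorProduct.tmul_smul r' m' n')).trans
    (((unitHom M N).app (op U)).hom.map_smul r' (m' ⊗ₜ n'))

lemma tensorSect_res {V : X.Opens} (i : V ⟶ U) (m : Γ(M, U)) (n : Γ(N, U)) :
    tensorSect V (M.presheaf.map i.op m) (N.presheaf.map i.op n) =
      (tensor M N).presheaf.map i.op (tensorSect U m n) := by
  refine Eq.trans ?_ (PresheafOfModules.naturality_apply (unitHom M N) i.op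
    ((show (CohB1.toPMod M).obj (op U) from m) ⊗ₜ (show (CohB1.toPMod N).obj (op U) from n)))
  rfl

section Desc

variable {F : X.Modules} (β : ∀ U : X.Opens, Γ(M, U) → Γ(N, U) → Γ(F, U))
  (h₁ : ∀ U (m m' : Γ(M, U)) n, β U (m + m') n = β U m n + β U m' n)
  (h₂ : ∀ U (r : Γ(X, U)) m n, β U (r • m) n = r • β U m n)
  (h₃ : ∀ U m (n n' : Γ(N, U)), β U m (n + n') = β U m n + β U m n')
  (h₄ : ∀ U (r : Γ(X, U)) m n, β U m (r • n) = r • β U m n)
  (h₅ : ∀ U V (i : V ⟶ U) m n,
    β V (M.presheaf.map i.op m) (N.presheaf.map i.op n) = F.presheaf.map i.op (β U m n))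

/-- A natural bilinear family as a morphism on the sectionwise tensor product. -/
noncomputable def preDesc : CohB1.tensorPre M N ⟶ CohB1.toPMod F where
  app U := ModuleCat.MonoidalCategory.tensorLift (fun m n => β U.unop m n) (h₁ U.unop) (h₂ U.unop)
    (h₃ U.unop) (h₄ U.unop)
  naturality {U V} i := ModuleCat.MonoidalCategory.tensor_ext fun m n => h₅ _ _ i.unop m n

/-- A natural bilinear family as a morphism on `M ⊗ N`. -/
noncomputable def desc : tensor M N ⟶ F :=
  ((PresheafOfModules.sheafificationAdjunction (R := X.ringCatSheaf) (𝟙 X.ringCatSheaf.obj)).homEquiv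
    (CohB1.tensorPre M N) F).symm (preDesc β h₁ h₂ h₃ h₄ h₅)

lemma desc_tensorSect (U : X.Opens) (m : Γ(M, U)) (n : Γ(N, U)) :
    (desc β h₁ h₂ h₃ h₄ h₅).app U (tensorSect U m n) = β U m n := by
  let adj := PresheafOfModules.sheafificationAdjunction (R := X.ringCatSheaf) (𝟙 X.ringCatSheaf.obj)
  have h := (Adjunction.homEquiv_unit adj (f := desc β h₁ h₂ h₃ h₄ h₅)).symm.trans
    (Equiv.apply_symm_apply (adj.homEquiv (CohB1.tensorPre M N) F) _)
  exact congr($(congr(PresheafOfModules.Hom.app $h (op U))).hom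
    ((show (CohB1.toPMod M).obj (op U) from m) ⊗ₜ (show (CohB1.toPMod N).obj (op U) from n)))

end Desc

variable (M N) (x : X)

lemma germ_tensorSect_congr {U V : X.Opens} (hU : x ∈ U) (hV : x ∈ V) (m : Γ(M, U)) (n : Γ(N, U))
    (m' : Γ(M, V)) (n' : Γ(N, V))
    (hm : M.presheaf.germ U x hU m = M.presheaf.germ V x hV m')
    (hn : N.presheaf.germ U x hU n = N.presheaf.germ V x hV n') :
    (tensor M N).presheaf.germ U x hU (tensorSect U m n) =
      (tensor M N).presheaf.germ V x hV (tensorSect V m' n') := by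
  obtain ⟨W, hW, iU, iV, hm⟩ := M.presheaf.germ_eq x hU hV m m' hm
  obtain ⟨W', hW', jU, jV, hn⟩ := N.presheaf.germ_eq x hU hV n n' hn
  let k : W ⊓ W' ⟶ W := homOfLE inf_le_left
  let l : W ⊓ W' ⟶ W' := homOfLE inf_le_right
  have hk : x ∈ W ⊓ W' := ⟨hW, hW'⟩
  rw [← (tensor M N).presheaf.germ_res_apply (k ≫ iU) x hk,
    ← (tensor M N).presheaf.germ_res_apply (k ≫ iV) x hk, ← tensorSect_res, ← tensorSect_res]
  have e₁ : M.presheaf.map (k ≫ iU).op m = M.presheaf.map (k ≫ iV).op m' := by
    rw [op_comp, op_comp, Functor.map_comp, Functor.map_comp]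
    exact congrArg (M.presheaf.map k.op) hm
  have e₂ : N.presheaf.map (k ≫ iU).op n = N.presheaf.map (k ≫ iV).op n' := by
    rw [show k ≫ iU = l ≫ jU from Subsingleton.elim _ _,
      show k ≫ iV = l ≫ jV from Subsingleton.elim _ _,
      op_comp, op_comp, Functor.map_comp, Functor.map_comp]
    exact congrArg (N.presheaf.map l.op) hn
  rw [e₁, e₂]

lemma exists_germ₂ (a : M.presheaf.stalk x) (b : N.presheaf.stalk x) :
    ∃ p : Σ U : X.Opens, Γ(M, U) × Γ(N, U), ∃ h : x ∈ p.1,
      M.presheaf.germ p.1 x h p.2.1 = a ∧ N.presheaf.germ p.1 x h p.2.2 = b := by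
  obtain ⟨U, hU, m, rfl⟩ := M.presheaf.exists_germ_eq a
  obtain ⟨V, hV, n, rfl⟩ := N.presheaf.exists_germ_eq b
  exact ⟨⟨U ⊓ V, M.presheaf.map (homOfLE inf_le_left).op m,
    N.presheaf.map (homOfLE inf_le_right).op n⟩, ⟨hU, hV⟩,
    M.presheaf.germ_res_apply _ x _ m, N.presheaf.germ_res_apply _ x _ n⟩

/-- The pairing `M_x × N_x → (M ⊗ N)_x`. -/
noncomputable def pair (a : M.presheaf.stalk x) (b : N.presheaf.stalk x) :
    (tensor M N).presheaf.stalk x :=
  (tensor M N).presheaf.germ _ x (exists_germ₂ M N x a b).choose_spec.choose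
    (tensorSect _ (exists_germ₂ M N x a b).choose.2.1 (exists_germ₂ M N x a b).choose.2.2)

lemma pair_germ (U : X.Opens) (hU : x ∈ U) (m : Γ(M, U)) (n : Γ(N, U)) :
    pair M N x (M.presheaf.germ U x hU m) (N.presheaf.germ U x hU n) =
      (tensor M N).presheaf.germ U x hU (tensorSect U m n) :=
  germ_tensorSect_congr M N x _ hU _ _ m n
    (exists_germ₂ M N x _ _).choose_spec.choose_spec.1
    (exists_germ₂ M N x _ _).choose_spec.choose_spec.2

lemma exists_germ₃ (a a' : M.presheaf.stalk x) (b : N.presheaf.stalk x) :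
    ∃ (U : X.Opens) (h : x ∈ U) (m m' : Γ(M, U)) (n : Γ(N, U)),
      M.presheaf.germ U x h m = a ∧ M.presheaf.germ U x h m' = a' ∧ N.presheaf.germ U x h n = b := by
  obtain ⟨⟨U, m, n⟩, hU, rfl, rfl⟩ := exists_germ₂ M N x a b
  obtain ⟨V, hV, m', rfl⟩ := M.presheaf.exists_germ_eq a'
  exact ⟨U ⊓ V, ⟨hU, hV⟩, M.presheaf.map (homOfLE inf_le_left).op m,
    M.presheaf.map (homOfLE inf_le_right).op m', N.presheaf.map (homOfLE inf_le_left).op n,
    M.presheaf.germ_res_apply _ x _ m, M.presheaf.germ_res_apply _ x _ m',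
    N.presheaf.germ_res_apply _ x _ n⟩

lemma exists_germ_scalar (r : X.presheaf.stalk x) (a : M.presheaf.stalk x) (b : N.presheaf.stalk x) :
    ∃ (U : X.Opens) (h : x ∈ U) (s : Γ(X, U)) (m : Γ(M, U)) (n : Γ(N, U)),
      X.presheaf.germ U x h s = r ∧ M.presheaf.germ U x h m = a ∧ N.presheaf.germ U x h n = b := by
  obtain ⟨⟨U, m, n⟩, hU, rfl, rfl⟩ := exists_germ₂ M N x a b
  obtain ⟨V, hV, s, rfl⟩ := X.presheaf.exists_germ_eq r
  exact ⟨U ⊓ V, ⟨hU, hV⟩, X.presheaf.map (homOfLE inf_le_right).op s,
    M.presheaf.map (homOfLE inf_le_left).op m, N.presheaf.map (homOfLE inf_le_left).op n,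
    X.presheaf.germ_res_apply _ x _ s, M.presheaf.germ_res_apply _ x _ m,
    N.presheaf.germ_res_apply _ x _ n⟩

/-- The pairing as a bilinear map. -/
noncomputable def pairLin :
    M.presheaf.stalk x →ₗ[X.presheaf.stalk x] N.presheaf.stalk x →ₗ[X.presheaf.stalk x]
      (tensor M N).presheaf.stalk x :=
  LinearMap.mk₂ _ (pair M N x)
    (fun a a' b => by
      obtain ⟨U, h, m, m', n, rfl, rfl, rfl⟩ := exists_germ₃ M N x a a' b
      rw [← map_add (M.presheaf.germ U x h).hom, pair_germ, pair_germ, pair_germ,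
        tensorSect_add_left, map_add])
    (fun r a b => by
      obtain ⟨U, h, s, m, n, rfl, rfl, rfl⟩ := exists_germ_scalar M N x r a b
      rw [← germ_smul, pair_germ, pair_germ, tensorSect_smul_left, germ_smul])
    (fun a b b' => by
      obtain ⟨U, h, n, n', m, rfl, rfl, rfl⟩ := exists_germ₃ N M x b b' a
      rw [← map_add (N.presheaf.germ U x h).hom, pair_germ, pair_germ, pair_germ,
        tensorSect_add_right, map_add])
    (fun r a b => by
      obtain ⟨U, h, s, m, n, rfl, rfl, rfl⟩ := exists_germ_scalar M N x r a b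
      rw [← germ_smul, pair_germ, pair_germ, tensorSect_smul_right, germ_smul])

/-- The canonical map `M_x ⊗ N_x → (M ⊗ N)_x`. -/
noncomputable def toStalk :
    M.presheaf.stalk x ⊗[X.presheaf.stalk x] N.presheaf.stalk x →ₗ[X.presheaf.stalk x]
      (tensor M N).presheaf.stalk x :=
  TensorProduct.lift (pairLin M N x)

lemma toStalk_tmul (a : M.presheaf.stalk x) (b : N.presheaf.stalk x) :
    toStalk M N x (a ⊗ₜ b) = pair M N x a b :=
  TensorProduct.lift.tmul a b

theorem toStalk_bijective : Function.Bijective (toStalk M N x) := by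
  constructor
  · let S := M.presheaf.stalk x ⊗[X.presheaf.stalk x] N.presheaf.stalk x
    let β : ∀ U : X.Opens, Γ(M, U) → Γ(N, U) → Γ(sky x S, U) := fun U m n h =>
      (M.presheaf.germ U x h.down.down m ⊗ₜ N.presheaf.germ U x h.down.down n : S)
    let d : tensor M N ⟶ sky x S := desc β
      (fun U m m' n => funext fun h => by
        show (M.presheaf.germ U x h.down.down (m + m') ⊗ₜ N.presheaf.germ U x h.down.down n : S) =
          M.presheaf.germ U x h.down.down m ⊗ₜ N.presheaf.germ U x h.down.down n +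
            M.presheaf.germ U x h.down.down m' ⊗ₜ N.presheaf.germ U x h.down.down n
        rw [map_add, add_tmul])
      (fun U r m n => funext fun h => by
        show (M.presheaf.germ U x h.down.down (r • m) ⊗ₜ N.presheaf.germ U x h.down.down n : S) =
          X.presheaf.germ U x h.down.down r •
            (M.presheaf.germ U x h.down.down m ⊗ₜ N.presheaf.germ U x h.down.down n : S)
        rw [germ_smul, TensorProduct.smul_tmul'])
      (fun U m n n' => funext fun h => by
        show (M.presheaf.germ U x h.down.down m ⊗ₜ N.presheaf.germ U x h.down.down (n + n') : S) =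
          M.presheaf.germ U x h.down.down m ⊗ₜ N.presheaf.germ U x h.down.down n +
            M.presheaf.germ U x h.down.down m ⊗ₜ N.presheaf.germ U x h.down.down n'
        rw [map_add, tmul_add])
      (fun U r m n => funext fun h => by
        show (M.presheaf.germ U x h.down.down m ⊗ₜ N.presheaf.germ U x h.down.down (r • n) : S) =
          X.presheaf.germ U x h.down.down r •
            (M.presheaf.germ U x h.down.down m ⊗ₜ N.presheaf.germ U x h.down.down n : S)
        rw [germ_smul, TensorProduct.tmul_smul])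
      (fun U V i m n => funext fun h => by
        show (M.presheaf.germ V x h.down.down (M.presheaf.map i.op m) ⊗ₜ
            N.presheaf.germ V x h.down.down (N.presheaf.map i.op n) : S) =
          M.presheaf.germ U x (i.le h.down.down) m ⊗ₜ N.presheaf.germ U x (i.le h.down.down) n
        rw [M.presheaf.germ_res_apply, N.presheaf.germ_res_apply])
    have key : ∀ t : S, stalkOfHom d (toStalk M N x t) = t := by
      intro t
      induction t using TensorProduct.induction_on with
      | zero => simp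
      | add a b ha hb => rw [map_add, map_add, ha, hb]
      | tmul a b =>
        obtain ⟨⟨U, m, n⟩, hU, rfl, rfl⟩ := exists_germ₂ M N x a b
        rw [toStalk_tmul, pair_germ, stalkOfHom_germ, desc_tensorSect]
        rfl
    intro a b hab
    rw [← key a, hab, key b]
  · let P := LinearMap.range (toStalk M N x)
    let d : tensor M N ⟶ sky x ((tensor M N).presheaf.stalk x ⧸ P) :=
      homOfStalk (F := tensor M N) P.mkQ
    have h0 : d = 0 := by
      apply ((PresheafOfModules.sheafificationAdjunction (R := X.ringCatSheaf)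
        (𝟙 X.ringCatSheaf.obj)).homEquiv (CohB1.tensorPre M N)
          (sky x ((tensor M N).presheaf.stalk x ⧸ P))).injective
      rw [Adjunction.homEquiv_unit, Adjunction.homEquiv_unit]
      refine PresheafOfModules.hom_ext fun U => ModuleCat.MonoidalCategory.tensor_ext fun m n => ?_
      refine skyEval_ext (N := (tensor M N).presheaf.stalk x ⧸ P) x fun hx => ?_
      refine (skyEval_homOfStalk (F := tensor M N) P.mkQ U.unop hx (tensorSect U.unop m n)).trans ?_
      refine ((Submodule.Quotient.mk_eq_zero P).mpr ⟨M.presheaf.germ U.unop x hx m ⊗ₜ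
        N.presheaf.germ U.unop x hx n, ?_⟩).trans ?_
      · rw [toStalk_tmul, pair_germ]
      · rfl
    intro z
    obtain ⟨V, hV, a, rfl⟩ := (tensor M N).presheaf.exists_germ_eq z
    refine (Submodule.Quotient.mk_eq_zero P).mp ?_
    have h1 := skyEval_homOfStalk (F := tensor M N) P.mkQ V hV a
    rw [show homOfStalk (F := tensor M N) P.mkQ = (0 : tensor M N ⟶ _) from h0] at h1
    exact h1.symm

/-- `M_x ⊗ N_x ≅ (M ⊗ N)_x`. -/
noncomputable def stalkEquiv :
    M.presheaf.stalk x ⊗[X.presheaf.stalk x] N.presheaf.stalk x ≃ₗ[X.presheaf.stalk x]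
      (tensor M N).presheaf.stalk x :=
  LinearEquiv.ofBijective _ (toStalk_bijective M N x)

variable {M N}

lemma toStalk_naturality {M' N' : X.Modules} (f : M ⟶ M') (g : N ⟶ N')
    (t : M.presheaf.stalk x ⊗[X.presheaf.stalk x] N.presheaf.stalk x) :
    stalkLin (((DCoh.tensorBi (X := X)).map f).app N ≫ ((DCoh.tensorBi (X := X)).obj M').map g) x
        (toStalk M N x t) =
      toStalk M' N' x (TensorProduct.map (stalkLin f x) (stalkLin g x) t) := by
  induction t using TensorProduct.induction_on with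
  | zero => simp
  | add a b ha hb => simp only [map_add, ha, hb]
  | tmul a b =>
    obtain ⟨⟨U, m, n⟩, hU, rfl, rfl⟩ := exists_germ₂ M N x a b
    rw [TensorProduct.map_tmul, toStalk_tmul, toStalk_tmul, pair_germ, stalkLin_germ, stalkLin_germ,
      stalkLin_germ, pair_germ]
    refine congrArg ((tensor M' N').presheaf.germ U x hU) ?_
    let adj := PresheafOfModules.sheafificationAdjunction (R := X.ringCatSheaf) (𝟙 X.ringCatSheaf.obj)
    have h1 := adj.unit.naturality
      ((DCoh.toP (X := X)).map f ▷ (DCoh.toP (X := X)).obj N)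
    have h2 := adj.unit.naturality
      ((DCoh.toP (X := X)).obj M' ◁ (DCoh.toP (X := X)).map g)
    have e1 := congr($(congr(PresheafOfModules.Hom.app $h1 (op U))).hom
      ((show (CohB1.toPMod M).obj (op U) from m) ⊗ₜ (show (CohB1.toPMod N).obj (op U) from n)))
    have e2 := congr($(congr(PresheafOfModules.Hom.app $h2 (op U))).hom
      ((show (CohB1.toPMod M').obj (op U) from f.app U m) ⊗ₜ
        (show (CohB1.toPMod N).obj (op U) from n)))
    exact (congrArg ((((DCoh.tensorBi (X := X)).obj M').map g).app U) e1.symm).trans e2.symm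

end Groth.Agent.H16Derived.KFlat.Stalk
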