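import Groth.Agent.H16Derived.KFlat.PerfConc

/-!
# The locus where a perfect object is a locally free module in one degree
-/

set_option autoImplicit false
set_option linter.style.haveILetI false
set_option linter.unusedSectionVars false

universe u

open CategoryTheory CategoryTheory.Limits AlgebraicGeometry Pretriangulated TensorProduct

attribute [local instance] HasDerivedCategory.standard

namespace Groth.Agent.H16Derived.KFlat.Stalk

variable {X Y Z : Scheme.{u}}

theorem subsingleton_stalk_of_rfd {M : X.Modules} (x : X)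
    (hf : Module.Finite (X.presheaf.stalk x) (M.presheaf.stalk x)) (h : rfd M x = 0) :
    Subsingleton (M.presheaf.stalk x) :=
  IsLocalRing.subsingleton_tensorProduct.1 (Module.finrank_zero_iff.1 h)

theorem isFinLocFree_restrict_of_le {M : X.Modules} {U W : X.Opens} (hle : W ≤ U)
    (h : FlatMod.IsFinLocFree (M.restrict U.ι)) : FlatMod.IsFinLocFree (M.restrict W.ι) :=
  isFinLocFree_of_iso
    ((Scheme.Modules.pullback _).mapIso ((Scheme.Modules.restrictFunctorIsoPullback _).app _) ≪≫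
      (Scheme.Modules.pullbackComp _ _).app _ ≪≫
      (Scheme.Modules.pullbackCongr (X.homOfLE_ι hle)).app _ ≪≫
      ((Scheme.Modules.restrictFunctorIsoPullback _).app _).symm)
    (isFinLocFree_pullback (X.homOfLE hle) h)

theorem isFinLocFree_restrict_of_forall {M : X.Modules} {U : X.Opens}
    (h : ∀ x ∈ U, ∃ W : X.Opens, x ∈ W ∧ W ≤ U ∧ FlatMod.IsFinLocFree (M.restrict W.ι)) :
    FlatMod.IsFinLocFree (M.restrict U.ι) :=
  isFinLocFree_of_local fun y => by
    obtain ⟨W, hy, hle, hW⟩ := h y.1 y.2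
    refine ⟨_, X.homOfLE hle, inferInstance, ?_, isFinLocFree_of_iso ?_ hW⟩
    · rw [Scheme.opensRange_homOfLE]
      exact hy
    · exact (Scheme.Modules.restrictFunctorIsoPullback _).app _ ≪≫
        (Scheme.Modules.pullbackCongr (X.homOfLE_ι hle)).symm.app _ ≪≫
        (Scheme.Modules.pullbackComp _ _).symm.app _ ≪≫
        (Scheme.Modules.pullback _).mapIso ((Scheme.Modules.restrictFunctorIsoPullback _).app _).symm ≪≫
        ((Scheme.Modules.restrictFunctorIsoPullback _).app _).symm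

/-- Local freeness on an open of an open. -/
theorem isFinLocFree_restrict_image {M : X.Modules} (V : X.Opens) (G : (V : Scheme.{u}).Opens)
    (h : FlatMod.IsFinLocFree ((M.restrict V.ι).restrict G.ι)) :
    FlatMod.IsFinLocFree (M.restrict (V.ι ''ᵁ G).ι) := by
  let k : ((V.ι ''ᵁ G : X.Opens) : Scheme.{u}) ⟶ (G : Scheme.{u}) :=
    IsOpenImmersion.lift (G.ι ≫ V.ι) (V.ι ''ᵁ G).ι (by
      rw [Scheme.Opens.range_ι, Scheme.Hom.comp_base, TopCat.coe_comp, Set.range_comp,
        Scheme.Opens.range_ι]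
      exact subset_of_eq (Scheme.Hom.coe_image V.ι))
  have hk : k ≫ G.ι ≫ V.ι = (V.ι ''ᵁ G).ι := IsOpenImmersion.lift_fac _ _ _
  exact isFinLocFree_of_iso
    ((Scheme.Modules.pullback k).mapIso
        ((Scheme.Modules.restrictFunctorIsoPullback G.ι).app (M.restrict V.ι) ≪≫
          (Scheme.Modules.pullback G.ι).mapIso
            ((Scheme.Modules.restrictFunctorIsoPullback V.ι).app M) ≪≫
          (Scheme.Modules.pullbackComp _ _).app M) ≪≫
      (Scheme.Modules.pullbackComp _ _).app M ≪≫ (Scheme.Modules.pullbackCongr hk).app M ≪≫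
      ((Scheme.Modules.restrictFunctorIsoPullback _).app M).symm)
    (isFinLocFree_pullback k h)

theorem isZero_restrict_of_subsingleton {M : X.Modules} {U : X.Opens}
    (h : ∀ x ∈ U, Subsingleton (M.presheaf.stalk x)) : IsZero (M.restrict U.ι) :=
  H10Coh.restrict_subsingleton M fun y hy _ _ _ => @Subsingleton.elim _ (h y hy) _ _

/-- The pullback of a composite, on complexes. -/
noncomputable def pullbackCompCxIso (g : Z ⟶ Y) (f : Y ⟶ X) (P : CochainComplex X.Modules ℤ) :
    ((Scheme.Modules.pullback g).mapHomologicalComplex (ComplexShape.up ℤ)).obj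
        (((Scheme.Modules.pullback f).mapHomologicalComplex (ComplexShape.up ℤ)).obj P) ≅
      ((Scheme.Modules.pullback (g ≫ f)).mapHomologicalComplex (ComplexShape.up ℤ)).obj P :=
  HomologicalComplex.Hom.isoOfComponents (fun i => (Scheme.Modules.pullbackComp g f).app (P.X i))
    fun i j _ => ((Scheme.Modules.pullbackComp g f).hom.naturality (P.d i j)).symm

theorem lpull_comp (g : Z ⟶ Y) (f : Y ⟶ X) [DCoh.HasLpull g] [DCoh.HasLpull f]
    [DCoh.HasLpull (g ≫ f)] (E : DCoh.D X) :
    Nonempty ((DCoh.Lpull g).obj ((DCoh.Lpull f).obj E) ≅ (DCoh.Lpull (g ≫ f)).obj E) := by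
  obtain ⟨P, hP, ⟨e⟩⟩ := exists_kflat_rep E
  exact ⟨(DCoh.Lpull g).mapIso ((DCoh.Lpull f).mapIso e.symm ≪≫ lpullObjIso f P hP) ≪≫
    lpullObjIso g _ (isKFlat_pullback f hP) ≪≫
    DerivedCategory.Q.mapIso (pullbackCompCxIso g f P) ≪≫ (lpullObjIso (g ≫ f) P hP).symm ≪≫
    (DCoh.Lpull (g ≫ f)).mapIso e⟩

theorem lpull_rd (W : X.Opens) (f : Z ⟶ W) (g : Z ⟶ X) (hf : f ≫ W.ι = g) [DCoh.HasLpull f]
    [DCoh.HasLpull g] (E : DCoh.D X) :
    Nonempty ((DCoh.Lpull g).obj E ≅ (DCoh.Lpull f).obj ((rd W.ι).obj E)) := by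
  obtain ⟨P, hP, ⟨e⟩⟩ := exists_kflat_rep E
  exact ⟨(DCoh.Lpull g).mapIso e.symm ≪≫ lpullObjIso g P hP ≪≫
    DerivedCategory.Q.mapIso (pullbackFactorIso W f g hf P) ≪≫
    (lpullObjIso f _ (kflat_restrict W hP)).symm ≪≫
    (DCoh.Lpull f).mapIso (((rdQ W.ι).app P).symm ≪≫ (rd W.ι).mapIso e)⟩

theorem kflat_single {N : X.Modules} (hN : FlatMod.IsFinLocFree N) (i : ℤ) :
    kflat X ((CochainComplex.singleFunctor X.Modules i).obj N) := by
  refine kflat_of_boundedAbove _ i
    (fun q hq => HomologicalComplex.isZero_single_obj_X _ _ _ _ (by omega)) fun q => ?_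
  by_cases hq : q = i
  · subst hq
    exact isFlat_of_isFinLocFree (isFinLocFree_of_iso
      (HomologicalComplex.singleObjXSelf (ComplexShape.up ℤ) q N).symm hN)
  · exact isFlat_of_isFinLocFree
      (isFinLocFree_of_isZero (HomologicalComplex.isZero_single_obj_X _ _ _ _ hq))

/-- Derived pullback of a locally free module in one degree. -/
noncomputable def lpullSingleIso (g : Z ⟶ X) [DCoh.HasLpull g] {N : X.Modules}
    (hN : FlatMod.IsFinLocFree N) (i : ℤ) :
    (DCoh.Lpull g).obj ((DerivedCategory.singleFunctor X.Modules i).obj N) ≅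
      (DerivedCategory.singleFunctor Z.Modules i).obj ((Scheme.Modules.pullback g).obj N) :=
  (DCoh.Lpull g).mapIso ((DerivedCategory.singleFunctorIsoCompQ X.Modules i).app N) ≪≫
    lpullObjIso g _ (kflat_single hN i) ≪≫
    DerivedCategory.Q.mapIso
      ((HomologicalComplex.singleMapHomologicalComplex (Scheme.Modules.pullback g)
        (ComplexShape.up ℤ) i).app N) ≪≫
    ((DerivedCategory.singleFunctorIsoCompQ Z.Modules i).app _).symm

theorem isZero_hdSingle (N : X.Modules) (i j : ℤ) (hj : j ≠ i) :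
    IsZero (DCoh.HD ((DerivedCategory.singleFunctor X.Modules i).obj N) j) :=
  (HomologicalComplex.isZero_single_obj_homology _ i N j hj).of_iso
    ((DerivedCategory.homologyFunctor X.Modules j).mapIso
        ((DerivedCategory.singleFunctorIsoCompQ X.Modules i).app N) ≪≫
      (DerivedCategory.homologyFunctorFactors X.Modules j).app _)

variable (E : DCoh.D X) (V : X.Opens) (S : CochainComplex (V : Scheme.{u}).Modules ℤ)
  (α : DCoh.toD _ S ≅ (rd V.ι).obj E)

/-- Cohomology sheaves of a model. -/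
noncomputable def modelHomologyIso (j : ℤ) : (DCoh.HD E j).restrict V.ι ≅ S.homology j :=
  (homologyRdIso V.ι E j).symm ≪≫ (DerivedCategory.homologyFunctor _ j).mapIso α.symm ≪≫
    (DerivedCategory.homologyFunctorFactors _ j).app S

include α

theorem rfd_model (j : ℤ) (v : V) : rfd (S.homology j) v = rfd (DCoh.HD E j) (V.ι.base v) :=
  (rfd_congr (modelHomologyIso E V S α j).symm v).trans (rfd_restrict V _ v)

theorem free_finite_model (j : ℤ) (v : V) :
    (Module.Free ((V : Scheme.{u}).presheaf.stalk v) ((S.homology j).presheaf.stalk v) ∧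
      Module.Finite ((V : Scheme.{u}).presheaf.stalk v) ((S.homology j).presheaf.stalk v)) ↔
    (Module.Free (X.presheaf.stalk (V.ι.base v)) ((DCoh.HD E j).presheaf.stalk (V.ι.base v)) ∧
      Module.Finite (X.presheaf.stalk (V.ι.base v)) ((DCoh.HD E j).presheaf.stalk (V.ι.base v))) := by
  rw [← free_finite_restrict_iff V (DCoh.HD E j) v]
  let e : ((DCoh.HD E j).restrict V.ι).presheaf.stalk v ≃ₗ[(V : Scheme.{u}).presheaf.stalk v]
      (S.homology j).presheaf.stalk v :=
    ((DerSch.stalkFunctor _ v).mapIso (modelHomologyIso E V S α j)).toLinearEquiv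
  exact ⟨fun h => ⟨haveI := h.1; Module.Free.of_equiv e.symm, haveI := h.2; Module.Finite.equiv e.symm⟩,
    fun h => ⟨haveI := h.1; Module.Free.of_equiv e, haveI := h.2; Module.Finite.equiv e⟩⟩

/-- Where all opcycles of a model are free, the cohomology sheaves are finite locally free. -/
theorem exists_nhd_of_free (hS : DCoh.IsStrictlyPerfect S) (v : V)
    (h : ∀ j, Module.Free ((V : Scheme.{u}).presheaf.stalk v) ((S.opcycles j).presheaf.stalk v)) :
    ∃ G : (V : Scheme.{u}).Opens, v ∈ G ∧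
      ∀ j, FlatMod.IsFinLocFree ((DCoh.HD E j).restrict (V.ι ''ᵁ G).ι) := by
  obtain ⟨G, hv, hG⟩ := exists_open_free hS v h
  refine ⟨G, hv, fun j => isFinLocFree_restrict_image V G ?_⟩
  exact isFinLocFree_of_iso
    ((Scheme.Modules.restrictFunctor G.ι).mapIso (modelHomologyIso E V S α j)).symm (hG j).1

omit α

theorem free_finite_of_restrict {M : X.Modules} {W : X.Opens}
    (h : FlatMod.IsFinLocFree (M.restrict W.ι)) {y : X} (hy : y ∈ W) :
    Module.Free (X.presheaf.stalk y) (M.presheaf.stalk y) ∧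
      Module.Finite (X.presheaf.stalk y) (M.presheaf.stalk y) :=
  (free_finite_restrict_iff W M ⟨y, hy⟩).1 ⟨H8Props.FinLocFree.free_stalk _ h _,
    H06Mod.finite_stalk _ (H29Fitt.isFT_of_isFP _ (H8Props.FinLocFree.isFP_of_isFinLocFree _ h)) _⟩

/-- The locus of free cohomology stalks of a perfect object is open. -/
theorem exists_nhd_free_stalks (hE : DCoh.IsPerfect E) (x : X)
    (h : ∀ j, Module.Free (X.presheaf.stalk x) ((DCoh.HD E j).presheaf.stalk x) ∧
      Module.Finite (X.presheaf.stalk x) ((DCoh.HD E j).presheaf.stalk x)) :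
    ∃ W : X.Opens, x ∈ W ∧ ∀ j, FlatMod.IsFinLocFree ((DCoh.HD E j).restrict W.ι) := by
  obtain ⟨V, hx, S, hS, ⟨α⟩⟩ := (isPerfect_iff E).1 hE x
  obtain ⟨G, hv, hG⟩ := exists_nhd_of_free E V S α hS ⟨x, hx⟩
    (free_opcycles_of_homology hS _ fun j => ((free_finite_model E V S α j ⟨x, hx⟩).2 (h j)).1)
  exact ⟨V.ι ''ᵁ G, ⟨(⟨x, hx⟩ : V), hv, rfl⟩, hG⟩

/-- `E` is near each point of `U` a module of rank `r` placed in degree `i`. -/
def ConcAt (i : ℤ) (r : ℕ) (x : X) : Prop :=
  (∀ j, j ≠ i → Subsingleton ((DCoh.HD E j).presheaf.stalk x)) ∧ rfd (DCoh.HD E i) x = r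

/-- The open set where a perfect object is a module of rank `r` placed in degree `i`. -/
def concLocus (i : ℤ) (r : ℕ) : X.Opens :=
  ⟨{x : X | ∃ W : X.Opens, x ∈ W ∧ FlatMod.IsFinLocFree ((DCoh.HD E i).restrict W.ι) ∧
      ∀ y ∈ W, ConcAt E i r y},
    isOpen_iff_forall_mem_open.2 fun _ hx => by
      obtain ⟨W, hx, hW⟩ := hx
      exact ⟨W, fun _ hy => ⟨W, hy, hW⟩, W.2, hx⟩⟩

/-- Fibres concentrated in one degree detect the locus. -/
theorem mem_concLocus (hE : DCoh.IsPerfect E) (g : Z ⟶ X) [DCoh.HasLpull g] (p : Z)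
    (hZ : ∀ q : Z, q = p) (hp : IsField (Z.presheaf.stalk p)) (i : ℤ) (r : ℕ)
    (h0 : ∀ j, j ≠ i → fdim g p E j = 0) (hi : fdim g p E i = r) :
    g.base p ∈ concLocus E i r := by
  obtain ⟨V, hx, S, hS, ⟨α⟩⟩ := (isPerfect_iff E).1 hE (g.base p)
  let f : Z ⟶ V := IsOpenImmersion.lift V.ι g (by
    rintro _ ⟨q, rfl⟩
    rw [hZ q, Scheme.Opens.range_ι]
    exact hx)
  have hf : f ≫ V.ι = g := IsOpenImmersion.lift_fac _ _ _
  have hv : V.ι.base (f.base p) = g.base p := by rw [← Scheme.Hom.comp_apply, hf]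
  have form : ∀ j, fdim g p E j + rfd (S.X (j + 1)) (f.base p) =
      rfd (S.opcycles j) (f.base p) + rfd (S.opcycles (j + 1)) (f.base p) := fun j => by
    have := fdim_formula E V S hS α.hom (j - 1) (Approx.of_isIso _ _) g p hp f hf j (by omega)
    rw [rfd_cokernel] at this
    have e := rfd_cokernel S (j + 1) (f.base p)
    rw [show j + 1 - 1 = j by ring] at e
    rwa [e] at this
  have hfree := free_opcycles_of_conc hS (f.base p) i fun j hj => by
    have := form j
    rw [h0 j hj] at this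
    omega
  have hval : ∀ j, rfd (DCoh.HD E j) (g.base p) = fdim g p E j := fun j => by
    rw [← hv, ← rfd_model E V S α j]
    have := rfd_homology hS (f.base p) hfree j
    have := form j
    omega
  obtain ⟨G, hG, hGfree⟩ := exists_nhd_of_free E V S α hS _ hfree
  let W : X.Opens := V.ι ''ᵁ G
  have hxW : g.base p ∈ W := ⟨f.base p, hG, hv⟩
  obtain ⟨a, b, hab⟩ := hS.1
  have h3 : ∀ j, ∀ᶠ y in nhds (⟨g.base p, hxW⟩ : W),
      rfd (DCoh.HD E j) (W.ι.base y) = rfd (DCoh.HD E j) (g.base p) := fun j => by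
    filter_upwards [eventually_rfd_eq _ (hGfree j) ⟨g.base p, hxW⟩] with y hy
    exact ((rfd_restrict W _ y).symm.trans hy).trans (rfd_restrict W _ _)
  have h4 := (h3 i).and ((Set.finite_Icc a b).eventually_all.2 fun j _ => h3 j)
  obtain ⟨T, hT, hTo, hxT⟩ := mem_nhds_iff.1 h4
  let W' : X.Opens := W.ι ''ᵁ ⟨T, hTo⟩
  have hle : W' ≤ W := by
    rintro _ ⟨w, -, rfl⟩
    exact w.2
  refine ⟨W', ⟨_, hxT, rfl⟩, isFinLocFree_restrict_of_le hle (hGfree i), ?_⟩
  rintro _ ⟨w, hw, rfl⟩
  obtain ⟨h5, h6⟩ : _ ∧ _ := hT hw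
  refine ⟨fun j hj => subsingleton_stalk_of_rfd _ (free_finite_of_restrict (hGfree j) w.2).2 ?_,
    (h5.trans (hval i)).trans hi⟩
  by_cases hjab : j ∈ Set.Icc a b
  · exact ((h6 j hjab).trans (hval j)).trans (h0 j hj)
  · obtain ⟨v, -, hv'⟩ := w.2
    show rfd (DCoh.HD E j) w.1 = 0
    rw [show w.1 = V.ι.base v from hv'.symm, ← rfd_model E V S α j]
    refine rfd_eq_zero (HomologicalComplex.exactAt_iff_isZero_homology _ _ |>.1 ?_) v
    exact ShortComplex.exact_of_isZero_X₂ _ (hab j (by simp only [Set.mem_Icc] at hjab; omega))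

theorem locus_iff (hE : DCoh.IsPerfect E) (i : ℤ) (r : ℕ) (f : Y ⟶ X) [DCoh.HasLpull f] :
    Set.range f.base ⊆ (concLocus E i r : Set X) ↔
      ∃ N : Y.Modules, FlatMod.IsFinLocFreeOfRank r N ∧
        Nonempty ((DCoh.Lpull f).obj E ≅ (DCoh.inD Y N)⟦-i⟧) := by
  constructor
  · intro hf
    let U := concLocus E i r
    have hU : ∀ x ∈ U, ConcAt E i r x := fun x ⟨W, hx, _, hW⟩ => hW x hx
    have hz : ∀ j, j ≠ i → IsZero (DCoh.HD ((rd U.ι).obj E) j) := fun j hj =>
      (isZero_restrict_of_subsingleton fun x hx => (hU x hx).1 j hj).of_iso (homologyRdIso U.ι E j)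
    haveI : DerivedCategory.IsGE ((rd U.ι).obj E) i :=
      (DerivedCategory.isGE_iff _ _).2 fun j hj => hz j (by omega)
    haveI : DerivedCategory.IsLE ((rd U.ι).obj E) i :=
      (DerivedCategory.isLE_iff _ _).2 fun j hj => hz j (by omega)
    obtain ⟨N, ⟨eN⟩⟩ := DerivedCategory.exists_iso_singleFunctor_obj_of_isGE_of_isLE ((rd U.ι).obj E) i
    let e : (DCoh.HD E i).restrict U.ι ≅ N :=
      (homologyRdIso U.ι E i).symm ≪≫ (DerivedCategory.homologyFunctor _ i).mapIso eN ≪≫ hdSingle N i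
    have hlf : FlatMod.IsFinLocFree ((DCoh.HD E i).restrict U.ι) :=
      isFinLocFree_restrict_of_forall fun x ⟨W, hx, hW, hW'⟩ =>
        ⟨W, hx, fun y hy => ⟨W, hy, hW, hW'⟩, hW⟩
    have hN : FlatMod.IsFinLocFree N := isFinLocFree_of_iso e hlf
    have hr : ∀ x, rfd N x = r := fun x => by
      rw [← rfd_congr e, rfd_restrict]
      exact (hU _ x.2).2
    let f' : Y ⟶ U := IsOpenImmersion.lift U.ι f (by rw [Scheme.Opens.range_ι]; exact hf)
    haveI := hasLpull f'
    obtain ⟨c⟩ := lpull_rd U f' f (IsOpenImmersion.lift_fac _ _ _) E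
    exact ⟨(Scheme.Modules.pullback f').obj N,
      isFinLocFreeOfRank_of_rfd (isFinLocFree_pullback f' hN) r
        (fun y => (rfd_pullback f' N y).trans (hr _)),
      ⟨c ≪≫ (DCoh.Lpull f').mapIso eN ≪≫ lpullSingleIso f' hN i ≪≫
        (singleShiftIso _ i).symm⟩⟩
  · rintro ⟨N, hN, ⟨e⟩⟩ _ ⟨y, rfl⟩
    have hN' : FlatMod.IsFinLocFree N := fun z =>
      let ⟨O, hO, eO⟩ := hN z
      ⟨O, r, hO, eO⟩
    let g := Y.fromSpecResidueField y
    let p : Spec (Y.residueField y) := default
    have hgy : g.base p = y := Scheme.fromSpecResidueField_apply _ _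
    haveI := hasLpull g
    haveI := hasLpull (g ≫ f)
    obtain ⟨c⟩ := lpull_comp g f E
    let c' : (DCoh.Lpull (g ≫ f)).obj E ≅
        (DerivedCategory.singleFunctor _ i).obj ((Scheme.Modules.pullback g).obj N) :=
      c.symm ≪≫ (DCoh.Lpull g).mapIso (e ≪≫ singleShiftIso N i) ≪≫ lpullSingleIso g hN' i
    have hval := fun j => ((DerSch.stalkFunctor _ p).mapIso
      ((DerivedCategory.homologyFunctor _ j).mapIso c')).toLinearEquiv.finrank_eq
    have := mem_concLocus E hE (g ≫ f) p (fun q => Subsingleton.elim q p)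
      (isField_stalk_residueField y p) i r (fun j hj => by
        rw [fdim, hval j]
        haveI := ModuleCat.subsingleton_of_isZero
          ((DerSch.stalkFunctor _ p).map_isZero (isZero_hdSingle ((Scheme.Modules.pullback g).obj N) i j hj))
        exact Module.finrank_zero_of_subsingleton) (by
        rw [fdim, hval i, ((DerSch.stalkFunctor _ p).mapIso
          (hdSingle ((Scheme.Modules.pullback g).obj N) i)).toLinearEquiv.finrank_eq]
        exact (finrank_fpt g p (isField_stalk_residueField y p) N).trans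
          (rfd_of_isFinLocFreeOfRank hN _))
    rwa [Scheme.Hom.comp_apply, hgy] at this

end Groth.Agent.H16Derived.KFlat.Stalk
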