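import Groth.Agent.H16Derived.KFlat.SheafAssoc
import Groth.Agent.H16Derived.KFlat.FinLocFree
import Groth.Agent.H16Derived.KFlat.FlatCriterion

/-!
# Finite locally free modules: sums and tensor products; tensor of strictly perfect complexes
-/

set_option autoImplicit false
set_option linter.style.haveILetI false

universe u

open CategoryTheory CategoryTheory.Limits AlgebraicGeometry

attribute [local instance] HasDerivedCategory.standard

namespace Groth.Agent.H16Derived.KFlat.Stalk

variable {X Y : Scheme.{u}}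

/-- `M` is free of finite rank. -/
def IsFreeFin (M : X.Modules) : Prop := ∃ n : ℕ, Nonempty (M ≅ FlatMod.freeMod X n)

lemma IsFreeFin.of_iso {M N : X.Modules} (e : M ≅ N) (h : IsFreeFin M) : IsFreeFin N := by
  obtain ⟨n, ⟨i⟩⟩ := h
  exact ⟨n, ⟨e.symm ≪≫ i⟩⟩

lemma IsFreeFin.freeMod (n : ℕ) : IsFreeFin (FlatMod.freeMod X n) := ⟨n, ⟨Iso.refl _⟩⟩

lemma IsFreeFin.pullback (f : X ⟶ Y) {M : Y.Modules} (h : IsFreeFin M) :
    IsFreeFin ((Scheme.Modules.pullback f).obj M) := by
  obtain ⟨n, ⟨i⟩⟩ := h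
  exact ⟨n, ⟨(Scheme.Modules.pullback f).mapIso i ≪≫ freeModPullbackIso f n⟩⟩

/-- A finite sum of free modules of finite rank is free of finite rank. -/
lemma IsFreeFin.sigma {J : Type} [Finite J] (M : J → X.Modules) (h : ∀ j, IsFreeFin (M j)) :
    IsFreeFin (∐ M) := by
  choose n hn using h
  haveI := Fintype.ofFinite J
  refine ⟨Fintype.card (Σ j, Fin (n j)), ⟨Sigma.mapIso (fun j => (hn j).some) ≪≫
    sigmaSigmaIso (fun j => Fin (n j)) (fun _ _ => Coh.structureModule X) ≪≫
    Sigma.whiskerEquiv (f := fun _ : Σ j, Fin (n j) => Coh.structureModule X)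
      (g := fun _ : Fin (Fintype.card (Σ j, Fin (n j))) => Coh.structureModule X)
      (Fintype.equivFin _) fun _ => Iso.refl _⟩⟩

lemma isFreeFin_structureModule : IsFreeFin (Coh.structureModule X) :=
  ⟨1, ⟨(coproductUniqueIso fun _ : Fin 1 => Coh.structureModule X).symm⟩⟩

/-- The tensor product of free modules of finite rank is free of finite rank. -/
lemma IsFreeFin.tensor {M N : X.Modules} (hM : IsFreeFin M) (hN : IsFreeFin N) :
    IsFreeFin (((DCoh.tensorBi (X := X)).obj M).obj N) := by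
  obtain ⟨m, ⟨i⟩⟩ := hM
  obtain ⟨n, ⟨j⟩⟩ := hN
  refine IsFreeFin.of_iso (((DCoh.tensorBi (X := X)).mapIso i).app N ≪≫
    ((DCoh.tensorBi (X := X)).obj _).mapIso j).symm ?_
  haveI := preservesColimitsOfSize_shrink.{0, u, 0, u}
    ((DCoh.tensorBi (X := X)).obj (FlatMod.freeMod X m))
  haveI := preservesColimitsOfSize_shrink.{0, u, 0, u}
    ((DCoh.tensorBi (X := X)).flip.obj (Coh.structureModule X))
  refine IsFreeFin.of_iso (PreservesCoproduct.iso ((DCoh.tensorBi (X := X)).obj _) _).symm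
    (IsFreeFin.sigma _ fun _ => ?_)
  refine IsFreeFin.of_iso (PreservesCoproduct.iso
    ((DCoh.tensorBi (X := X)).flip.obj (Coh.structureModule X)) _).symm
    (IsFreeFin.sigma _ fun _ => ?_)
  exact IsFreeFin.of_iso ((tensorRightModIso (Coh.structureModule X)).symm ≪≫
    tensorUnitModIso |>.app (Coh.structureModule X)).symm isFreeFin_structureModule

/-- `M` is free near `x` after restriction. -/
def FreeNear (M : X.Modules) (U : X.Opens) : Prop :=
  IsFreeFin ((Scheme.Modules.pullback U.ι).obj M)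

lemma FreeNear.mono {M : X.Modules} {U W : X.Opens} (hWU : W ≤ U) (h : FreeNear M U) :
    FreeNear M W :=
  IsFreeFin.of_iso ((Scheme.Modules.pullbackComp (X.homOfLE hWU) U.ι ≪≫
    Scheme.Modules.pullbackCongr (X.homOfLE_ι hWU)).app M)
    (IsFreeFin.pullback (X.homOfLE hWU) h)

theorem isFinLocFree_iff (M : X.Modules) :
    FlatMod.IsFinLocFree M ↔ ∀ x : X, ∃ U : X.Opens, x ∈ U ∧ FreeNear M U := by
  refine forall_congr' fun x => ⟨?_, ?_⟩
  · rintro ⟨U, n, hx, ⟨i⟩⟩
    exact ⟨U, hx, n, ⟨(Scheme.Modules.restrictFunctorIsoPullback U.ι).symm.app M ≪≫ i⟩⟩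
  · rintro ⟨U, hx, n, ⟨i⟩⟩
    exact ⟨U, n, hx, ⟨(Scheme.Modules.restrictFunctorIsoPullback U.ι).app M ≪≫ i⟩⟩

lemma isFinLocFree_of_iso {M N : X.Modules} (e : M ≅ N) (h : FlatMod.IsFinLocFree M) :
    FlatMod.IsFinLocFree N :=
  (isFinLocFree_iff N).2 fun x => by
    obtain ⟨U, hx, hU⟩ := (isFinLocFree_iff M).1 h x
    exact ⟨U, hx, IsFreeFin.of_iso ((Scheme.Modules.pullback U.ι).mapIso e) hU⟩

/-- A finite sum of finite locally free modules is finite locally free. -/
theorem isFinLocFree_sigma {J : Type} [Finite J] (M : J → X.Modules)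
    (h : ∀ j, FlatMod.IsFinLocFree (M j)) : FlatMod.IsFinLocFree (∐ M) :=
  (isFinLocFree_iff _).2 fun x => by
    choose U hx hU using fun j => (isFinLocFree_iff (M j)).1 (h j) x
    haveI := Fintype.ofFinite J
    refine ⟨Finset.univ.inf U, by simpa [← SetLike.mem_coe, TopologicalSpace.Opens.coe_finset_inf] using hx, ?_⟩
    haveI := preservesColimitsOfSize_shrink.{0, u, 0, u}
      (Scheme.Modules.pullback (Finset.univ.inf U).ι)
    exact IsFreeFin.of_iso (PreservesCoproduct.iso (Scheme.Modules.pullback _) M).symm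
      (IsFreeFin.sigma _ fun j => (hU j).mono (Finset.inf_le (Finset.mem_univ j)))

/-- The tensor product of finite locally free modules is finite locally free. -/
theorem isFinLocFree_tensor {M N : X.Modules} (hM : FlatMod.IsFinLocFree M)
    (hN : FlatMod.IsFinLocFree N) :
    FlatMod.IsFinLocFree (((DCoh.tensorBi (X := X)).obj M).obj N) :=
  (isFinLocFree_iff _).2 fun x => by
    obtain ⟨U, hx, hU⟩ := (isFinLocFree_iff M).1 hM x
    obtain ⟨V, hx', hV⟩ := (isFinLocFree_iff N).1 hN x
    exact ⟨U ⊓ V, ⟨hx, hx'⟩, IsFreeFin.of_iso ((pullTensorLIso (U ⊓ V).ι N).app M).symm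
      (IsFreeFin.tensor (hU.mono inf_le_left) (hV.mono inf_le_right))⟩

/-- The tensor product of strictly perfect complexes is strictly perfect. -/
theorem isStrictlyPerfect_tensorCx {E S : CochainComplex X.Modules ℤ}
    (hE : DCoh.IsStrictlyPerfect E) (hS : DCoh.IsStrictlyPerfect S) :
    DCoh.IsStrictlyPerfect (((DCoh.tensorCx (X := X)).obj E).obj S) := by
  obtain ⟨⟨a, b, hab⟩, hEf⟩ := hE
  obtain ⟨⟨c, d, hcd⟩, hSf⟩ := hS
  have hz : ∀ p q : ℤ, (p < a ∨ b < p) ∨ (q < c ∨ d < q) →
      IsZero (((DCoh.tensorBi (X := X)).obj (E.X p)).obj (S.X q)) := fun p q h => by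
    rcases h with h | h
    · exact ((DCoh.tensorBi (X := X)).flip.obj (S.X q)).map_isZero (hab p h)
    · exact ((DCoh.tensorBi (X := X)).obj (E.X p)).map_isZero (hcd q h)
  refine ⟨⟨a + c, b + d, fun n hn => ?_⟩, fun n => ?_⟩
  · rw [IsZero.iff_id_eq_zero]
    refine HomologicalComplex.mapBifunctor.hom_ext fun p q h => (hz p q ?_).eq_of_src _ _
    have : p + q = n := h
    omega
  · let J := {p : ℤ // p ∈ Finset.Icc a b}
    let inj : (∐ fun p : J => ((DCoh.tensorBi (X := X)).obj (E.X p.1)).obj (S.X (n - p.1))) ⟶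
        (((DCoh.tensorCx (X := X)).obj E).obj S).X n :=
      Sigma.desc fun p => HomologicalComplex.ιMapBifunctor E S (DCoh.tensorBi (X := X))
        (ComplexShape.up ℤ) p.1 (n - p.1) n (show p.1 + (n - p.1) = n by omega)
    let proj : (((DCoh.tensorCx (X := X)).obj E).obj S).X n ⟶
        ∐ fun p : J => ((DCoh.tensorBi (X := X)).obj (E.X p.1)).obj (S.X (n - p.1)) :=
      HomologicalComplex.mapBifunctorDesc fun p q h =>
        if hp : p ∈ Finset.Icc a b then
          eqToHom (by rw [show n - p = q by have : p + q = n := h; omega]) ≫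
            Sigma.ι (fun p : J => ((DCoh.tensorBi (X := X)).obj (E.X p.1)).obj (S.X (n - p.1))) ⟨p, hp⟩
        else 0
    refine isFinLocFree_of_iso ⟨inj, proj, ?_, ?_⟩ (isFinLocFree_sigma _ fun p : J =>
      isFinLocFree_tensor (hEf p.1) (hSf _))
    · refine Sigma.hom_ext _ _ fun p => ?_
      erw [colimit.ι_desc_assoc, HomologicalComplex.ι_mapBifunctorDesc]
      rw [dif_pos p.2, eqToHom_refl, Category.id_comp, Category.comp_id]
    · refine HomologicalComplex.mapBifunctor.hom_ext fun p q h => ?_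
      by_cases hp : p ∈ Finset.Icc a b
      · obtain rfl : q = n - p := by have : p + q = n := h; omega
        erw [HomologicalComplex.ι_mapBifunctorDesc_assoc]
        rw [dif_pos hp, eqToHom_refl, Category.id_comp]
        erw [Category.comp_id]
        exact Sigma.ι_desc _ _
      · exact (hz p q (Or.inl (by rw [Finset.mem_Icc] at hp; omega))).eq_of_src _ _

end Groth.Agent.H16Derived.KFlat.Stalk
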