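import Groth.Agent.H16Derived.KFlat.SheafAssoc
import Groth.Agent.H16Derived.AssocNat

/-!
# Associativity of the derived tensor product with complexes; internal RHom adjunctions
-/

set_option autoImplicit false
set_option linter.style.haveILetI false

universe u

open CategoryTheory CategoryTheory.Limits CategoryTheory.Functor AlgebraicGeometry

attribute [local instance] HasDerivedCategory.standard

namespace Groth.Agent.H16Derived.KFlat.Stalk

variable {X : Scheme.{u}}

/-- The associator of `⊗` on O_X-modules. -/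
noncomputable def sheafAssoc :
    bifunctorComp₁₂ (DCoh.tensorBi (X := X)) (DCoh.tensorBi (X := X)) ≅
      bifunctorComp₂₃ (DCoh.tensorBi (X := X)) (DCoh.tensorBi (X := X)) :=
  H15Site.ModTensor.tAssoc (O := X.sheaf)

instance hasGood₁₂ (K₁ K₂ K₃ : CochainComplex X.Modules ℤ) :
    HomologicalComplex.HasGoodTrifunctor₁₂Obj (DCoh.tensorBi (X := X)) (DCoh.tensorBi (X := X))
      K₁ K₂ K₃ (ComplexShape.up ℤ) (ComplexShape.up ℤ) := fun _ i₃ =>
  have := preservesColimitsOfSize_shrink.{0, u, 0, u} ((DCoh.tensorBi (X := X)).flip.obj (K₃.X i₃))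
  inferInstance

instance hasGood₂₃ (K₁ K₂ K₃ : CochainComplex X.Modules ℤ) :
    HomologicalComplex.HasGoodTrifunctor₂₃Obj (DCoh.tensorBi (X := X)) (DCoh.tensorBi (X := X))
      K₁ K₂ K₃ (ComplexShape.up ℤ) (ComplexShape.up ℤ) (ComplexShape.up ℤ) := fun i₁ _ =>
  have := preservesColimitsOfSize_shrink.{0, u, 0, u} ((DCoh.tensorBi (X := X)).obj (K₁.X i₁))
  inferInstance

/-- `(- ⊗ K) ⊗ L ≅ - ⊗ (K ⊗ L)`. -/
noncomputable def tensorCxAssocNatIso (K L : CochainComplex X.Modules ℤ) :
    (DCoh.tensorCx (X := X)).flip.obj K ⋙ (DCoh.tensorCx (X := X)).flip.obj L ≅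
      (DCoh.tensorCx (X := X)).flip.obj (((DCoh.tensorCx (X := X)).obj K).obj L) :=
  NatIso.ofComponents
    (fun P => HomologicalComplex.mapBifunctorAssociator (sheafAssoc (X := X)) P K L
      (ComplexShape.up ℤ) (ComplexShape.up ℤ) (ComplexShape.up ℤ))
    (fun φ => AssocNat.naturality (sheafAssoc (X := X)) φ K L
      (ComplexShape.up ℤ) (ComplexShape.up ℤ) (ComplexShape.up ℤ))

/-- The counit of `- ⊗^L E`. -/
noncomputable abbrev ltensorCounit (E : CochainComplex X.Modules ℤ) [DCoh.HasLTensorCx E] :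
    DerivedCategory.Q ⋙ DCoh.LTensorCx E ⟶ DCoh.tensorCxQ E :=
  (DCoh.tensorCxQ E).totalLeftDerivedCounit DerivedCategory.Q
    (HomologicalComplex.quasiIso X.Modules (ComplexShape.up ℤ))

/-- `(- ⊗^L K) ⊗^L L ≅ - ⊗^L (K ⊗ L)` for a K-flat `L`. -/
theorem nonempty_ltensorCx_assoc (K L : CochainComplex X.Modules ℤ) (hL : DCoh.IsKFlat L)
    [DCoh.HasLTensorCx K] [DCoh.HasLTensorCx L]
    [DCoh.HasLTensorCx (((DCoh.tensorCx (X := X)).obj K).obj L)] :
    Nonempty (DCoh.LTensorCx K ⋙ DCoh.LTensorCx L ≅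
      DCoh.LTensorCx (((DCoh.tensorCx (X := X)).obj K).obj L)) := by
  let KL := ((DCoh.tensorCx (X := X)).obj K).obj L
  let G := DCoh.LTensorCx K ⋙ DCoh.LTensorCx L
  let β : DerivedCategory.Q ⋙ G ⟶ DCoh.tensorCxQ KL :=
    (Functor.associator _ _ _).inv ≫ whiskerRight (ltensorCounit K) (DCoh.LTensorCx L) ≫
      (Functor.associator _ _ _).hom ≫
      whiskerLeft ((DCoh.tensorCx (X := X)).flip.obj K) (ltensorCounit L) ≫
      (Functor.associator _ _ _).inv ≫ whiskerRight (tensorCxAssocNatIso K L).hom DerivedCategory.Q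
  have hβ : ∀ P, IsKFlat (DCoh.tensorBi (X := X)).flip P → IsIso (β.app P) := fun P hP => by
    haveI := isIso_LTensorCx_counit K P hP
    haveI := isIso_LTensorCx_counit' L (((DCoh.tensorCx (X := X)).flip.obj K).obj P) hL
    simp only [β, NatTrans.comp_app, associator_hom_app, associator_inv_app, whiskerRight_app,
      whiskerLeft_app]
    infer_instance
  haveI : G.IsLeftDerivedFunctor β (HomologicalComplex.quasiIso X.Modules (ComplexShape.up ℤ)) := by
    haveI := hasLTensorCx KL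
    let l := (DCoh.LTensorCx KL).leftDerivedLift (ltensorCounit KL)
      (HomologicalComplex.quasiIso X.Modules (ComplexShape.up ℤ)) G β
    have hl : whiskerLeft DerivedCategory.Q l ≫ ltensorCounit KL = β :=
      Functor.leftDerived_fac _ _ _ _ _
    haveI : ∀ Y : DCoh.D X, IsIso (l.app Y) := fun Y => by
      let P := DerivedCategory.Q.objPreimage Y
      have hi : IsIso (l.app (DerivedCategory.Q.obj ((res (X := X)).obj P))) := by
        haveI := hβ _ (isKFlat_flip_res P)
        haveI := isIso_LTensorCx_counit KL _ (isKFlat_flip_res P)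
        exact IsIso.of_isIso_fac_right (congr_app hl ((res (X := X)).obj P))
      haveI := isIso_Q_map ((resψ (X := X)).app P) (quasiIso_resψ P)
      exact (NatTrans.isIso_app_iff_of_iso l
        (asIso (DerivedCategory.Q.map ((resψ (X := X)).app P)) ≪≫
          DerivedCategory.Q.objObjPreimageIso Y)).1 hi
    haveI : IsIso l := NatIso.isIso_of_isIso_app l
    exact (Functor.isLeftDerivedFunctor_iff_of_iso G (DCoh.LTensorCx KL) (ltensorCounit KL) β
      (HomologicalComplex.quasiIso X.Modules (ComplexShape.up ℤ)) (asIso l).symm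
      (by rw [← hl]; simp [← Category.assoc, ← whiskerLeft_comp])).1 inferInstance
  exact ⟨Functor.leftDerivedUnique (DCoh.LTensorCx KL) G β (ltensorCounit KL)
    (HomologicalComplex.quasiIso X.Modules (ComplexShape.up ℤ))⟩

/-- `RHom(K ⊗ L, -) ≅ RHom(K, RHom(L, -))` for a K-flat `L`. -/
theorem nonempty_rsheafHom_tensorCx (K L : CochainComplex X.Modules ℤ) (hL : DCoh.IsKFlat L)
    [DCoh.HasLTensorCx K] [DCoh.HasRSheafHom K] [DCoh.HasLTensorCx L] [DCoh.HasRSheafHom L]
    [DCoh.HasLTensorCx (((DCoh.tensorCx (X := X)).obj K).obj L)]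
    [DCoh.HasRSheafHom (((DCoh.tensorCx (X := X)).obj K).obj L)] :
    Nonempty (DCoh.RSheafHom L ⋙ DCoh.RSheafHom K ≅
      DCoh.RSheafHom (((DCoh.tensorCx (X := X)).obj K).obj L)) := by
  obtain ⟨e⟩ := nonempty_ltensorCx_assoc K L hL
  exact ⟨(((DCoh.RSheafHomAdj K).comp (DCoh.RSheafHomAdj L)).ofNatIsoLeft e).rightAdjointUniq
    (DCoh.RSheafHomAdj _)⟩

end Groth.Agent.H16Derived.KFlat.Stalk
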