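import Groth.Agent.H16Derived.KFlat.PerfCohSingle
import Groth.Agent.H10Coh.OpenSpec

/-!
# Pseudo-coherent objects on Noetherian schemes
-/

set_option autoImplicit false
set_option linter.style.haveILetI false

universe u

open CategoryTheory CategoryTheory.Limits AlgebraicGeometry Pretriangulated

attribute [local instance] HasDerivedCategory.standard

namespace Groth.Agent.H16Derived.KFlat.Stalk

variable {X U : Scheme.{u}}

/-- A module vanishing on an open cover is zero. -/
theorem isZero_of_isZero_restrict {M : X.Modules}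
    (h : ∀ x : X, ∃ V : X.Opens, x ∈ V ∧ IsZero ((Scheme.Modules.restrictFunctor V.ι).obj M)) :
    IsZero M := isZero_of_stalk fun x => by
  obtain ⟨V, hx, hV⟩ := h x
  have hz : IsZero (TopCat.Presheaf.stalk (C := Ab.{u}) M.presheaf x) := by
    refine IsZero.of_iso ?_ ((Scheme.Modules.restrictStalkNatIso V.ι ⟨x, hx⟩).app M).symm
    exact (Scheme.Modules.toPresheaf _ ⋙ TopCat.Presheaf.stalkFunctor Ab.{u}
      (⟨x, hx⟩ : (V : Scheme.{u}))).map_isZero hV
  haveI := AddCommGrpCat.subsingleton_of_isZero hz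
  haveI : Subsingleton ((DerSch.stalkFunctor X x).obj M) :=
    inferInstanceAs (Subsingleton (TopCat.Presheaf.stalk (C := Ab.{u}) M.presheaf x))
  exact ModuleCat.isZero_of_subsingleton _

/-- Quasi-coherence is local. -/
theorem isQCoh_of_local (M : X.Modules)
    (h : ∀ x : X, ∃ V : X.Opens, x ∈ V ∧ Coh.IsQCoh (M.restrict V.ι)) : Coh.IsQCoh M := by
  have key : ∀ x : X, ∃ (W : X.Opens) (_ : x ∈ W), Nonempty (M.restrict W.ι).Presentation := by
    intro x
    obtain ⟨V, hx, hV⟩ := h x
    haveI : (M.restrict V.ι).IsQuasicoherent := hV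
    obtain ⟨I, U, P, hU, -⟩ := Scheme.Modules.exists_isOpenCover_presentation (M.restrict V.ι)
    obtain ⟨i, hi⟩ := TopologicalSpace.Opens.mem_iSup.1
      (hU.ge (TopologicalSpace.Opens.mem_top (⟨x, hx⟩ : (V : Scheme.{u}))))
    let k := ((U i).ι ≫ V.ι).isoOpensRange.inv
    exact ⟨((U i).ι ≫ V.ι).opensRange, ⟨⟨⟨x, hx⟩, hi⟩, rfl⟩, ⟨H10Coh.presOfIso
      ((Scheme.Modules.restrictFunctor k).mapIso ((Scheme.Modules.restrictFunctorComp (U i).ι V.ι).symm.app M) ≪≫
          (Scheme.Modules.restrictFunctorComp k ((U i).ι ≫ V.ι)).symm.app M ≪≫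
          (Scheme.Modules.restrictFunctorCongr (Scheme.Hom.isoOpensRange_inv_comp _)).app M)
        (Scheme.Modules.presentationRestrict k (P i))⟩⟩
  choose W hW P using key
  exact H10Coh.isQuasicoherent_of_presentations M W
    (eq_top_iff.2 fun x _ => TopologicalSpace.Opens.mem_iSup.2 ⟨x, hW x⟩) fun x => (P x).some

/-- An object is bounded above when it is so locally and the scheme is quasi-compact. -/
theorem exists_isLE_of_local [CompactSpace X] {K : DCoh.D X}
    (h : ∀ x : X, ∃ (V : X.Opens) (n : ℤ), x ∈ V ∧ DerivedCategory.IsLE ((rd V.ι).obj K) n) :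
    ∃ b : ℤ, K.IsLE b := by
  choose V n hx hn using h
  obtain ⟨s, hs⟩ := isCompact_univ.elim_finite_subcover (fun x => (V x : Set X))
    (fun x => (V x).isOpen) fun x _ => Set.mem_iUnion.2 ⟨x, hx x⟩
  obtain ⟨b, hb⟩ := (s.image n).bddAbove
  refine ⟨b, (DerivedCategory.isLE_iff _ _).2 fun i hi => ?_⟩
  refine isZero_of_isZero_restrict fun x => ?_
  obtain ⟨y, hy, hxy⟩ := Set.mem_iUnion₂.1 (hs (Set.mem_univ x))
  haveI := hn y
  exact ⟨V y, hxy, (DerivedCategory.isZero_of_isLE ((rd (V y).ι).obj K) (n y) i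
    (lt_of_le_of_lt (hb (Finset.mem_coe.2 (Finset.mem_image_of_mem n hy))) hi)).of_iso
      (homologyRdIso (V y).ι K i).symm⟩

theorem HasPerfModel.exists_isGE {j : U ⟶ X} [IsOpenImmersion j] {K : DCoh.D X}
    (h : HasPerfModel j K) : ∃ n : ℤ, DerivedCategory.IsGE ((rd j).obj K) n := by
  obtain ⟨E, ⟨⟨p, q, hpq⟩, -⟩, ⟨e⟩⟩ := h
  haveI : E.IsStrictlyGE p := (CochainComplex.isStrictlyGE_iff _ _).2 fun i hi => hpq i (Or.inl hi)
  exact ⟨p, (DerivedCategory.TStructure.t).isGE_of_iso e p⟩

theorem exists_isGE_of_local [CompactSpace X] {K : DCoh.D X}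
    (h : ∀ x : X, ∃ (V : X.Opens) (n : ℤ), x ∈ V ∧ DerivedCategory.IsGE ((rd V.ι).obj K) n) :
    ∃ a : ℤ, K.IsGE a := by
  choose V n hx hn using h
  obtain ⟨s, hs⟩ := isCompact_univ.elim_finite_subcover (fun x => (V x : Set X))
    (fun x => (V x).isOpen) fun x _ => Set.mem_iUnion.2 ⟨x, hx x⟩
  obtain ⟨b, hb⟩ := (s.image n).bddBelow
  refine ⟨b, (DerivedCategory.isGE_iff _ _).2 fun i hi => ?_⟩
  refine isZero_of_isZero_restrict fun x => ?_
  obtain ⟨y, hy, hxy⟩ := Set.mem_iUnion₂.1 (hs (Set.mem_univ x))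
  haveI := hn y
  exact ⟨V y, hxy, (DerivedCategory.isZero_of_isGE ((rd (V y).ι).obj K) (n y) i
    (lt_of_lt_of_le hi (hb (Finset.mem_coe.2 (Finset.mem_image_of_mem n hy))))).of_iso
      (homologyRdIso (V y).ι K i).symm⟩

/-- Finite locally free modules are coherent. -/
theorem isCoh_of_isFinLocFree {L : X.Modules} (h : FlatMod.IsFinLocFree L) : Coh.IsCoh L :=
  ⟨H8Props.FinLocFree.isQCoh_of_isFinLocFree L h,
    H29Fitt.isFT_of_isFP L (H8Props.FinLocFree.isFP_of_isFinLocFree L h)⟩

/-- Cohomology of strictly perfect complexes on locally Noetherian schemes is coherent. -/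
theorem isCoh_homology [IsLocallyNoetherian X] {P : CochainComplex X.Modules ℤ}
    (hP : DCoh.IsStrictlyPerfect P) (i : ℤ) : Coh.IsCoh (P.homology i) := by
  have hc : Coh.IsCoh (P.cycles i) :=
    H10Coh.isCoh_of_iso ((kernelIsKernel (P.d i (i + 1))).conePointUniqueUpToIso
        (P.cyclesIsKernel i (i + 1) (by simp)))
      (H10Coh.isCoh_kernel _ (isCoh_of_isFinLocFree (hP.2 _)) (isCoh_of_isFinLocFree (hP.2 _)).1)
  exact H10Coh.isCoh_of_iso ((cokernelIsCokernel (P.toCycles (i - 1) i)).coconePointUniqueUpToIso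
      (P.homologyIsCokernel (i - 1) i (by simp)))
    (H10Coh.isCoh_cokernel _ (isCoh_of_isFinLocFree (hP.2 _)).1 hc)

/-- Coherent modules on locally Noetherian schemes are pseudo-coherent. -/
theorem isPseudoCoherentD_inD_of_isCoh (n : ℕ) : ∀ {X : Scheme.{u}} [IsLocallyNoetherian X]
    {M : X.Modules}, Coh.IsCoh M → DCoh.IsPseudoCoherentD (-(n : ℤ)) (DCoh.inD X M) := by
  induction n with
  | zero => intro X _ M hM; simpa using isPseudoCoherentD_inD_of_isFT hM.2
  | succ n ih =>
    intro X _ M hM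
    refine isPseudoCoherentD_of_rd fun x => ?_
    obtain ⟨V, L, p, hx, hL, hp⟩ := exists_epi_finLocFree hM.2 x
    haveI := hp
    refine ⟨V, hx, isPseudoCoherentD_of_iso (rdInD V.ι M).symm ?_⟩
    let S := ShortComplex.mk (kernel.ι p) p (kernel.condition p)
    have hS : S.ShortExact := { exact := ShortComplex.exact_of_f_is_kernel _ (kernelIsKernel p) }
    have hK : Coh.IsCoh (kernel p) :=
      H10Coh.isCoh_kernel p (isCoh_of_isFinLocFree hL) (H10Coh.isCoh_restrict V.ι M hM).1
    exact isPseudoCoherentD_obj₃ hS.singleTriangle_distinguished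
      (by
        have h := ih hK
        have e : -((n + 1 : ℕ) : ℤ) + 1 = -(n : ℤ) := by omega
        rw [e]; exact h)
      (isPseudoCoherentD_of_isPerfect (isPerfect_inD hL) _)

theorem isPseudoCoherentD_mono {m m' : ℤ} {K : DCoh.D X} (h : DCoh.IsPseudoCoherentD m K)
    (hm : m ≤ m') : DCoh.IsPseudoCoherentD m' K := by
  rw [isPseudoCoherentD_iff] at h ⊢
  exact fun x => (h x).imp fun V hV => ⟨hV.1, hV.2.mono_deg hm⟩

theorem isPseudoCoherentD_inD_of_isCoh' [IsLocallyNoetherian X] {M : X.Modules} (hM : Coh.IsCoh M)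
    (m : ℤ) : DCoh.IsPseudoCoherentD m (DCoh.inD X M) :=
  isPseudoCoherentD_mono (isPseudoCoherentD_inD_of_isCoh (-m).toNat hM) (by omega)

/-- A module placed in degree `b`. -/
noncomputable def singleShiftIso (N : X.Modules) (b : ℤ) :
    (DCoh.inD X N)⟦-b⟧ ≅ (DerivedCategory.singleFunctor X.Modules b).obj N :=
  ((DerivedCategory.singleFunctors X.Modules).shiftIso (-b) b 0 (by omega)).app N

/-- Cohomology of a module placed in degree `b`. -/
noncomputable def hdSingle (N : X.Modules) (b : ℤ) :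
    DCoh.HD ((DerivedCategory.singleFunctor X.Modules b).obj N) b ≅ N :=
  (DerivedCategory.homologyFunctor X.Modules b).mapIso
      ((DerivedCategory.singleFunctorIsoCompQ X.Modules b).app N) ≪≫
    (DerivedCategory.homologyFunctorFactors X.Modules b).app _ ≪≫
    (HomologicalComplex.homologyFunctorSingleIso X.Modules (ComplexShape.up ℤ) b).app N

/-- Bounded above objects with pseudo-coherent cohomology sheaves in degrees `≥ m`. -/
theorem isPseudoCoherentD_of_homology (m : ℤ) (k : ℕ) :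
    ∀ {K : DCoh.D X}, K.IsLE (m - 1 + k) →
      (∀ i, m ≤ i → ∀ n, DCoh.IsPseudoCoherentD n (DCoh.inD X (DCoh.HD K i))) →
        DCoh.IsPseudoCoherentD m K := by
  induction k with
  | zero =>
    intro K hK _
    haveI := hK
    exact isPseudoCoherentD_of_isLE (m - 1 + ((0 : ℕ) : ℤ)) m (by omega)
  | succ k ih =>
    intro K hK h
    haveI := hK
    obtain ⟨A, B, hA, hB, f, g, w, hT⟩ :=
      (DerivedCategory.TStructure.t).exists_triangle K (m - 1 + k) (m + k) (by omega)
    haveI : DerivedCategory.IsLE A (m - 1 + k) := ⟨hA⟩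
    haveI : DerivedCategory.IsGE B (m + k) := ⟨hB⟩
    let H := DerivedCategory.homologyFunctor X.Modules
    have hfi : ∀ i, i ≤ m - 1 + k → IsIso ((H i).map f) := fun i hi => by
      haveI : Mono ((H i).map f) :=
        (DerivedCategory.HomologySequence.mono_homologyMap_mor₁_iff _ hT (i - 1) i (by omega)).2
          ((DerivedCategory.isZero_of_isGE B (m + k) (i - 1) (by omega)).eq_of_src _ _)
      haveI : Epi ((H i).map f) :=
        (DerivedCategory.HomologySequence.epi_homologyMap_mor₁_iff _ hT i).2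
          ((DerivedCategory.isZero_of_isGE B (m + k) i (by omega)).eq_of_tgt _ _)
      exact isIso_of_mono_of_epi _
    have hgi : ∀ i, m + k ≤ i → IsIso ((H i).map g) := fun i hi => by
      have hT' := rot_of_distTriang _ hT
      haveI : Mono ((H i).map g) :=
        (DerivedCategory.HomologySequence.mono_homologyMap_mor₁_iff _ hT' (i - 1) i (by omega)).2
          (IsZero.eq_of_src ((DerivedCategory.isZero_of_isLE A (m - 1 + k) i (by omega)).of_iso
            (((H 0).shiftIso 1 (i - 1) i (by omega)).app A)) _ _)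
      haveI : Epi ((H i).map g) :=
        (DerivedCategory.HomologySequence.epi_homologyMap_mor₁_iff _ hT' i).2
          (IsZero.eq_of_tgt ((DerivedCategory.isZero_of_isLE A (m - 1 + k) (i + 1) (by omega)).of_iso
            (((H 0).shiftIso 1 i (i + 1) (by omega)).app A)) _ _)
      exact isIso_of_mono_of_epi _
    haveI : DerivedCategory.IsLE B (m + k) := (DerivedCategory.isLE_iff _ _).2 fun i hi => by
      haveI := hgi i hi.le
      exact (DerivedCategory.isZero_of_isLE K (m - 1 + (k + 1 : ℕ)) i (by omega)).of_iso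
        (asIso ((H i).map g)).symm
    obtain ⟨N, ⟨eN⟩⟩ := B.exists_iso_singleFunctor_obj_of_isGE_of_isLE (m + k)
    haveI := hgi (m + k) le_rfl
    have eH : DCoh.HD K (m + k) ≅ N :=
      asIso ((H (m + k)).map g) ≪≫ (H (m + k)).mapIso eN ≪≫ hdSingle N (m + k)
    have hBpc : DCoh.IsPseudoCoherentD m B :=
      isPseudoCoherentD_of_iso (singleShiftIso N (m + k) ≪≫ eN.symm)
        (isPseudoCoherentD_shift (isPseudoCoherentD_of_iso
          ((DerivedCategory.singleFunctor X.Modules 0).mapIso eH) (h (m + k) (by omega) (-(k : ℤ))))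
          (-(m + k)) m (by omega))
    have hApc : DCoh.IsPseudoCoherentD m A := ih ‹_› fun i hi n => by
      by_cases hik : i ≤ m - 1 + k
      · haveI := hfi i hik
        exact isPseudoCoherentD_of_iso ((DerivedCategory.singleFunctor X.Modules 0).mapIso
          (asIso ((H i).map f)).symm) (h i hi n)
      · exact isPseudoCoherentD_of_isPerfect (isPerfect_inD (isFinLocFree_of_isZero
          (DerivedCategory.isZero_of_isLE A (m - 1 + k) i (by omega)))) n
    exact isPseudoCoherentD_obj₃ (inv_rot_of_distTriang _ hT)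
      (isPseudoCoherentD_shift hBpc (-1) (m + 1) (by omega)) hApc

/-- Pseudo-coherence in terms of cohomology on a Noetherian scheme. -/
theorem isPseudoCoherentD_iff_isCoh [IsLocallyNoetherian X] [CompactSpace X] {E : DCoh.D X}
    (hE : DCoh.IsQCohD E) (m : ℤ) :
    DCoh.IsPseudoCoherentD m E ↔
      (∀ i, m ≤ i → Coh.IsCoh (DCoh.HD E i)) ∧ ∃ b : ℤ, E.IsLE b := by
  refine ⟨fun h => ⟨fun i hi => ⟨hE i, ?_⟩, ?_⟩, fun ⟨hc, b, hb⟩ => ?_⟩
  · refine isFT_of_local fun x => ?_
    obtain ⟨V, hx, P, α, hP, hα⟩ := (isPseudoCoherentD_iff _ _).1 h x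
    refine ⟨_, V.ι, inferInstance, ⟨⟨x, hx⟩, rfl⟩, ?_⟩
    haveI : Epi ((DerivedCategory.homologyFunctor _ i).map α) := by
      rcases eq_or_lt_of_le hi with rfl | hlt
      · exact hα.2
      · haveI := hα.1 i hlt; infer_instance
    exact isFT_of_epi (((DerivedCategory.homologyFunctorFactors _ i).inv.app P ≫
      (DerivedCategory.homologyFunctor _ i).map α) ≫ (homologyRdIso V.ι E i).hom)
      (isCoh_homology hP i).2
  · exact exists_isLE_of_local fun x => by
      obtain ⟨V, hx, hV⟩ := (isPseudoCoherentD_iff _ _).1 h x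
      obtain ⟨n, hn⟩ := hV.exists_isLE
      exact ⟨V, n, hx, hn⟩
  · refine isPseudoCoherentD_of_homology m (b - (m - 1)).toNat
      ((DerivedCategory.isLE_iff _ _).2 fun i hi => DerivedCategory.isZero_of_isLE E b i (by omega))
      fun i hi n => isPseudoCoherentD_inD_of_isCoh' (hc i hi) n

/-- Perfect objects on a Noetherian scheme. -/
theorem isCohD_and_bounded_of_isPerfect [IsLocallyNoetherian X] [CompactSpace X] {E : DCoh.D X}
    (hE : DCoh.IsPerfect E) : DCoh.IsCohD E ∧ ∃ a b : ℤ, E.IsGE a ∧ E.IsLE b := by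
  have h := (isPerfect_iff E).1 hE
  refine ⟨fun i => ?_, ?_⟩
  · choose V hx P hP θ using h
    have e : ∀ x, (P x).homology i ≅ (DCoh.HD E i).restrict (V x).ι := fun x =>
      ((DerivedCategory.homologyFunctorFactors _ i).app (P x)).symm ≪≫
        (DerivedCategory.homologyFunctor _ i).mapIso (θ x).some ≪≫ homologyRdIso (V x).ι E i
    refine ⟨isQCoh_of_local _ fun x => ⟨V x, hx x,
      (H10Coh.isCoh_of_iso (e x) (isCoh_homology (hP x) i)).1⟩, isFT_of_local fun x => ?_⟩
    exact ⟨_, (V x).ι, inferInstance, ⟨⟨x, hx x⟩, rfl⟩,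
      (H10Coh.isCoh_of_iso (e x) (isCoh_homology (hP x) i)).2⟩
  · obtain ⟨a, ha⟩ := exists_isGE_of_local (K := E) fun x => by
      obtain ⟨V, hx, hV⟩ := h x
      obtain ⟨n, hn⟩ := hV.exists_isGE
      exact ⟨V, n, hx, hn⟩
    obtain ⟨b, hb⟩ := exists_isLE_of_local (K := E) fun x => by
      obtain ⟨V, hx, hV⟩ := h x
      obtain ⟨n, hn⟩ := (hV.hasApprox 0).exists_isLE
      exact ⟨V, n, hx, hn⟩
    exact ⟨a, b, ha, hb⟩

end Groth.Agent.H16Derived.KFlat.Stalk
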