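import Groth.Agent.H16Derived.KFlat.PerfNoeth
import Groth.Agent.H05EGA4.GlobalDim
import Groth.Agent.H05EGA4.RegularPD
import Groth.Agent.H05EGA4.Regular
import Groth.Agent.H8Props.FinLocFree.Global

/-!
# Bounded coherent objects on regular schemes are perfect
-/

set_option autoImplicit false
set_option linter.style.haveILetI false

universe u

open CategoryTheory CategoryTheory.Limits AlgebraicGeometry Pretriangulated TopologicalSpace

attribute [local instance] HasDerivedCategory.standard

namespace Groth.Agent.H16Derived.KFlat.Stalk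

variable {X U : Scheme.{u}}

/-- A finitely presented module with free stalk at a point is free nearby. -/
theorem exists_isFinLocFree_nhd {M : X.Modules} (hfp : CohB1.IsFP M) (x : X)
    (hfl : FlatMod.IsFlatAt M x) :
    ∃ V : X.Opens, x ∈ V ∧ FlatMod.IsFinLocFree (M.restrict V.ι) := by
  have hM := H29Fitt.isQCoh_of_isFP M hfp
  obtain ⟨_, ⟨W, hW : IsAffineOpen W, rfl⟩, hxW, -⟩ :=
    X.isBasis_affineOpens.exists_subset_of_mem_open (Set.mem_univ x) isOpen_univ
  haveI := H8Props.FinLocFree.finitePresentation_sections M hfp hW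
  let P := (hW.primeIdealOf ⟨x, hxW⟩).asIdeal
  haveI : Module.Flat Γ(X, W) (LocalizedModule P.primeCompl Γ(M, W)) := by
    letI := TopCat.Presheaf.algebra_section_stalk X.presheaf (⟨x, hxW⟩ : W)
    letI := Module.compHom (M.presheaf.stalk x) (algebraMap Γ(X, W) (X.presheaf.stalk x))
    haveI : IsScalarTower Γ(X, W) (X.presheaf.stalk x) (M.presheaf.stalk x) :=
      .of_algebraMap_smul fun _ _ => rfl
    haveI := H29Fitt.isLocalizedModule_germLin M hM hW ⟨x, hxW⟩
    haveI : IsLocalization.AtPrime (X.presheaf.stalk x) P := hW.isLocalization_stalk ⟨x, hxW⟩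
    have h' : Module.Flat Γ(X, W) (M.presheaf.stalk x) :=
      (Module.flat_iff_of_isLocalization (X.presheaf.stalk x) P.primeCompl (M.presheaf.stalk x)).1 hfl
    exact Module.Flat.of_linearEquiv
      (IsLocalizedModule.iso P.primeCompl (H29Fitt.germLin M ⟨x, hxW⟩))
  haveI : Module.Flat (Localization.AtPrime P) (LocalizedModule P.primeCompl Γ(M, W)) :=
    (Module.flat_iff_of_isLocalization (Localization.AtPrime P) P.primeCompl _).2 inferInstance
  haveI : Module.Finite (Localization.AtPrime P) (LocalizedModule P.primeCompl Γ(M, W)) :=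
    Module.Finite.of_isLocalizedModule P.primeCompl (LocalizedModule.mkLinearMap P.primeCompl Γ(M, W))
  haveI : Module.Free (Localization.AtPrime P) (LocalizedModule P.primeCompl Γ(M, W)) :=
    Module.free_of_flat_of_isLocalRing
  obtain ⟨f, r, m, hf, hs, hi⟩ := H8Props.FinLocFree.exists_basis_upTo (M := Γ(M, W)) P
  haveI := H8Props.FinLocFree.isIso_basicHom M hM hW f m hs hi
  refine ⟨X.basicOpen f, ?_, ?_⟩
  · by_contra hn
    refine hf ((H29Blow.mem_primeIdealOf_iff hW ⟨x, hxW⟩ f).mpr fun hu => hn ?_)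
    exact (X.mem_basicOpen f x hxW).mpr hu
  · refine isFinLocFree_of_iso (asIso (H29Fitt.basicHom M f m)) ?_
    exact isFinLocFree_sigma _ fun _ => (isFinLocFree_iff _).2 fun _ =>
      ⟨⊤, trivial, isFreeFin_structureModule.pullback _⟩

/-- On an affine scheme a coherent module is a quotient of a finite locally free one. -/
theorem exists_epi_finLocFree_spec {R : CommRingCat.{u}} (M : (Spec R).Modules) (hM : Coh.IsCoh M) :
    ∃ (L : (Spec R).Modules) (p : L ⟶ M), FlatMod.IsFinLocFree L ∧ Epi p := by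
  haveI := hM.1
  have hfin : Module.Finite R ((H10Coh.ΓSpec R).obj M) :=
    @H10Coh.finite_ΓSpec _ M (@H10Coh.finite_sections _ M hM.1 hM.2 ⊤ (isAffineOpen_top _))
  obtain ⟨P, hP, -⟩ := @H10Coh.exists_finite_presentation_tilde _ _ hfin
  haveI := hP
  haveI := P.generators.epi
  refine ⟨_, P.generators.π ≫ (H10Coh.tildeIso M).hom, isFinLocFree_free P.generators.I, ?_⟩
  exact epi_comp' P.generators.epi (IsIso.epi_of_iso _)

/-- Coherent modules with stalk of finite projective dimension are perfect nearby. -/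
theorem exists_isPerfect_inD_nhd (n : ℕ) : ∀ {R : CommRingCat.{u}} [IsLocallyNoetherian (Spec R)]
    (M : (Spec R).Modules), Coh.IsCoh M → ∀ x : Spec R,
      HasProjectiveDimensionLT ((DerSch.stalkFunctor (Spec R) x).obj M) (n + 1) →
        ∃ V : (Spec R).Opens, x ∈ V ∧ HasPerfModel V.ι (DCoh.inD (Spec R) M) := by
  induction n with
  | zero =>
    intro R _ M hM x h
    haveI : Projective ((DerSch.stalkFunctor (Spec R) x).obj M) :=
      projective_iff_hasProjectiveDimensionLT_one.mpr h
    haveI := ((DerSch.stalkFunctor (Spec R) x).obj M).projective_of_module_projective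
    obtain ⟨V, hx, hV⟩ := exists_isFinLocFree_nhd (H10Coh.isFP_of_isCoh M hM) x
      (inferInstanceAs (Module.Flat _ ((DerSch.stalkFunctor (Spec R) x).obj M)))
    exact ⟨V, hx, _, isStrictlyPerfect_single hV, ⟨(inDIsoQ _).symm ≪≫ (rdInD V.ι M).symm⟩⟩
  | succ n ih =>
    intro R _ M hM x h
    obtain ⟨L, p, hL, hp⟩ := exists_epi_finLocFree_spec M hM
    haveI := hp
    let S := ShortComplex.mk (kernel.ι p) p (kernel.condition p)
    have hS : S.ShortExact := { exact := ShortComplex.exact_of_f_is_kernel _ (kernelIsKernel p) }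
    have hK : Coh.IsCoh (kernel p) := H10Coh.isCoh_kernel p (isCoh_of_isFinLocFree hL) hM.1
    have hSx := hS.map_of_exact (DerSch.stalkFunctor (Spec R) x)
    haveI : Projective ((DerSch.stalkFunctor (Spec R) x).obj L) := by
      haveI : Module.Free ((Spec R).presheaf.stalk x) ((DerSch.stalkFunctor (Spec R) x).obj L) :=
        H8Props.FinLocFree.free_stalk L hL x
      exact ModuleCat.projective_of_categoryTheory_projective _
    haveI : HasProjectiveDimensionLT (S.map (DerSch.stalkFunctor (Spec R) x)).X₂ 1 :=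
      inferInstanceAs (HasProjectiveDimensionLT ((DerSch.stalkFunctor (Spec R) x).obj L) 1)
    obtain ⟨V, hx, hV⟩ := ih (kernel p) hK x (hSx.hasProjectiveDimensionLT_X₁ (n + 1)
      (hasProjectiveDimensionLT_of_ge _ 1 (n + 1) (Nat.le_add_left 1 n)) h)
    obtain ⟨W, hxW, hW⟩ := HasPerfModel.exists_cone hS.singleTriangle_distinguished hV
      (⟨_, isStrictlyPerfect_single (isFinLocFree_of_iso
            ((Scheme.Modules.restrictFunctorIsoPullback V.ι).symm.app L) (isFinLocFree_pullback V.ι hL)),
          ⟨(inDIsoQ _).symm ≪≫ (rdInD V.ι L).symm⟩⟩ : HasPerfModel V.ι (DCoh.inD (Spec R) L)) hx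
    exact ⟨W, hxW, hW⟩

/-- Coherent modules on regular schemes are perfect. -/
theorem isPerfect_inD_of_isCoh [IsLocallyNoetherian X]
    (hreg : ∀ x : X, IsRegularLocalRing (X.presheaf.stalk x)) {M : X.Modules} (hM : Coh.IsCoh M) :
    DCoh.IsPerfect (DCoh.inD X M) := by
  refine isPerfect_of_local fun x => ?_
  obtain ⟨_, ⟨W, hW : IsAffineOpen W, rfl⟩, hxW, -⟩ :=
    X.isBasis_affineOpens.exists_subset_of_mem_open (Set.mem_univ x) isOpen_univ
  let j := hW.fromSpec
  obtain ⟨y, rfl⟩ : x ∈ Set.range j := hW.range_fromSpec.ge hxW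
  haveI : IsLocallyNoetherian (Spec Γ(X, W)) := isLocallyNoetherian_of_isOpenImmersion j
  haveI : IsRegularLocalRing ((Spec Γ(X, W)).presheaf.stalk y) :=
    haveI := hreg (j.base y)
    IsRegularLocalRing.of_ringEquiv (asIso (j.stalkMap y)).commRingCatIsoToRingEquiv
  obtain ⟨d, -, hd⟩ := H05EGA4.exists_pd_residueField ((Spec Γ(X, W)).presheaf.stalk y)
  obtain ⟨V, hy, E, hE, ⟨θ⟩⟩ := exists_isPerfect_inD_nhd d ((Scheme.Modules.restrictFunctor j).obj M)
    (H10Coh.isCoh_restrict j M hM) y (H05EGA4.hasProjectiveDimensionLT_of_residueField d hd _)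
  exact ⟨_, V.ι ≫ j, inferInstance, ⟨⟨y, hy⟩, rfl⟩, HasPerfModel.of_rd ⟨E, hE,
    ⟨θ ≪≫ (rd V.ι).mapIso (rdInD j M).symm⟩⟩⟩

/-- Bounded objects with perfect cohomology sheaves are perfect. -/
theorem isPerfect_of_homology (k : ℕ) : ∀ {K : DCoh.D X} (a : ℤ), K.IsGE a → K.IsLE (a - 1 + k) →
    (∀ i, DCoh.IsPerfect (DCoh.inD X (DCoh.HD K i))) → DCoh.IsPerfect K := by
  induction k with
  | zero =>
    intro K a hK hK' _
    haveI := hK
    haveI := hK'
    refine isPerfect_of_local fun x => ⟨_, (⊤ : X.Opens).ι, inferInstance, ⟨⟨x, trivial⟩, rfl⟩, ?_⟩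
    have hz : IsZero K := by
      rw [IsZero.iff_id_eq_zero]
      exact (DerivedCategory.TStructure.t).zero (𝟙 K) (a - 1 + ((0 : ℕ) : ℤ)) a (by omega)
    obtain ⟨Z, hZ⟩ := HasZeroObject.zero (C := CochainComplex ((⊤ : X.Opens) : Scheme.{u}).Modules ℤ)
    exact ⟨Z, isStrictlyPerfect_of_isZero fun i => (HomologicalComplex.eval _ _ i).map_isZero hZ,
      ⟨(DerivedCategory.Q.map_isZero hZ).iso ((rd _).map_isZero hz)⟩⟩
  | succ k ih =>
    intro K a hK hK' h
    haveI := hK
    haveI := hK'
    obtain ⟨A, B, hA, hB, f, g, w, hT⟩ :=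
      (DerivedCategory.TStructure.t).exists_triangle K (a - 1 + k) (a + k) (by omega)
    haveI : DerivedCategory.IsLE A (a - 1 + k) := ⟨hA⟩
    haveI : DerivedCategory.IsGE B (a + k) := ⟨hB⟩
    let H := DerivedCategory.homologyFunctor X.Modules
    have hfi : ∀ i, i ≤ a - 1 + k → IsIso ((H i).map f) := fun i hi => by
      haveI : Mono ((H i).map f) :=
        (DerivedCategory.HomologySequence.mono_homologyMap_mor₁_iff _ hT (i - 1) i (by omega)).2
          ((DerivedCategory.isZero_of_isGE B (a + k) (i - 1) (by omega)).eq_of_src _ _)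
      haveI : Epi ((H i).map f) :=
        (DerivedCategory.HomologySequence.epi_homologyMap_mor₁_iff _ hT i).2
          ((DerivedCategory.isZero_of_isGE B (a + k) i (by omega)).eq_of_tgt _ _)
      exact isIso_of_mono_of_epi _
    have hgi : ∀ i, a + k ≤ i → IsIso ((H i).map g) := fun i hi => by
      have hT' := rot_of_distTriang _ hT
      haveI : Mono ((H i).map g) :=
        (DerivedCategory.HomologySequence.mono_homologyMap_mor₁_iff _ hT' (i - 1) i (by omega)).2
          (IsZero.eq_of_src ((DerivedCategory.isZero_of_isLE A (a - 1 + k) i (by omega)).of_iso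
            (((H 0).shiftIso 1 (i - 1) i (by omega)).app A)) _ _)
      haveI : Epi ((H i).map g) :=
        (DerivedCategory.HomologySequence.epi_homologyMap_mor₁_iff _ hT' i).2
          (IsZero.eq_of_tgt ((DerivedCategory.isZero_of_isLE A (a - 1 + k) (i + 1) (by omega)).of_iso
            (((H 0).shiftIso 1 i (i + 1) (by omega)).app A)) _ _)
      exact isIso_of_mono_of_epi _
    haveI : DerivedCategory.IsLE B (a + k) := (DerivedCategory.isLE_iff _ _).2 fun i hi => by
      haveI := hgi i hi.le
      exact (DerivedCategory.isZero_of_isLE K (a - 1 + (k + 1 : ℕ)) i (by omega)).of_iso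
        (asIso ((H i).map g)).symm
    haveI : DerivedCategory.IsGE A a := (DerivedCategory.isGE_iff _ _).2 fun i hi => by
      haveI := hfi i (by omega)
      exact (DerivedCategory.isZero_of_isGE K a i hi).of_iso (asIso ((H i).map f))
    obtain ⟨N, ⟨eN⟩⟩ := B.exists_iso_singleFunctor_obj_of_isGE_of_isLE (a + k)
    haveI := hgi (a + k) le_rfl
    have eH : DCoh.HD K (a + k) ≅ N :=
      asIso ((H (a + k)).map g) ≪≫ (H (a + k)).mapIso eN ≪≫ hdSingle N (a + k)
    have hBp : DCoh.IsPerfect B :=
      isPerfect_of_iso (singleShiftIso N (a + k) ≪≫ eN.symm)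
        (isPerfect_shift (isPerfect_of_iso
          ((DerivedCategory.singleFunctor X.Modules 0).mapIso eH) (h (a + k))) _)
    have hAp : DCoh.IsPerfect A := ih a ‹_› ‹_› fun i => by
      by_cases hik : i ≤ a - 1 + k
      · haveI := hfi i hik
        exact isPerfect_of_iso ((DerivedCategory.singleFunctor X.Modules 0).mapIso
          (asIso ((H i).map f)).symm) (h i)
      · exact isPerfect_inD (isFinLocFree_of_isZero
          (DerivedCategory.isZero_of_isLE A (a - 1 + k) i (by omega)))
    exact isPerfect_obj₃ (inv_rot_of_distTriang _ hT) (isPerfect_shift hBp (-1)) hAp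

end Groth.Agent.H16Derived.KFlat.Stalk
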