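import Groth.Agent.H06Mod.StalkExact
import Mathlib.AlgebraicGeometry.Modules.Tilde
import Groth.Prelude.Def_DerSch

/-!
# `(M~)_x = O_x ⊗_R M`
-/

set_option autoImplicit false

universe u

open CategoryTheory CategoryTheory.Limits AlgebraicGeometry TensorProduct Opposite

namespace Groth.Agent.H16Derived.KFlat.TildeStalk

open Groth.Agent.H06Mod

variable {R : CommRingCat.{u}} (M : ModuleCat.{u} R) (x : (Spec R : Scheme.{u}))

/-- `R → O_{Spec R, x}`. -/
noncomputable def toRing : R →+* (Spec R).presheaf.stalk x :=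
  ((Scheme.ΓSpecIso R).inv ≫ (Spec R).presheaf.germ ⊤ x trivial).hom

/-- `O_{Spec R, x}` as an `R`-algebra. -/
noncomputable abbrev algebra : Algebra R ((Spec R).presheaf.stalk x) := (toRing x).toAlgebra

attribute [local instance] algebra

/-- `M → Γ(M~, ⊤)`. -/
noncomputable def top (m : M) : Γ(tilde M, ⊤) := (tilde.toOpen M ⊤).hom m

lemma top_add (m m' : M) : top M (m + m') = top M m + top M m' := map_add (tilde.toOpen M ⊤).hom m m'

lemma top_smul (r : R) (m : M) : top M (r • m) = (Scheme.ΓSpecIso R).inv r • top M m :=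
  ((tilde.toOpen M ⊤).hom.map_smul r m).trans
    ((Scheme.Modules.smul_Spec_def (M := tilde M) (U := ⊤) r _).trans (congrArg (· • top M m)
      (congr($((Spec R).presheaf.map_id (op ⊤)) ((Scheme.ΓSpecIso R).inv r)))))

/-- `M → (M~)_x`. -/
noncomputable def toStalkAdd : M →+ (tilde M).presheaf.stalk x where
  toFun m := (tilde M).presheaf.germ ⊤ x trivial (top M m)
  map_zero' := (congrArg _ (map_zero (tilde.toOpen M ⊤).hom)).trans (map_zero _)
  map_add' m m' := by rw [top_add]; exact map_add _ _ _

lemma toStalkAdd_smul (r : R) (m : M) :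
    toStalkAdd M x (r • m) = toRing x r • toStalkAdd M x m := by
  show (tilde M).presheaf.germ ⊤ x trivial (top M (r • m)) = _
  rw [top_smul, germ_smul]
  rfl

/-- `O_x ⊗_R M → (M~)_x`. -/
noncomputable def stalkLinMap :
    (Spec R).presheaf.stalk x ⊗[R] M →ₗ[(Spec R).presheaf.stalk x] (tilde M).presheaf.stalk x :=
  letI : Module R ((tilde M).presheaf.stalk x) := Module.compHom _ (toRing x)
  haveI : IsScalarTower R ((Spec R).presheaf.stalk x) ((tilde M).presheaf.stalk x) :=
    .of_algebraMap_smul fun _ _ => rfl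
  LinearMap.liftBaseChange ((Spec R).presheaf.stalk x)
    { toFun := toStalkAdd M x, map_add' := map_add _, map_smul' := toStalkAdd_smul M x }

lemma stalkLinMap_tmul (s : (Spec R).presheaf.stalk x) (m : M) :
    stalkLinMap M x (s ⊗ₜ m) = s • toStalkAdd M x m := by
  simp [stalkLinMap]

variable {M} in
lemma hom_ext' {F : (Spec R).Modules} {g g' : tilde M ⟶ F}
    (h : ∀ m : M, g.app ⊤ (top M m) = g'.app ⊤ (top M m)) : g = g' :=
  ((tilde.adjunction (R := R)).homEquiv M F).injective (ModuleCat.hom_ext (LinearMap.ext fun m => h m))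

/-- `O_x ⊗_R M → (M~)_x` is bijective. -/
theorem stalkLinMap_bijective : Function.Bijective (stalkLinMap M x) := by
  let T := (Spec R).presheaf.stalk x ⊗[R] M
  constructor
  · let ul : M →ₗ[R] Γ(sky x T, ⊤) :=
      { toFun := fun m => ((fun _ => (1 : (Spec R).presheaf.stalk x) ⊗ₜ m) : Γ(sky x T, ⊤))
        map_add' := fun a b => funext fun _ => tmul_add _ _ _
        map_smul' := fun r a => by
          refine Eq.trans ?_ (Scheme.Modules.smul_Spec_def (M := sky x T) (U := ⊤) r _).symm
          refine skyEval_ext (N := T) x fun hx => ?_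
          rw [skyEval_smul]
          show (1 : (Spec R).presheaf.stalk x) ⊗ₜ (r • a) =
            (Spec R).presheaf.germ ⊤ x hx ((Spec R).presheaf.map (homOfLE le_top).op
              ((Scheme.ΓSpecIso R).inv r)) • ((1 : (Spec R).presheaf.stalk x) ⊗ₜ a : T)
          rw [tmul_smul, TopCat.Presheaf.germ_res_apply, ← algebraMap_smul ((Spec R).presheaf.stalk x) r]
          rfl }
    let u : M ⟶ moduleSpecΓFunctor.obj (sky x T) := ModuleCat.ofHom (Y := Γ(sky x T, ⊤)) ul
    let g : tilde M ⟶ sky x T := ((tilde.adjunction (R := R)).homEquiv M (sky x T)).symm u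
    have hg : ∀ m : M, g.app ⊤ (top M m) =
        ((fun _ => (1 : (Spec R).presheaf.stalk x) ⊗ₜ m) : Γ(sky x T, ⊤)) := fun m =>
      LinearMap.congr_fun (congrArg ModuleCat.Hom.hom
        (((tilde.adjunction (R := R)).homEquiv_unit (f := g)).symm.trans
          (((tilde.adjunction (R := R)).homEquiv M (sky x T)).apply_symm_apply u))) m
    have key : ∀ t : T, stalkOfHom g (stalkLinMap M x t) = t := fun t => by
      induction t using TensorProduct.induction_on with
      | zero => simp
      | add a b ha hb => rw [map_add, map_add, ha, hb]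
      | tmul r m =>
        rw [stalkLinMap_tmul, stalkOfHom_smul]
        show r • stalkOfHom g ((tilde M).presheaf.germ ⊤ x trivial (top M m)) = _
        rw [stalkOfHom_germ, hg m]
        show r • ((1 : (Spec R).presheaf.stalk x) ⊗ₜ m : T) = _
        rw [TensorProduct.smul_tmul', smul_eq_mul, mul_one]
    intro a b hab
    rw [← key a, hab, key b]
  · let P := LinearMap.range (stalkLinMap M x)
    have h0 : homOfStalk (F := tilde M) P.mkQ = 0 := hom_ext' fun m => by
      refine skyEval_ext (N := (tilde M).presheaf.stalk x ⧸ P) x fun hx => ?_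
      rw [skyEval_homOfStalk]
      refine ((Submodule.Quotient.mk_eq_zero P).mpr ⟨1 ⊗ₜ m, ?_⟩).trans ?_
      · rw [stalkLinMap_tmul, one_smul]; rfl
      · rfl
    intro z
    obtain ⟨V, hV, a, rfl⟩ := (tilde M).presheaf.exists_germ_eq z
    refine (Submodule.Quotient.mk_eq_zero P).mp ?_
    have h1 := skyEval_homOfStalk (F := tilde M) P.mkQ V hV a
    rw [h0] at h1
    exact h1.symm

/-- `(M~)_x = O_x ⊗_R M`. -/
noncomputable def stalkEquiv :
    (Spec R).presheaf.stalk x ⊗[R] M ≃ₗ[(Spec R).presheaf.stalk x] (tilde M).presheaf.stalk x :=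
  LinearEquiv.ofBijective _ (stalkLinMap_bijective M x)

lemma top_map {N : ModuleCat.{u} R} (f : M ⟶ N) (m : M) :
    (tilde.map f).app ⊤ (top M m) = top N (f.hom m) :=
  congr($(tilde.toOpen_map_app f ⊤) m)

lemma stalkLinMap_naturality {N : ModuleCat.{u} R} (f : M ⟶ N)
    (t : (Spec R).presheaf.stalk x ⊗[R] M) :
    stalkLinMap N x (f.hom.lTensor ((Spec R).presheaf.stalk x) t) =
      stalkLin (tilde.map f) x (stalkLinMap M x t) := by
  induction t using TensorProduct.induction_on with
  | zero => simp only [map_zero]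
  | add a b ha hb => simp only [map_add, ha, hb]
  | tmul r m =>
    rw [LinearMap.lTensor_tmul, stalkLinMap_tmul, stalkLinMap_tmul, map_smul]
    refine congrArg (r • ·) ?_
    show (tilde N).presheaf.germ ⊤ x trivial (top N (f.hom m)) =
      stalkLin (tilde.map f) x ((tilde M).presheaf.germ ⊤ x trivial (top M m))
    rw [stalkLin_germ, top_map]

end Groth.Agent.H16Derived.KFlat.TildeStalk
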