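import Groth.Agent.H16Derived.KFlat.PerfNoeth
import Groth.Agent.H16Derived.KFlat.TildeStalk
import Groth.Agent.H4DR.PCoh.Modules
import Groth.Agent.H4DR.TorAmp.Perfect
import Groth.Agent.H06EGA9.QuotFlat
import Groth.Agent.H06Mod.StalkFaithful
import Groth.Agent.H8Props.FinLocFree.Fibre

/-!
# Pseudo-coherent and perfect objects on affine schemes
-/

set_option autoImplicit false
set_option linter.style.haveILetI false

universe u

open CategoryTheory CategoryTheory.Limits AlgebraicGeometry Pretriangulated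

attribute [local instance] HasDerivedCategory.standard

namespace Groth.Agent.H16Derived.KFlat.Stalk

open TildeStalk (top top_add top_smul)

/-- The tilde functor. -/
noncomputable abbrev tf (A : Type u) [CommRing A] :
    ModuleCat.{u} A ⥤ (Spec (CommRingCat.of A)).Modules :=
  tilde.functor (CommRingCat.of A)

section Instances

variable (A : Type u) [CommRing A]

instance : (tf A).Faithful := (tilde.fullyFaithfulFunctor (R := CommRingCat.of A)).faithful
instance : (tf A).IsLeftAdjoint := (tilde.adjunction (R := CommRingCat.of A)).isLeftAdjoint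
instance : (tf A).Additive :=
  have := Limits.preservesBinaryBiproducts_of_preservesBinaryCoproducts (tf A)
  Functor.additive_of_preservesBinaryBiproducts _
instance [PreservesFiniteLimits (tilde.functor (CommRingCat.of A))] : PreservesFiniteLimits (tf A) :=
  inferInstanceAs (PreservesFiniteLimits (tilde.functor (CommRingCat.of A)))
instance : PreservesFiniteColimits (tf A) :=
  PreservesColimitsOfSize.preservesFiniteColimits.{0, 0} (tf A)

theorem isQCoh_tf (N : ModuleCat.{u} A) : Coh.IsQCoh ((tf A).obj N) := by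
  haveI i : (tilde (R := CommRingCat.of A) N).IsQuasicoherent := inferInstance
  exact i

end Instances

variable {A : Type u} [CommRing A] [PreservesFiniteLimits (tilde.functor (CommRingCat.of A))]

/-- Cohomology modules as objects of `ModuleCat`. -/
noncomputable abbrev hA (M : Dual.D A) (i : ℤ) : ModuleCat.{u} A :=
  (DerivedCategory.homologyFunctor (ModuleCat.{u} A) i).obj M

/-- Tilde on complexes. -/
noncomputable abbrev tfCx (E : DRing.Cx A) : CochainComplex (Spec (CommRingCat.of A)).Modules ℤ :=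
  ((tf A).mapHomologicalComplex (ComplexShape.up ℤ)).obj E

/-- `Q(E)~ ≅ Q(E~)`. -/
noncomputable def tildeDQ (E : DRing.Cx A) :
    (DCoh.tildeD (CommRingCat.of A)).obj (DRing.toD E) ≅
      DCoh.toD (Spec (CommRingCat.of A)) (tfCx E) :=
  (tf A).mapDerivedCategoryFactors.app E

/-- Cohomology sheaves of `M~`. -/
noncomputable def hdTilde (M : Dual.D A) (i : ℤ) :
    DCoh.HD ((DCoh.tildeD (CommRingCat.of A)).obj M) i ≅ (tf A).obj (hA M i) :=
  (DerivedCategory.homologyFunctor _ i).mapIso
      ((DCoh.tildeD (CommRingCat.of A)).mapIso (DerivedCategory.Q.objObjPreimageIso M).symm ≪≫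
        tildeDQ _) ≪≫
    (DerivedCategory.homologyFunctorFactors _ i).app _ ≪≫
    ((DerivedCategory.Q.objPreimage M).sc i).mapHomologyIso (tf A) ≪≫
    (tf A).mapIso (((DerivedCategory.homologyFunctorFactors _ i).app _).symm ≪≫
      (DerivedCategory.homologyFunctor _ i).mapIso (DerivedCategory.Q.objObjPreimageIso M))

theorem isZero_of_isZero_tilde {N : ModuleCat.{u} A} (h : IsZero ((tf A).obj N)) : IsZero N := by
  rw [IsZero.iff_id_eq_zero]
  apply (tf A).map_injective
  exact h.eq_of_src _ _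

theorem isLE_tilde_iff (M : Dual.D A) (n : ℤ) :
    DerivedCategory.IsLE ((DCoh.tildeD (CommRingCat.of A)).obj M) n ↔ M.IsLE n := by
  simp only [DerivedCategory.isLE_iff]
  exact forall₂_congr fun i _ => ⟨fun h => isZero_of_isZero_tilde (h.of_iso (hdTilde M i).symm),
    fun h => ((tf A).map_isZero h).of_iso (hdTilde M i)⟩

theorem isGE_tilde_iff (M : Dual.D A) (n : ℤ) :
    DerivedCategory.IsGE ((DCoh.tildeD (CommRingCat.of A)).obj M) n ↔ M.IsGE n := by
  simp only [DerivedCategory.isGE_iff]
  exact forall₂_congr fun i _ => ⟨fun h => isZero_of_isZero_tilde (h.of_iso (hdTilde M i).symm),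
    fun h => ((tf A).map_isZero h).of_iso (hdTilde M i)⟩

/-- Flatness of stalks of `N~` is flatness of `N`. -/
theorem isFlat_tilde_iff (N : ModuleCat.{u} A) : FlatMod.IsFlat ((tf A).obj N) ↔ Module.Flat A N := by
  let R := CommRingCat.of A
  have hb : Function.Bijective fun m : N => top (R := R) N m :=
    haveI := tilde.isIso_toOpen_top (R := R) (M := N)
    ConcreteCategory.bijective_of_isIso (tilde.toOpen (R := R) N ⊤)
  have h := H06EGA9.flat_iff_of_semilinear (R := A) (R' := Γ(Spec R, ⊤)) (N := N)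
    (N' := Γ((tf A).obj N, ⊤)) (Scheme.ΓSpecIso R).inv.hom
    (ConcreteCategory.bijective_of_isIso (Scheme.ΓSpecIso R).inv)
    { toFun := fun m => top (R := R) N m, map_zero' := map_zero (tilde.toOpen (R := R) N ⊤).hom,
      map_add' := top_add (R := R) N }
    hb (top_smul (R := R) N)
  rw [h, H8Props.FinLocFree.flat_sections_iff ((tf A).obj N) (isQCoh_tf A N) (isAffineOpen_top _)]
  exact ⟨fun h x => h x.1, fun h x => h ⟨x, trivial⟩⟩

/-- Tilde of a finite free module. -/
theorem isFinLocFree_tilde (N : ModuleCat.{u} A) [Module.Finite A N] [Module.Free A N] :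
    FlatMod.IsFinLocFree ((tf A).obj N) := by
  let b := Module.Free.chooseBasis A N
  exact isFinLocFree_of_iso ((tildeFinsupp (R := CommRingCat.of A) _).symm ≪≫
    (tf A).mapIso (b.repr.symm.toModuleIso (X₁ := Module.Free.ChooseBasisIndex A N →₀ A)))
    (isFinLocFree_free _)

theorem isStrictlyPerfect_tilde {E : DRing.Cx A} (h : H4DR.PCoh.IsFFCx E) :
    DCoh.IsStrictlyPerfect (tfCx E) := by
  obtain ⟨a, b, hv, hf⟩ := h
  exact ⟨⟨a, b, fun i hi => (tf A).map_isZero (hv i hi)⟩, fun i => by
    haveI := (hf i).1; haveI := (hf i).2; exact isFinLocFree_tilde (E.X i)⟩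

/-- Models which exist globally. -/
theorem isPerfect_toD {X : Scheme.{u}} {E : CochainComplex X.Modules ℤ}
    (hE : DCoh.IsStrictlyPerfect E) : DCoh.IsPerfect (DCoh.toD X E) :=
  isPerfect_of_local fun x => ⟨_, (⊤ : X.Opens).ι, inferInstance, ⟨⟨x, trivial⟩, rfl⟩, _,
    isStrictlyPerfect_rd _ hE, ⟨(rdQ _).symm.app E⟩⟩

theorem isPseudoCoherentD_of_approx {X : Scheme.{u}} {E : CochainComplex X.Modules ℤ}
    (hE : DCoh.IsStrictlyPerfect E) {K : DCoh.D X} {m : ℤ} (α : DCoh.toD X E ⟶ K) (h : Approx m α) :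
    DCoh.IsPseudoCoherentD m K :=
  isPseudoCoherentD_of_local fun x => ⟨_, (⊤ : X.Opens).ι, inferInstance, ⟨⟨x, trivial⟩, rfl⟩, _,
    (rdQ _).inv.app E ≫ (rd _).map α, isStrictlyPerfect_rd _ hE,
    (Approx.of_isIso m _).comp (h.map_rd _)⟩

theorem isPseudoCoherentD_tilde {m : ℤ} {M : Dual.D A} (h : DRing.IsPseudoCoherent A m M) :
    DCoh.IsPseudoCoherentD m ((DCoh.tildeD (CommRingCat.of A)).obj M) := by
  obtain ⟨E, a, b, α, hv, hf, h₁, h₂⟩ := h
  obtain ⟨C, β, γ, hT⟩ := distinguished_cocone_triangle α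
  have hC : DerivedCategory.IsLE C (m - 1) := (approx_iff hT m).1 ⟨h₁, h₂⟩
  have hα : Approx m ((DCoh.tildeD (CommRingCat.of A)).map α) :=
    (approx_iff ((DCoh.tildeD (CommRingCat.of A)).map_distinguished _ hT) m).2
      ((isLE_tilde_iff C (m - 1)).2 hC)
  exact isPseudoCoherentD_of_approx (isStrictlyPerfect_tilde ⟨a, b, hv, hf⟩)
    ((tildeDQ E).inv ≫ (DCoh.tildeD (CommRingCat.of A)).map α) ((Approx.of_isIso m _).comp hα)

theorem ring_pc_of_pc_tilde (k : ℕ) : ∀ {m : ℤ} {M : Dual.D A},
    (∀ i, m + k ≤ i → Subsingleton (Dual.HD A M i)) →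
    DCoh.IsPseudoCoherentD m ((DCoh.tildeD (CommRingCat.of A)).obj M) →
    DRing.IsPseudoCoherent A m M := by
  induction k with
  | zero => intro m M hb _; exact H4DR.PCoh.pc_of_vanish fun i hi => hb i (by omega)
  | succ k ih =>
    intro m M hb h
    let b : ℤ := m + k
    have hz : ∀ i, b < i → IsZero (DCoh.HD ((DCoh.tildeD (CommRingCat.of A)).obj M) i) := fun i hi =>
      ((tf A).map_isZero (@ModuleCat.isZero_of_subsingleton _ _ (hA M i) (hb i (by omega)))).of_iso
        (hdTilde M i)
    haveI hfin : Module.Finite A (Dual.HD A M b) := by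
      have hFT : CohB1.IsFT ((tf A).obj (hA M b)) :=
        isFT_of_epi (hdTilde M b).hom (isFT_HD_of_pc (isPseudoCoherentD_mono h (by omega)) hz)
      haveI := @H10Coh.finite_sections _ ((tf A).obj (hA M b)) (isQCoh_tf A _) hFT ⊤
        (isAffineOpen_top _)
      let R := CommRingCat.of A
      let e : hA M b →+ Γ((tf A).obj (hA M b), ⊤) :=
        { toFun := fun m => top (R := R) (hA M b) m,
          map_zero' := map_zero (tilde.toOpen (R := R) (hA M b) ⊤).hom,
          map_add' := top_add (R := R) _ }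
      let e' := (AddEquiv.ofBijective e
        (haveI := tilde.isIso_toOpen_top (R := R) (M := hA M b)
        ConcreteCategory.bijective_of_isIso (tilde.toOpen (R := R) (hA M b) ⊤))).symm
      refine H10Coh.finite_of_semilinear (M := Γ((tf A).obj (hA M b), ⊤)) (Scheme.ΓSpecIso R).hom.hom e'.toAddMonoidHom
        (fun r z => e'.symm.injective ?_) fun z => ⟨_, e'.apply_symm_apply z⟩
      refine (AddEquiv.symm_apply_apply _ _).trans ((top_smul (R := R) (hA M b) _ _).trans ?_).symm
      exact congrArg₂ (fun (a : Γ(Spec R, ⊤)) (v : Γ((tf A).obj (hA M b), ⊤)) => a • v)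
        (congr($((Scheme.ΓSpecIso R).hom_inv_id) r)) (AddEquiv.symm_apply_apply e' z)
    obtain ⟨n, C, f, g, w, hT, -, hC, hiff⟩ := H4DR.PCoh.exists_attach M b fun i hi => hb i (by omega)
    refine (hiff m).2 (ih (fun i hi => hC i (by omega)) ?_)
    exact isPseudoCoherentD_obj₃ ((DCoh.tildeD (CommRingCat.of A)).map_distinguished _ hT)
      (isPseudoCoherentD_of_isPerfect (isPerfect_of_iso (tildeDQ _).symm
        (isPerfect_toD (isStrictlyPerfect_tilde (H4DR.PCoh.isFFCx_freeAt n b)))) _) h

theorem pc_tilde_iff (M : Dual.D A) (m : ℤ) :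
    DCoh.IsPseudoCoherentD m ((DCoh.tildeD (CommRingCat.of A)).obj M) ↔
      DRing.IsPseudoCoherent A m M := by
  refine ⟨fun h => ?_, isPseudoCoherentD_tilde⟩
  obtain ⟨b, hb⟩ := exists_isLE_of_local (K := (DCoh.tildeD (CommRingCat.of A)).obj M) fun x => by
    obtain ⟨V, hx, hV⟩ := (isPseudoCoherentD_iff _ _).1 h x
    obtain ⟨n, hn⟩ := hV.exists_isLE
    exact ⟨V, n, hx, hn⟩
  haveI := (isLE_tilde_iff M b).1 hb
  exact ring_pc_of_pc_tilde (b + 1 - m).toNat (fun i hi =>
    ModuleCat.subsingleton_of_isZero (DerivedCategory.isZero_of_isLE M b i (by omega))) h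

/-- Flatness at a point can be checked after restriction. -/
theorem isFlatAt_of_restrict {X U : Scheme.{u}} (j : U ⟶ X) [IsOpenImmersion j] {M : X.Modules}
    (x : U) (h : FlatMod.IsFlatAt ((Scheme.Modules.restrictFunctor j).obj M) x) :
    FlatMod.IsFlatAt M (j.base x) := by
  rw [← H8Props.FinLocFree.isFlatOverAt_id_iff, ← H06Mod.isFlatOverAt_pullback_iff j (𝟙 X) M x]
  have hf : FlatMod.IsFlatAt ((Scheme.Modules.pullback j).obj M) x := by
    let e := (DerSch.stalkFunctor U x).mapIso ((Scheme.Modules.restrictFunctorIsoPullback j).app M)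
    haveI : Module.Flat (U.presheaf.stalk x)
      ((DerSch.stalkFunctor U x).obj ((Scheme.Modules.restrictFunctor j).obj M)) := h
    exact Module.Flat.of_linearEquiv e.toLinearEquiv.symm
  letI := ((j ≫ 𝟙 X).stalkMap x).hom.toAlgebra
  letI := FlatMod.moduleStalkOver (j ≫ 𝟙 X) ((Scheme.Modules.pullback j).obj M) x
  haveI : IsScalarTower (X.presheaf.stalk ((j ≫ 𝟙 X).base x)) (U.presheaf.stalk x)
      (((Scheme.Modules.pullback j).obj M).presheaf.stalk x) := .of_algebraMap_smul fun _ _ => rfl
  haveI : Module.Flat (X.presheaf.stalk ((j ≫ 𝟙 X).base x)) (U.presheaf.stalk x) :=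
    Flat.stalkMap (j ≫ 𝟙 X) x
  haveI : Module.Flat (U.presheaf.stalk x) (((Scheme.Modules.pullback j).obj M).presheaf.stalk x) := hf
  exact Module.Flat.trans (X.presheaf.stalk ((j ≫ 𝟙 X).base x)) (U.presheaf.stalk x)
    (((Scheme.Modules.pullback j).obj M).presheaf.stalk x)

/-- The tensor of a K-flat complex with flat terms, isomorphic in `D` to one vanishing below `a`. -/
theorem isFlat_opcycles_of_iso {X : Scheme.{u}} {E S : CochainComplex X.Modules ℤ} (a b : ℤ)
    (hEb : ∀ q, b < q → IsZero (E.X q)) (hEf : ∀ q, FlatMod.IsFlat (E.X q))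
    (hS : DCoh.VanishesOutside S a b) (hSf : ∀ q, FlatMod.IsFlat (S.X q))
    (e : DCoh.toD X E ≅ DCoh.toD X S) : FlatMod.IsFlat (E.opcycles a) := by
  refine isFlat_opcycles E hEf a fun G => ?_
  haveI := hasLTensorMod G
  refine IsZero.of_iso ?_ ((hdLTensorModIso G E (lkflat_of_boundedAbove E b hEb hEf) (a - 1)).symm ≪≫
    (DerivedCategory.homologyFunctor X.Modules (a - 1)).mapIso ((DCoh.LTensorMod G).mapIso e) ≪≫
    hdLTensorModIso G S (lkflat_of_boundedAbove S b (fun q hq => hS q (Or.inr hq)) hSf) (a - 1))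
  rw [← HomologicalComplex.exactAt_iff_isZero_homology]
  exact ShortComplex.exact_of_isZero_X₂ _
    ((DCoh.tensorRightMod G).map_isZero (hS (a - 1) (Or.inl (by omega))))

theorem perfect_tilde_iff (M : Dual.D A) :
    DCoh.IsPerfect ((DCoh.tildeD (CommRingCat.of A)).obj M) ↔ DRing.IsPerfect A M := by
  constructor
  · intro h
    have hpc : ∀ m, DRing.IsPseudoCoherent A m M := fun m =>
      (pc_tilde_iff M m).1 (isPseudoCoherentD_of_isPerfect h m)
    have hpc' := H4DR.PCoh.pc'_of_forall hpc
    obtain ⟨E, b, hb, hF, ⟨e⟩⟩ := hpc'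
    choose V hx S hS θ using (isPerfect_iff _).1 h
    obtain ⟨s, hs⟩ := isCompact_univ.elim_finite_subcover
      (fun x => (V x : Set (Spec (CommRingCat.of A)))) (fun x => (V x).isOpen)
      fun x _ => Set.mem_iUnion.2 ⟨x, hx x⟩
    choose p q hpq using fun x => (hS x).1
    obtain ⟨a, ha⟩ := (s.image p).bddBelow
    obtain ⟨c, hc⟩ := (s.image q).bddAbove
    let B := max b (max c a)
    haveI : M.IsGE a := by
      refine (isGE_tilde_iff M a).1 ((DerivedCategory.isGE_iff _ _).2 fun i hi =>
        isZero_of_isZero_restrict fun x => ?_)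
      obtain ⟨y, hy, hxy⟩ := Set.mem_iUnion₂.1 (hs (Set.mem_univ x))
      have hlt : i < p y := lt_of_lt_of_le hi (ha (Finset.mem_coe.2 (Finset.mem_image_of_mem p hy)))
      refine ⟨V y, hxy, IsZero.of_iso ?_ ((homologyRdIso (V y).ι _ i).symm ≪≫
        ((DerivedCategory.homologyFunctor _ i).mapIso (θ y).some).symm ≪≫
        (DerivedCategory.homologyFunctorFactors _ i).app _)⟩
      exact (HomologicalComplex.exactAt_iff_isZero_homology _ _).1
        (ShortComplex.exact_of_isZero_X₂ _ (hpq y i (Or.inl hlt)))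
    have hflat : FlatMod.IsFlat ((tfCx E).opcycles a) := by
      intro x
      obtain ⟨y, hy, hxy⟩ := Set.mem_iUnion₂.1 (hs (Set.mem_univ x))
      let F := (DCoh.restrictCx (V y)).obj (tfCx E)
      have hpa : a ≤ p y := ha (Finset.mem_coe.2 (Finset.mem_image_of_mem p hy))
      have hqc : q y ≤ c := hc (Finset.mem_coe.2 (Finset.mem_image_of_mem q hy))
      have hF' : FlatMod.IsFlat (F.opcycles a) := by
        refine isFlat_opcycles_of_iso a B
          (fun r hr => (Scheme.Modules.restrictFunctor _).map_isZero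
            ((tf A).map_isZero (hb r (by omega))))
          (fun r => isFlat_restrictFunctor _ ((isFlat_tilde_iff _).2 ?_))
          (fun r hr => hpq y r (hr.imp (fun h => by omega) (fun h => by omega)))
          (fun r => isFlat_of_isFinLocFree ((hS y).2 r))
          ((rdQ (V y).ι).symm.app _ ≪≫ (rd (V y).ι).mapIso ((tildeDQ E).symm ≪≫
            (DCoh.tildeD (CommRingCat.of A)).mapIso e) ≪≫ (θ y).some.symm)
        haveI := (hF r).2
        infer_instance
      have hiso : F.opcycles a ≅ (Scheme.Modules.restrictFunctor (V y).ι).obj ((tfCx E).opcycles a) :=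
        IsColimit.coconePointUniqueUpToIso (F.opcyclesIsCokernel (a - 1) a (by simp))
          (CokernelCofork.mapIsColimit _ ((tfCx E).opcyclesIsCokernel (a - 1) a (by simp))
            (Scheme.Modules.restrictFunctor (V y).ι))
      have h1 := isFlat_of_retract hiso.inv hiso.hom hiso.inv_hom_id hF' ⟨x, hxy⟩
      exact isFlatAt_of_restrict (V y).ι ⟨x, hxy⟩ h1
    have hop : Module.Flat A (E.opcycles a) := (isFlat_tilde_iff _).1 (by
      let i : (tfCx E).opcycles a ≅ (tf A).obj (E.opcycles a) :=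
        IsColimit.coconePointUniqueUpToIso ((tfCx E).opcyclesIsCokernel (a - 1) a (by simp))
          (CokernelCofork.mapIsColimit _ (E.opcyclesIsCokernel (a - 1) a (by simp)) (tf A))
      exact isFlat_of_retract i.inv i.hom i.inv_hom_id hflat)
    haveI : E.IsGE a := (DerivedCategory.isGE_Q_obj_iff E a).1
      ((DerivedCategory.TStructure.t).isGE_of_iso e.symm a)
    haveI : IsIso (DerivedCategory.Q.map (E.πTruncGE a)) :=
      Localization.inverts _ (HomologicalComplex.quasiIso (ModuleCat.{u} A) (ComplexShape.up ℤ)) _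
        (inferInstanceAs (QuasiIso (E.πTruncGE a)))
    refine H4DR.TorAmp.isPerfect_iff.2 ⟨H4DR.PCoh.pc'_of_forall hpc, a, B, E.truncGE a,
      fun i hi => ?_, fun i => ?_, ⟨(asIso (DerivedCategory.Q.map (E.πTruncGE a))).symm ≪≫ e⟩⟩
    · rcases hi with hi | hi
      · exact (E.truncGE a).isZero_of_isStrictlyGE a i hi
      · exact (hb i (by omega)).of_iso (E.truncGEXIso a i (by omega))
    · rcases lt_trichotomy i a with hi | rfl | hi
      · haveI := ModuleCat.subsingleton_of_isZero ((E.truncGE a).isZero_of_isStrictlyGE a i hi)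
        infer_instance
      · exact Module.Flat.of_linearEquiv (E.truncGEXIsoOpcycles i).toLinearEquiv
      · haveI := (hF i).2
        exact Module.Flat.of_linearEquiv (E.truncGEXIso a i hi).toLinearEquiv
  · intro h
    obtain ⟨hpc', a, b, E, hv, hfl, ⟨e⟩⟩ := H4DR.TorAmp.isPerfect_iff.1 h
    refine isPerfect_of_flatAmplitude a b ⟨tfCx E, fun i hi => (tf A).map_isZero (hv i hi),
      fun i => (isFlat_tilde_iff _).2 (hfl i),
      ⟨(tildeDQ E).symm ≪≫ (DCoh.tildeD (CommRingCat.of A)).mapIso e⟩⟩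
      (isPseudoCoherentD_tilde (H4DR.PCoh.pc_of_pc' hpc' _))

end Groth.Agent.H16Derived.KFlat.Stalk
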