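import Groth.Agent.H16Derived.KFlat.LocFreeOps
import Groth.Agent.H16Derived.KFlat.LpullLocal

/-!
# The derived tensor product of perfect objects is perfect
-/

set_option autoImplicit false
set_option linter.style.haveILetI false

universe u

open CategoryTheory CategoryTheory.Limits AlgebraicGeometry

attribute [local instance] HasDerivedCategory.standard

namespace Groth.Agent.H16Derived.KFlat.Stalk

variable {X : Scheme.{u}}

/-- `Q(A ⊗ B) ≅ Q(A' ⊗ B)` if `Q A ≅ Q A'` and `B` is K-flat. -/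
theorem nonempty_tensor_congr_left {A A' B : CochainComplex X.Modules ℤ}
    (e : DCoh.toD X A ≅ DCoh.toD X A') (hB : DCoh.IsKFlat B) :
    Nonempty (DCoh.toD X (((DCoh.tensorCx (X := X)).obj A).obj B) ≅
      DCoh.toD X (((DCoh.tensorCx (X := X)).obj A').obj B)) :=
  haveI := hasLTensorCx B
  ⟨(ltensorCxObjIso B hB A).symm ≪≫ (DCoh.LTensorCx B).mapIso e ≪≫ ltensorCxObjIso B hB A'⟩

/-- `Q(A ⊗ B) ≅ Q(A ⊗ B')` if `Q B ≅ Q B'` and both are K-flat. -/
theorem nonempty_tensor_congr_right (A : CochainComplex X.Modules ℤ)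
    {B B' : CochainComplex X.Modules ℤ} (e : DCoh.toD X B ≅ DCoh.toD X B') (hB : DCoh.IsKFlat B)
    (hB' : DCoh.IsKFlat B') :
    Nonempty (DCoh.toD X (((DCoh.tensorCx (X := X)).obj A).obj B) ≅
      DCoh.toD X (((DCoh.tensorCx (X := X)).obj A).obj B')) := by
  obtain ⟨C, s, hs, g, hg⟩ := DerivedCategory.right_fac e.hom
  haveI := hs
  haveI : IsIso (DerivedCategory.Q.map g) := by
    rw [show DerivedCategory.Q.map g = DerivedCategory.Q.map s ≫ e.hom by simp [hg]]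
    infer_instance
  haveI : QuasiIso s := (DerivedCategory.isIso_Q_map_iff_quasiIso (C := X.Modules) _).1 hs
  haveI : QuasiIso g := (DerivedCategory.isIso_Q_map_iff_quasiIso (C := X.Modules) _).1 inferInstance
  haveI := quasiIso_resψ C
  haveI := quasiIso_resψ A
  haveI i₁ := isIso_Q_map _ (quasiIso_tot_map_of_resolution (DCoh.tensorBi (X := X))
    ((resψ (X := X)).app C ≫ s) (isKFlat_res C) ((isKFlat_iff' B).1 hB)
    ((resψ (X := X)).app A) (isKFlat_flip_res A))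
  haveI i₂ := isIso_Q_map _ (quasiIso_tot_map_of_resolution (DCoh.tensorBi (X := X))
    ((resψ (X := X)).app C ≫ g) (isKFlat_res C) ((isKFlat_iff' B').1 hB')
    ((resψ (X := X)).app A) (isKFlat_flip_res A))
  exact ⟨(@asIso _ _ _ _ _ i₁).symm ≪≫ @asIso _ _ _ _ _ i₂⟩

/-- Restriction, then further restriction. -/
noncomputable def restrictMonoIso {V W : X.Opens} (h : W ≤ V) :
    Scheme.Modules.restrictFunctor V.ι ⋙ Scheme.Modules.pullback (X.homOfLE h) ≅
      Scheme.Modules.pullback W.ι :=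
  Functor.isoWhiskerRight (Scheme.Modules.restrictFunctorIsoPullback V.ι) _ ≪≫
    Scheme.Modules.pullbackComp (X.homOfLE h) V.ι ≪≫
    Scheme.Modules.pullbackCongr (X.homOfLE_ι h)

/-- `(P|_V)|_W ≅ P|_W` on complexes. -/
noncomputable def restrictMonoCxIso {V W : X.Opens} (h : W ≤ V)
    (P : CochainComplex X.Modules ℤ) :
    ((Scheme.Modules.pullback (X.homOfLE h)).mapHomologicalComplex (ComplexShape.up ℤ)).obj
        ((DCoh.restrictCx V).obj P) ≅
      ((Scheme.Modules.pullback W.ι).mapHomologicalComplex (ComplexShape.up ℤ)).obj P :=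
  HomologicalComplex.Hom.isoOfComponents (fun i => (restrictMonoIso h).app (P.X i))
    fun i j _ => ((restrictMonoIso h).hom.naturality (P.d i j)).symm

/-- A strictly perfect model on `V` gives one on `W ≤ V`. -/
theorem exists_model_mono {V W : X.Opens} (h : W ≤ V) {P : CochainComplex X.Modules ℤ}
    (hP : kflat X P) {E : CochainComplex (V : Scheme.{u}).Modules ℤ}
    (hE : DCoh.IsStrictlyPerfect E)
    (θ : DerivedCategory.Q.obj ((DCoh.restrictCx V).obj P) ≅ DerivedCategory.Q.obj E) :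
    ∃ E' : CochainComplex (W : Scheme.{u}).Modules ℤ, DCoh.IsStrictlyPerfect E' ∧
      Nonempty (DerivedCategory.Q.obj
        (((Scheme.Modules.pullback W.ι).mapHomologicalComplex (ComplexShape.up ℤ)).obj P) ≅
          DerivedCategory.Q.obj E') := by
  haveI := hasLpull (X.homOfLE h)
  exact ⟨_, isStrictlyPerfect_pullback (X.homOfLE h) hE,
    ⟨DerivedCategory.Q.mapIso (restrictMonoCxIso h P).symm ≪≫
      (lpullObjIso (X.homOfLE h) _ (kflat_restrict V hP)).symm ≪≫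
      (DCoh.Lpull (X.homOfLE h)).mapIso θ ≪≫
      lpullObjIso (X.homOfLE h) E (kflat_of_isStrictlyPerfect hE)⟩⟩

/-- The derived tensor product of perfect objects is perfect. -/
theorem isPerfect_ltensorCx (L : CochainComplex X.Modules ℤ) (hL : DCoh.IsKFlat L)
    (hLp : DCoh.IsPerfect (DerivedCategory.Q.obj L)) [DCoh.HasLTensorCx L] {K : DCoh.D X}
    (hK : DCoh.IsPerfect K) : DCoh.IsPerfect ((DCoh.LTensorCx L).obj K) := by
  obtain ⟨P, hP, ⟨e⟩⟩ := exists_kflat_rep K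
  intro x
  obtain ⟨V₁, hx₁, hV₁⟩ := hK x
  obtain ⟨V₂, hx₂, hV₂⟩ := hLp x
  obtain ⟨E₁, hE₁, ⟨θ₁⟩⟩ := hV₁ P ⟨e⟩
  obtain ⟨S₁, hS₁, ⟨θ₂⟩⟩ := hV₂ L ⟨Iso.refl _⟩
  let W := V₁ ⊓ V₂
  obtain ⟨E, hE, ⟨a⟩⟩ := exists_model_mono (W := W) inf_le_left hP hE₁ θ₁
  obtain ⟨S, hS, ⟨b⟩⟩ := exists_model_mono (W := W) inf_le_right ((isKFlat_iff' L).1 hL) hS₁ θ₂
  refine ⟨W, ⟨hx₁, hx₂⟩, fun F hF => ?_⟩
  obtain ⟨eF⟩ := hF
  have hιL : DCoh.IsKFlat
      (((Scheme.Modules.pullback W.ι).mapHomologicalComplex (ComplexShape.up ℤ)).obj L) :=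
    (isKFlat_iff' _).2 (isKFlat_pullback W.ι ((isKFlat_iff' L).1 hL))
  obtain ⟨i₁⟩ := nonempty_tensor_congr_left a hιL
  obtain ⟨i₂⟩ := nonempty_tensor_congr_right E b hιL
    ((isKFlat_iff' S).2 (kflat_of_isStrictlyPerfect hS))
  exact ⟨_, isStrictlyPerfect_tensorCx hE hS,
    ⟨restrictQIso W (eF ≪≫ (DCoh.LTensorCx L).mapIso e.symm ≪≫ ltensorCxObjIso L hL P) ≪≫
      DerivedCategory.Q.mapIso
        ((NatIso.mapHomologicalComplex (Scheme.Modules.restrictFunctorIsoPullback W.ι)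
            (ComplexShape.up ℤ)).app _ ≪≫ pullTotIso W.ι P L) ≪≫ i₁ ≪≫ i₂⟩⟩

end Groth.Agent.H16Derived.KFlat.Stalk
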