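import Groth.Agent.H16Derived.KFlat.PullKFlat
import Groth.Agent.H16Derived.KFlat.SheafTri
import Groth.Agent.H16Derived.KInjRes.Products
import Groth.Agent.H16Derived.DerAdj
import Groth.Prelude.Def_DCoh2
import Mathlib.CategoryTheory.Triangulated.Adjunction

/-!
# The adjunction `Lf^* ⊣ Rf_*` on unbounded derived categories; composition
-/

set_option autoImplicit false
set_option linter.style.haveILetI false

universe u

open CategoryTheory CategoryTheory.Limits CategoryTheory.Functor AlgebraicGeometry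

attribute [local instance] HasDerivedCategory.standard

namespace Groth.Agent.H16Derived.KFlat.Stalk

variable {X Y Z : Scheme.{u}}

/-- `f^* ⊣ f_*` on homotopy categories. -/
noncomputable def pullPushKAdj (f : X ⟶ Y) :
    (Scheme.Modules.pullback f).mapHomotopyCategory (ComplexShape.up ℤ) ⊣
      (Scheme.Modules.pushforward f).mapHomotopyCategory (ComplexShape.up ℤ) :=
  (mapHomologicalComplexAdj (Scheme.Modules.pullbackPushforwardAdjunction f)
      (ComplexShape.up ℤ)).localization
    (HomotopyCategory.quotient Y.Modules (ComplexShape.up ℤ))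
    (HomologicalComplex.homotopyEquivalences Y.Modules (ComplexShape.up ℤ))
    (HomotopyCategory.quotient X.Modules (ComplexShape.up ℤ))
    (HomologicalComplex.homotopyEquivalences X.Modules (ComplexShape.up ℤ)) _ _

/-- The counit of `Lf^*`. -/
noncomputable abbrev lpullCounit (f : X ⟶ Y) [DCoh.HasLpull f] :
    DerivedCategory.Qh ⋙ DCoh.Lpull f ⟶ DCoh.pullKh f :=
  (DCoh.pullKh f).totalLeftDerivedCounit DerivedCategory.Qh
    (HomotopyCategory.quasiIso Y.Modules (ComplexShape.up ℤ))

/-- The unit of `Rf_*`. -/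
noncomputable abbrev rpushUnit (f : X ⟶ Y) [DCoh.HasRpush f] :
    DCoh.pushKh f ⟶ DerivedCategory.Qh ⋙ DCoh.Rpush f :=
  (DCoh.pushKh f).totalRightDerivedUnit DerivedCategory.Qh
    (HomotopyCategory.quasiIso X.Modules (ComplexShape.up ℤ))

lemma isLeftDerived_of_resolved {H : Type*} [Category H] {f : X ⟶ Y}
    (F : HomotopyCategory Y.Modules (ComplexShape.up ℤ) ⥤ H)
    (hinv : ∀ {K K' : CochainComplex Y.Modules ℤ} (φ : K ⟶ K') [QuasiIso φ],
      IsKFlat (DCoh.tensorBi (X := Y)) K → IsKFlat (DCoh.tensorBi (X := Y)) K' →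
        IsIso ((HomotopyCategory.quotient _ _ ⋙ F).map φ))
    (G : DCoh.D Y ⥤ H) (β : DerivedCategory.Qh ⋙ G ⟶ F)
    (h : ∀ K : CochainComplex Y.Modules ℤ, IsKFlat (DCoh.tensorBi (X := Y)) K →
      IsIso (β.app ((HomotopyCategory.quotient _ _).obj K))) :
    G.IsLeftDerivedFunctor β (HomotopyCategory.quasiIso Y.Modules (ComplexShape.up ℤ)) :=
  LeftDer.isLeftDerivedFunctor_of_isIso_resolved (W₁ := HomologicalComplex.quasiIso Y.Modules (ComplexShape.up ℤ))
    (HomotopyCategory.quasiIso Y.Modules (ComplexShape.up ℤ))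
    DerivedCategory.Qh (HomotopyCategory.quotient Y.Modules (ComplexShape.up ℤ))
    (HomologicalComplex.homotopyEquivalences Y.Modules (ComplexShape.up ℤ))
    inverts_resψ
    (fun K K' φ (hφ : QuasiIso φ) =>
      haveI := quasiIso_res_map φ
      hinv _ (isKFlat_res K) (isKFlat_res K'))
    (fun K => @hinv _ _ _ (quasiIso_resψ ((res (X := Y)).obj K)) (isKFlat_res _) (isKFlat_res K))
    G β (fun K => h _ (isKFlat_res K))

lemma isLeftDerived_lpull_comp (f : X ⟶ Y) [DCoh.HasLpull f] {H : Type*} [Category H]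
    (T : DCoh.D X ⥤ H) :
    (DCoh.Lpull f ⋙ T).IsLeftDerivedFunctor
      ((Functor.associator _ _ _).inv ≫ whiskerRight (lpullCounit f) T)
      (HomotopyCategory.quasiIso Y.Modules (ComplexShape.up ℤ)) := by
  refine isLeftDerived_of_resolved (f := f) _ (fun φ _ hK hK' => ?_) _ _ (fun K hK => ?_)
  · haveI := isIso_pullKh_map f φ hK hK'
    exact inferInstanceAs (IsIso (T.map ((HomotopyCategory.quotient _ _ ⋙ DCoh.pullKh f).map φ)))
  · haveI := isIso_Lpull_counit f K hK
    simp only [NatTrans.comp_app, associator_inv_app, whiskerRight_app]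
    infer_instance

/-- K-injective complexes are local in the homotopy category and every complex has one. -/
theorem exists_local (M : HomotopyCategory X.Modules (ComplexShape.up ℤ)) :
    ∃ (I : CochainComplex X.Modules ℤ) (_ : I.IsKInjective)
      (s : M ⟶ (HomotopyCategory.quotient _ _).obj I),
      HomotopyCategory.quasiIso X.Modules (ComplexShape.up ℤ) s := by
  obtain ⟨N, j, hN⟩ := KInjRes.exists_resolution_functor (A := X.Modules)
  obtain ⟨K, rfl⟩ : ∃ K, (HomotopyCategory.quotient _ _).obj K = M := ⟨M.as, rfl⟩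
  refine ⟨N.obj K, (hN K).2.2.1, (HomotopyCategory.quotient _ _).map (j.app K), ?_⟩
  rw [HomotopyCategory.quotient_map_mem_quasiIso_iff, HomologicalComplex.mem_quasiIso_iff]
  exact (hN K).2.1

instance hasPointwise_pushKh_comp (f : X ⟶ Y) {H : Type*} [Category H] (T : DCoh.D Y ⥤ H) :
    (DCoh.pushKh f ⋙ T).HasPointwiseRightDerivedFunctor
      (HomotopyCategory.quasiIso X.Modules (ComplexShape.up ℤ)) :=
  RDerived.hasPointwiseRightDerivedFunctor_of_resolutions DerivedCategory.Qh _ _ fun M => by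
    obtain ⟨I, hI, s, hs⟩ := exists_local M
    exact ⟨_, s, hs, fun K => CochainComplex.IsKInjective.Qh_map_bijective K I⟩

/-- `Rf_* I = f_* I` for K-injective `I`. -/
theorem isIso_rpushUnit (f : X ⟶ Y) [DCoh.HasRpush f] (I : CochainComplex X.Modules ℤ)
    [I.IsKInjective] : IsIso ((rpushUnit f).app ((HomotopyCategory.quotient _ _).obj I)) := by
  haveI : (DCoh.pushKh f).HasPointwiseRightDerivedFunctor
      (HomotopyCategory.quasiIso X.Modules (ComplexShape.up ℤ)) :=
    RDerived.hasPointwiseRightDerivedFunctor_of_resolutions DerivedCategory.Qh _ _ fun M => by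
      obtain ⟨I, hI, s, hs⟩ := exists_local M
      exact ⟨_, s, hs, fun K => CochainComplex.IsKInjective.Qh_map_bijective K I⟩
  exact RDerived.isIso_unit_app_of_bijective DerivedCategory.Qh
    (HomotopyCategory.quasiIso X.Modules (ComplexShape.up ℤ)) _ _ (rpushUnit f) _
    fun K => CochainComplex.IsKInjective.Qh_map_bijective K I

lemma isRightDerived_rpush_comp (f : X ⟶ Y) [DCoh.HasRpush f] {H : Type*} [Category H]
    (T : DCoh.D Y ⥤ H) :
    (DCoh.Rpush f ⋙ T).IsRightDerivedFunctor
      (whiskerRight (rpushUnit f) T ≫ (Functor.associator _ _ _).hom)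
      (HomotopyCategory.quasiIso X.Modules (ComplexShape.up ℤ)) := by
  refine RDerived.isRightDerivedFunctor_of_isIso_local _ _ _ _ _ fun M => ?_
  obtain ⟨I, hI, s, hs⟩ := exists_local M
  refine ⟨_, s, hs, fun K => CochainComplex.IsKInjective.Qh_map_bijective K I, ?_⟩
  haveI := isIso_rpushUnit f I
  simp only [NatTrans.comp_app, associator_hom_app, whiskerRight_app]
  infer_instance

/-- `Lf^* ⊣ Rf_*`. -/
noncomputable def lpullRpushAdj (f : X ⟶ Y) [DCoh.HasLpull f] [DCoh.HasRpush f] :
    DCoh.Lpull f ⊣ DCoh.Rpush f :=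
  haveI := isLeftDerived_lpull_comp f (DCoh.Rpush f)
  haveI := isRightDerived_rpush_comp f (DCoh.Lpull f)
  (pullPushKAdj f).derived (HomotopyCategory.quasiIso Y.Modules (ComplexShape.up ℤ))
    (HomotopyCategory.quasiIso X.Modules (ComplexShape.up ℤ)) (lpullCounit f) (rpushUnit f)

/-- `(fg)^* = f^* g^*` on homotopy categories. -/
noncomputable def pullKComp (f : X ⟶ Y) (g : Y ⟶ Z) :
    (Scheme.Modules.pullback g).mapHomotopyCategory (ComplexShape.up ℤ) ⋙
        (Scheme.Modules.pullback f).mapHomotopyCategory (ComplexShape.up ℤ) ≅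
      (Scheme.Modules.pullback (f ≫ g)).mapHomotopyCategory (ComplexShape.up ℤ) :=
  NatIso.ofComponents (fun K => (HomotopyCategory.quotient _ _).mapIso
      ((NatIso.mapHomologicalComplex (Scheme.Modules.pullbackComp f g) _).app K.as))
    (by
      rintro ⟨K⟩ ⟨L⟩ ⟨φ⟩
      refine ((HomotopyCategory.quotient _ _).map_comp _ _).symm.trans (Eq.trans ?_
        ((HomotopyCategory.quotient _ _).map_comp _ _))
      refine congrArg (HomotopyCategory.quotient _ _).map ?_
      refine HomologicalComplex.hom_ext _ _ fun i => ?_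
      exact (Scheme.Modules.pullbackComp f g).hom.naturality (φ.f i))

/-- `L(fg)^* ≅ Lf^* Lg^*`. -/
theorem nonempty_lpullCompIso (f : X ⟶ Y) (g : Y ⟶ Z) [DCoh.HasLpull f] [DCoh.HasLpull g]
    [DCoh.HasLpull (f ≫ g)] :
    Nonempty (DCoh.Lpull g ⋙ DCoh.Lpull f ≅ DCoh.Lpull (f ≫ g)) := by
  let G := DCoh.Lpull g ⋙ DCoh.Lpull f
  let β : DerivedCategory.Qh ⋙ G ⟶ DCoh.pullKh (f ≫ g) :=
    (Functor.associator _ _ _).inv ≫ whiskerRight (lpullCounit g) (DCoh.Lpull f) ≫
      (Functor.associator _ _ _).hom ≫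
      whiskerLeft ((Scheme.Modules.pullback g).mapHomotopyCategory (ComplexShape.up ℤ))
        (lpullCounit f) ≫
      (Functor.associator _ _ _).inv ≫ whiskerRight (pullKComp f g).hom DerivedCategory.Qh
  haveI : G.IsLeftDerivedFunctor β (HomotopyCategory.quasiIso Z.Modules (ComplexShape.up ℤ)) := by
    refine isLeftDerived_of_resolved (f := f ≫ g) _
      (fun φ _ hK hK' => isIso_pullKh_map (f ≫ g) φ hK hK') _ _ (fun K hK => ?_)
    haveI := isIso_Lpull_counit g K hK
    haveI : IsIso ((lpullCounit f).app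
        (((Scheme.Modules.pullback g).mapHomotopyCategory (ComplexShape.up ℤ)).obj
          ((HomotopyCategory.quotient _ _).obj K))) :=
      isIso_Lpull_counit f _ (isKFlat_pullback g hK)
    simp only [β, NatTrans.comp_app, associator_hom_app, associator_inv_app, whiskerRight_app,
      whiskerLeft_app]
    infer_instance
  exact ⟨Functor.leftDerivedUnique (DCoh.Lpull (f ≫ g)) G β (lpullCounit (f ≫ g))
    (HomotopyCategory.quasiIso Z.Modules (ComplexShape.up ℤ))⟩

/-- `Rg_* Rf_* ≅ R(fg)_*`. -/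
theorem nonempty_rpushCompIso (f : X ⟶ Y) (g : Y ⟶ Z) [DCoh.HasRpush f] [DCoh.HasRpush g]
    [DCoh.HasRpush (f ≫ g)] :
    Nonempty (DCoh.Rpush f ⋙ DCoh.Rpush g ≅ DCoh.Rpush (f ≫ g)) := by
  haveI := hasLpull f
  haveI := hasLpull g
  haveI := hasLpull (f ≫ g)
  obtain ⟨e⟩ := nonempty_lpullCompIso f g
  exact ⟨(((lpullRpushAdj g).comp (lpullRpushAdj f)).ofNatIsoLeft e).rightAdjointUniq
    (lpullRpushAdj (f ≫ g))⟩

/-- `Rf_*` commutes with shifts. -/
@[instance_reducible]
noncomputable def rpushCommShift (f : X ⟶ Y) [DCoh.HasRpush f] : (DCoh.Rpush f).CommShift ℤ :=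
  haveI := hasLpull f
  letI := lpullCommShift f
  (lpullRpushAdj f).rightAdjointCommShift ℤ

/-- `Rf_*` is triangulated. -/
theorem rpush_isTriangulated (f : X ⟶ Y) [DCoh.HasRpush f] :
    letI := rpushCommShift f
    (DCoh.Rpush f).IsTriangulated := by
  haveI := hasLpull f
  letI := lpullCommShift f
  letI := rpushCommShift f
  haveI := lpull_isTriangulated f
  haveI : (lpullRpushAdj f).CommShift ℤ := (lpullRpushAdj f).commShift_of_leftAdjoint ℤ
  exact (lpullRpushAdj f).isTriangulated_rightAdjoint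

/-- `Rf_*` is a right adjoint. -/
theorem rpush_isRightAdjoint (f : X ⟶ Y) [DCoh.HasRpush f] : (DCoh.Rpush f).IsRightAdjoint :=
  haveI := hasLpull f
  (lpullRpushAdj f).isRightAdjoint

end Groth.Agent.H16Derived.KFlat.Stalk
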