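import Groth.Agent.H16Derived.KFlat.PerfTri

/-!
# Restriction and direct summands of pseudo-coherent objects
-/

set_option autoImplicit false
set_option linter.style.haveILetI false

universe u

open CategoryTheory CategoryTheory.Limits AlgebraicGeometry Pretriangulated

attribute [local instance] HasDerivedCategory.standard

namespace Groth.Agent.H16Derived.KFlat.Stalk

variable {X U W : Scheme.{u}}

theorem HasApprox.of_rd {m : ℤ} {k : W ⟶ U} {j : U ⟶ X} [IsOpenImmersion j] [IsOpenImmersion k]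
    {K : DCoh.D X} (h : HasApprox m k ((rd j).obj K)) : HasApprox m (k ≫ j) K := by
  obtain ⟨E, α, hE, hα⟩ := h
  exact ⟨E, α ≫ (rdComp k j _ rfl K).inv, hE, hα.comp (Approx.of_isIso m _)⟩

theorem HasPerfModel.of_rd {k : W ⟶ U} {j : U ⟶ X} [IsOpenImmersion j] [IsOpenImmersion k]
    {K : DCoh.D X} (h : HasPerfModel k ((rd j).obj K)) : HasPerfModel (k ≫ j) K := by
  obtain ⟨E, hE, ⟨α⟩⟩ := h
  exact ⟨E, hE, ⟨α ≪≫ (rdComp k j _ rfl K).symm⟩⟩

theorem HasApprox.to_rd {m : ℤ} {k : W ⟶ U} {j : U ⟶ X} [IsOpenImmersion j] [IsOpenImmersion k]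
    {K : DCoh.D X} (h : HasApprox m (k ≫ j) K) : HasApprox m k ((rd j).obj K) := by
  obtain ⟨E, α, hE, hα⟩ := h
  exact ⟨E, α ≫ (rdComp k j _ rfl K).hom, hE, hα.comp (Approx.of_isIso m _)⟩

theorem HasPerfModel.to_rd {k : W ⟶ U} {j : U ⟶ X} [IsOpenImmersion j] [IsOpenImmersion k]
    {K : DCoh.D X} (h : HasPerfModel (k ≫ j) K) : HasPerfModel k ((rd j).obj K) := by
  obtain ⟨E, hE, ⟨α⟩⟩ := h
  exact ⟨E, hE, ⟨α ≪≫ rdComp k j _ rfl K⟩⟩

/-- The factorisation of the inclusion of `j ⁻¹ V`. -/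
theorem exists_preimage_lift (j : U ⟶ X) [IsOpenImmersion j] (V : X.Opens) :
    ∃ (k : ((j ⁻¹ᵁ V : U.Opens) : Scheme.{u}) ⟶ (V : Scheme.{u})) (_ : IsOpenImmersion k),
      k ≫ V.ι = (j ⁻¹ᵁ V).ι ≫ j :=
  ⟨j ∣_ V, inferInstance, morphismRestrict_ι j V⟩

theorem isPseudoCoherentD_rd (j : U ⟶ X) [IsOpenImmersion j] {m : ℤ} {K : DCoh.D X}
    (h : DCoh.IsPseudoCoherentD m K) : DCoh.IsPseudoCoherentD m ((rd j).obj K) := by
  rw [isPseudoCoherentD_iff] at h ⊢
  intro u
  obtain ⟨V, hx, hV⟩ := h (j.base u)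
  obtain ⟨k, _, hk⟩ := exists_preimage_lift j V
  exact ⟨j ⁻¹ᵁ V, hx, HasApprox.to_rd (hV.pull k _ hk)⟩

theorem isPerfect_rd (j : U ⟶ X) [IsOpenImmersion j] {K : DCoh.D X}
    (h : DCoh.IsPerfect K) : DCoh.IsPerfect ((rd j).obj K) := by
  rw [isPerfect_iff] at h ⊢
  intro u
  obtain ⟨V, hx, hV⟩ := h (j.base u)
  obtain ⟨k, _, hk⟩ := exists_preimage_lift j V
  exact ⟨j ⁻¹ᵁ V, hx, HasPerfModel.to_rd (hV.pull k _ hk)⟩

/-- An object is pseudo-coherent if it is so on an open cover. -/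
theorem isPseudoCoherentD_of_rd {m : ℤ} {K : DCoh.D X}
    (h : ∀ x : X, ∃ (V : X.Opens), x ∈ V ∧ DCoh.IsPseudoCoherentD m ((rd V.ι).obj K)) :
    DCoh.IsPseudoCoherentD m K :=
  isPseudoCoherentD_of_local fun x => by
    obtain ⟨V, hx, hV⟩ := h x
    obtain ⟨W, hW, a⟩ := (isPseudoCoherentD_iff m _).1 hV ⟨x, hx⟩
    exact ⟨_, W.ι ≫ V.ι, inferInstance, ⟨⟨⟨x, hx⟩, hW⟩, rfl⟩, a.of_rd⟩

theorem isPerfect_of_rd {K : DCoh.D X}
    (h : ∀ x : X, ∃ (V : X.Opens), x ∈ V ∧ DCoh.IsPerfect ((rd V.ι).obj K)) :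
    DCoh.IsPerfect K :=
  isPerfect_of_local fun x => by
    obtain ⟨V, hx, hV⟩ := h x
    obtain ⟨W, hW, a⟩ := (isPerfect_iff _).1 hV ⟨x, hx⟩
    exact ⟨_, W.ι ≫ V.ι, inferInstance, ⟨⟨⟨x, hx⟩, hW⟩, rfl⟩, a.of_rd⟩

theorem isFinLocFree_of_isZero {M : X.Modules} (h : IsZero M) : FlatMod.IsFinLocFree M :=
  isFinLocFree_of_iso (IsZero.iso ((IsZero.iff_id_eq_zero _).2 (Sigma.hom_ext _ _ fun e => e.elim)) h)
    (isFinLocFree_sigma (fun e : Empty => (e.elim : X.Modules)) fun e => e.elim)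

theorem isStrictlyPerfect_of_isZero {E : CochainComplex X.Modules ℤ} (h : ∀ i, IsZero (E.X i)) :
    DCoh.IsStrictlyPerfect E :=
  ⟨⟨0, 0, fun i _ => h i⟩, fun i => isFinLocFree_of_isZero (h i)⟩

/-- Objects which are `≤ n` are pseudo-coherent in degrees above `n`. -/
theorem isPseudoCoherentD_of_isLE {K : DCoh.D X} (n m : ℤ) [K.IsLE n] (hm : n < m) :
    DCoh.IsPseudoCoherentD m K :=
  (isPseudoCoherentD_iff m K).2 fun x => by
    haveI := isLE_rd (⊤ : X.Opens).ι K n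
    obtain ⟨Z, hZ⟩ := HasZeroObject.zero (C := CochainComplex ((⊤ : X.Opens) : Scheme.{u}).Modules ℤ)
    refine ⟨⊤, trivial, Z, 0, isStrictlyPerfect_of_isZero fun i =>
      (HomologicalComplex.eval _ _ i).map_isZero hZ, fun i hi => ?_, ?_⟩
    · have hz : IsZero ((DerivedCategory.homologyFunctor _ i).obj
          (DerivedCategory.Q.obj Z)) :=
        (DerivedCategory.homologyFunctor _ i).map_isZero (DerivedCategory.Q.map_isZero hZ)
      exact isIso_of_source_target_iso_zero _ hz.isoZero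
        (DerivedCategory.isZero_of_isLE _ n i (by omega)).isoZero
    · exact epi_of_target_iso_zero _ (DerivedCategory.isZero_of_isLE _ n m hm).isoZero

/-- A pseudo-coherent object is locally bounded above. -/
theorem HasApprox.exists_isLE {m : ℤ} {j : U ⟶ X} [IsOpenImmersion j] {K : DCoh.D X}
    (h : HasApprox m j K) : ∃ n : ℤ, DerivedCategory.IsLE ((rd j).obj K) n := by
  obtain ⟨E, α, ⟨⟨p, q, hpq⟩, -⟩, hα⟩ := h
  refine ⟨max m q, (DerivedCategory.isLE_iff _ _).2 fun i hi => ?_⟩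
  haveI : CochainComplex.IsStrictlyLE E q :=
    (CochainComplex.isStrictlyLE_iff _ _).2 fun k hk => hpq k (Or.inr hk)
  haveI := hα.1 i (by omega)
  exact IsZero.of_iso (DerivedCategory.isZero_of_isLE (DerivedCategory.Q.obj E) q i (by omega))
    (asIso ((DerivedCategory.homologyFunctor _ i).map α)).symm

/-- Direct summands of pseudo-coherent objects are pseudo-coherent. -/
theorem isPseudoCoherentD_of_biprod {m : ℤ} (K L : DCoh.D X) [HasBinaryBiproduct K L]
    (h : DCoh.IsPseudoCoherentD m (K ⊞ L)) :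
    DCoh.IsPseudoCoherentD m K ∧ DCoh.IsPseudoCoherentD m L := by
  suffices key : ∀ x : X, ∃ V : X.Opens, x ∈ V ∧ DCoh.IsPseudoCoherentD m ((rd V.ι).obj K) ∧
      DCoh.IsPseudoCoherentD m ((rd V.ι).obj L) by
    exact ⟨isPseudoCoherentD_of_rd fun x => (key x).imp fun V hV => ⟨hV.1, hV.2.1⟩,
      isPseudoCoherentD_of_rd fun x => (key x).imp fun V hV => ⟨hV.1, hV.2.2⟩⟩
  intro x
  obtain ⟨V, hx, hV⟩ := (isPseudoCoherentD_iff m _).1 h x
  obtain ⟨N, hN⟩ := hV.exists_isLE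
  refine ⟨V, hx, ?_⟩
  let R := rd V.ι
  have hKL : DCoh.IsPseudoCoherentD m (R.obj (K ⊞ L)) := isPseudoCoherentD_rd V.ι h
  have hK : DerivedCategory.IsLE (R.obj K) N := (DerivedCategory.isLE_iff _ _).2 fun i hi =>
    (IsZero.iff_id_eq_zero _).2 (by
      have e := congrArg (R ⋙ DerivedCategory.homologyFunctor _ i).map (biprod.inl_fst (X := K) (Y := L))
      rw [Functor.map_comp, CategoryTheory.Functor.map_id] at e
      refine e.symm.trans ?_
      rw [(DerivedCategory.isZero_of_isLE (R.obj (K ⊞ L)) N i hi).eq_of_tgt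
        ((R ⋙ DerivedCategory.homologyFunctor _ i).map _) 0]
      exact zero_comp)
  have hL : DerivedCategory.IsLE (R.obj L) N := (DerivedCategory.isLE_iff _ _).2 fun i hi =>
    (IsZero.iff_id_eq_zero _).2 (by
      have e := congrArg (R ⋙ DerivedCategory.homologyFunctor _ i).map (biprod.inr_snd (X := K) (Y := L))
      rw [Functor.map_comp, CategoryTheory.Functor.map_id] at e
      refine e.symm.trans ?_
      rw [(DerivedCategory.isZero_of_isLE (R.obj (K ⊞ L)) N i hi).eq_of_tgt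
        ((R ⋙ DerivedCategory.homologyFunctor _ i).map _) 0]
      exact zero_comp)
  have hT₁ := R.map_distinguished _ (binaryBiproductTriangle_distinguished K L)
  have hT₂ : R.mapTriangle.obj (Triangle.mk (biprod.inr : L ⟶ K ⊞ L) biprod.fst 0) ∈
      distTriang (DCoh.D (V : Scheme.{u})) := by
    refine R.map_distinguished _ (isomorphic_distinguished _
      (binaryBiproductTriangle_distinguished L K) _
      (Triangle.isoMk _ _ (Iso.refl _) (biprod.braiding K L) (Iso.refl _) ?_ ?_ ?_))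
    · simp only [binaryBiproductTriangle, biprod.braiding]
      show biprod.inr ≫ biprod.lift biprod.snd biprod.fst = 𝟙 L ≫ biprod.inl
      apply biprod.hom_ext <;> simp
    · simp only [binaryBiproductTriangle, biprod.braiding]
      show biprod.fst ≫ 𝟙 K = biprod.lift biprod.snd biprod.fst ≫ biprod.snd
      simp
    · simp only [binaryBiproductTriangle]
      exact zero_comp.trans comp_zero.symm
  have step : ∀ k : ℕ, ∀ n : ℤ, m ≤ n → N + 1 - k ≤ n →
      DCoh.IsPseudoCoherentD n (R.obj K) ∧ DCoh.IsPseudoCoherentD n (R.obj L) := by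
    intro k
    induction k with
    | zero =>
      intro n _ hn
      haveI := hK
      haveI := hL
      exact ⟨isPseudoCoherentD_of_isLE N n (by omega), isPseudoCoherentD_of_isLE N n (by omega)⟩
    | succ k ih =>
      intro n hmn hn
      obtain ⟨a, b⟩ := ih (n + 1) (by omega) (by omega)
      have hn' : DCoh.IsPseudoCoherentD n (R.obj (K ⊞ L)) := by
        rw [isPseudoCoherentD_iff] at hKL ⊢
        exact fun y => (hKL y).imp fun W hW => ⟨hW.1, hW.2.mono_deg hmn⟩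
      exact ⟨isPseudoCoherentD_obj₃ hT₂ b hn', isPseudoCoherentD_obj₃ hT₁ a hn'⟩
  exact step (N + 1 - m).toNat m le_rfl (by omega)

end Groth.Agent.H16Derived.KFlat.Stalk
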