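import Groth.Agent.H16Derived.KFlat.PerfSummand
import Groth.Agent.H06EGA11.InjFlat
import Groth.Agent.H06EGA9.FlatConstructible
import Groth.Agent.H8Props.FinLocFree.Sheaf

/-!
# Truncations of pseudo-coherent objects which are strictly perfect
-/

set_option autoImplicit false
set_option linter.style.haveILetI false

universe u

open CategoryTheory CategoryTheory.Limits AlgebraicGeometry Pretriangulated

attribute [local instance] HasDerivedCategory.standard

namespace Groth.Agent.H16Derived.KFlat.Stalk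

variable {X U : Scheme.{u}}

/-- A map out of a strictly perfect complex which vanishes in the derived category is locally null
homotopic. -/
theorem exists_homotopy_of_Q_eq {P T : CochainComplex X.Modules ℤ} (hP : DCoh.IsStrictlyPerfect P)
    {f g : P ⟶ T} (h : DerivedCategory.Q.map f = DerivedCategory.Q.map g) (x : X) :
    ∃ V : X.Opens, x ∈ V ∧ Nonempty (Homotopy ((DCoh.restrictCx V).map f) ((DCoh.restrictCx V).map g)) := by
  let q := HomotopyCategory.quotient X.Modules (ComplexShape.up ℤ)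
  obtain ⟨a, b, hab⟩ := hP.1
  have h' : DerivedCategory.Qh.map (q.map f) = DerivedCategory.Qh.map (q.map g) := by
    have e := DerivedCategory.quotientCompQhIso X.Modules
    rw [← cancel_mono ((DerivedCategory.quotientCompQhIso X.Modules).hom.app T)]
    exact ((DerivedCategory.quotientCompQhIso X.Modules).hom.naturality f).trans
      ((congrArg _ h).trans ((DerivedCategory.quotientCompQhIso X.Modules).hom.naturality g).symm)
  obtain ⟨Z, s, hs, hz⟩ := (MorphismProperty.map_eq_iff_postcomp DerivedCategory.Qh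
    (HomotopyCategory.quasiIso X.Modules (ComplexShape.up ℤ)) _ _).1 h'
  obtain ⟨G, rfl⟩ := HomotopyCategory.quotient_obj_surjective Z
  obtain ⟨s₀, rfl⟩ := q.map_surjective s
  have hqs : QuasiIso s₀ := (HomotopyCategory.quotient_map_mem_quasiIso_iff _).1 hs
  let Tr := (CochainComplex.mappingCone.triangleh s₀).invRotate
  have hTr : Tr ∈ distTriang (HomotopyCategory X.Modules (ComplexShape.up ℤ)) :=
    inv_rot_of_distTriang _ (HomotopyCategory.mappingCone_triangleh_distinguished s₀)
  obtain ⟨w, hw⟩ := Triangle.coyoneda_exact₂ Tr hTr (q.map f - q.map g) (by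
    show (q.map f - q.map g) ≫ q.map s₀ = 0
    rw [Preadditive.sub_comp, hz, sub_self])
  let i := (q.commShiftIso (-1 : ℤ)).app (CochainComplex.mappingCone s₀)
  obtain ⟨w₀, hw₀⟩ := q.map_surjective (w ≫ i.inv)
  have hC : ∀ k : ℤ, a ≤ k → IsZero ((((CochainComplex.mappingCone s₀)⟦(-1 : ℤ)⟧ :
      CochainComplex X.Modules ℤ)).homology k) := by
    intro k _
    haveI : IsIso (DerivedCategory.Q.map s₀) := isIso_Q_map _ hqs
    have hz0 : IsZero (DerivedCategory.Q.obj (CochainComplex.mappingCone s₀)) :=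
      Triangle.isZero₃_of_isIso₁ _ (DerivedCategory.mappingCone_triangle_distinguished s₀)
        (by assumption)
    exact IsZero.of_iso ((DerivedCategory.homologyFunctor X.Modules k).map_isZero
      (IsZero.of_iso ((shiftFunctor (DCoh.D X) (-1 : ℤ)).map_isZero hz0)
        ((DerivedCategory.Q.commShiftIso (-1 : ℤ)).app _)))
      ((DerivedCategory.homologyFunctorFactors X.Modules k).app _).symm
  obtain ⟨V, hw', hx, hh⟩ := exists_nullHomotopic w₀ hP a (fun i hi => hab i (Or.inl hi)) hC x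
  obtain ⟨H⟩ := nonempty_homotopy_of_partial hh
  obtain ⟨m₁, hm₁⟩ := q.map_surjective (i.hom ≫ Tr.mor₁)
  have e : q.map (f - g) = q.map (w₀ ≫ m₁) := by
    rw [Functor.map_sub, hw, Functor.map_comp, hw₀, hm₁]
    exact ((Category.assoc _ _ _).trans (congrArg (w ≫ ·) (i.inv_hom_id_assoc _))).symm
  let H₁ := (DCoh.restrictCx V)
  let K₁ : Homotopy (H₁.map (f - g)) 0 :=
    ((Scheme.Modules.restrictFunctor V.ι).mapHomotopy (HomotopyCategory.homotopyOfEq _ _ e)).trans
      ((Homotopy.ofEq (H₁.map_comp w₀ m₁)).trans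
        ((H.compRight (H₁.map m₁)).trans (Homotopy.ofEq zero_comp)))
  exact ⟨V, hx, ⟨(Homotopy.ofEq (((congrArg H₁.map (sub_add_cancel f g)).symm).trans (H₁.map_add))).trans
    (((K₁.add (Homotopy.refl (H₁.map g)))).trans (Homotopy.ofEq (zero_add _)))⟩⟩

/-- Being finite locally free is local. -/
theorem isFinLocFree_of_local {M : X.Modules}
    (h : ∀ x : X, ∃ (U : Scheme.{u}) (j : U ⟶ X) (_ : IsOpenImmersion j),
      x ∈ j.opensRange ∧ FlatMod.IsFinLocFree ((Scheme.Modules.restrictFunctor j).obj M)) :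
    FlatMod.IsFinLocFree M :=
  (isFinLocFree_iff M).2 fun x => by
    obtain ⟨U, j, _, hx, hM⟩ := h x
    have hM' : FlatMod.IsFinLocFree ((Scheme.Modules.pullback j.opensRange.ι).obj M) :=
      isFinLocFree_of_iso ((Scheme.Modules.pullback j.isoOpensRange.inv).mapIso
          ((Scheme.Modules.restrictFunctorIsoPullback j).app M) ≪≫
        (Scheme.Modules.pullbackComp j.isoOpensRange.inv j ≪≫
          Scheme.Modules.pullbackCongr j.isoOpensRange_inv_comp).app M)
        (isFinLocFree_pullback _ hM)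
    obtain ⟨W, hW, hfree⟩ := (isFinLocFree_iff _).1 hM' ⟨x, hx⟩
    refine ⟨(W.ι ≫ j.opensRange.ι).opensRange, ⟨⟨⟨x, hx⟩, hW⟩, rfl⟩, ?_⟩
    exact IsFreeFin.of_iso ((Scheme.Modules.pullback _).mapIso
        ((Scheme.Modules.pullbackComp W.ι j.opensRange.ι).app M) ≪≫
      (Scheme.Modules.pullbackComp (W.ι ≫ j.opensRange.ι).isoOpensRange.inv _ ≪≫
        Scheme.Modules.pullbackCongr (Scheme.Hom.isoOpensRange_inv_comp _)).app M)
      (IsFreeFin.pullback (W.ι ≫ j.opensRange.ι).isoOpensRange.inv hfree)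

theorem isFP_of_iso {M N : X.Modules} (e : M ≅ N) (h : CohB1.IsFP M) : CohB1.IsFP N := by
  haveI : M.IsQuasicoherent := H29Fitt.isQCoh_of_isFP M h
  haveI : N.IsQuasicoherent := H10Coh.isQuasicoherent_of_iso e
  refine H29Omega.isFP_of_affineCover N (fun U : X.affineOpens => (U : X.Opens))
    (iSup_affineOpens_eq_top X) (fun U => U.2) fun U => ?_
  haveI := H8Props.FinLocFree.finitePresentation_sections M h U.2
  exact Module.FinitePresentation.of_equiv (LinearEquiv.ofLinear (H29Fitt.appLin e.hom U.1)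
    (H29Fitt.appLin e.inv U.1) (LinearMap.ext fun z => congr(($(e.inv_hom_id)).app U.1 z))
    (LinearMap.ext fun z => congr(($(e.hom_inv_id)).app U.1 z)))

theorem isFP_restrict (j : U ⟶ X) [IsOpenImmersion j] {M : X.Modules} (h : CohB1.IsFP M) :
    CohB1.IsFP ((Scheme.Modules.restrictFunctor j).obj M) :=
  isFP_of_iso ((Scheme.Modules.restrictFunctorIsoPullback j).symm.app M)
    (H06EGA9.isFP_pullback j h)

/-- A finitely presented flat module is finite locally free. -/
theorem isFinLocFree_of_isFP_flat {M : X.Modules} (hfp : CohB1.IsFP M) (hfl : FlatMod.IsFlat M) :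
    FlatMod.IsFinLocFree M :=
  H8Props.FinLocFree.isFinLocFree_of_flat_of_isFP M (H29Fitt.isQCoh_of_isFP M hfp) hfl hfp

/-- If the projection to a degree `a` cokernel factors up to homotopy through a complex with finite
locally free terms then that cokernel is finite locally free. -/
theorem isFinLocFree_coker_of_homotopy {P E T : CochainComplex U.Modules ℤ} (a : ℤ) (q : P ⟶ T)
    [Epi (q.f a)] (w : P.d (a - 1) a ≫ q.f a = 0) (hq : (ShortComplex.mk _ _ w).Exact)
    (hT : IsZero (T.X (a - 1))) (hE : IsZero (E.X (a - 1)))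
    (hP : FlatMod.IsFinLocFree (P.X (a + 1))) (hEa : FlatMod.IsFinLocFree (E.X a))
    (hfp : CohB1.IsFP (T.X a)) (j : P ⟶ E) (p : E ⟶ T) (H : Homotopy (j ≫ p) q) :
    FlatMod.IsFinLocFree (T.X a) := by
  let hc := hq.gIsCokernel
  obtain ⟨i, hi⟩ := CokernelCofork.IsColimit.desc' hc (j.f a) (by
    show P.d (a - 1) a ≫ j.f a = 0
    rw [← j.comm, hE.eq_of_src (E.d (a - 1) a) 0, comp_zero])
  obtain ⟨d, hd⟩ := CokernelCofork.IsColimit.desc' hc (P.d a (a + 1)) (P.d_comp_d _ _ _)
  change q.f a ≫ i = j.f a at hi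
  change q.f a ≫ d = P.d a (a + 1) at hd
  have e := H.comm a
  rw [dNext_eq _ (show (ComplexShape.up ℤ).Rel a (a + 1) from rfl),
    prevD_eq _ (show (ComplexShape.up ℤ).Rel (a - 1) a by simp),
    hT.eq_of_tgt (H.hom a (a - 1)) 0, zero_comp, add_zero, HomologicalComplex.comp_f] at e
  have key : i ≫ p.f a - d ≫ H.hom (a + 1) a = 𝟙 _ := by
    refine (cancel_epi (q.f a)).1 ?_
    erw [Preadditive.comp_sub, reassoc_of% hi, reassoc_of% hd, Category.comp_id]
    exact (sub_eq_iff_eq_add'.2 e).trans (Category.comp_id _).symm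
  refine isFinLocFree_of_isFP_flat hfp (isFlat_of_retract (biprod.lift i d)
    (biprod.desc (p.f a) (-H.hom (a + 1) a)) ?_
    (isFlat_of_isFinLocFree (isFinLocFree_biprod hEa hP)))
  rw [biprod.lift_desc, Preadditive.comp_neg, ← sub_eq_add_neg, key]
  rfl

/-- Locally, a retraction in the derived category forces the cokernel to be finite locally free. -/
theorem isFinLocFree_coker_of_retract {P E T : CochainComplex U.Modules ℤ} (a : ℤ)
    (hPs : DCoh.IsStrictlyPerfect P) (hEs : DCoh.IsStrictlyPerfect E) (q : P ⟶ T)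
    [Epi (q.f a)] (w : P.d (a - 1) a ≫ q.f a = 0) (hq : (ShortComplex.mk _ _ w).Exact)
    (hT : IsZero (T.X (a - 1))) (hE : IsZero (E.X (a - 1))) (hfp : CohB1.IsFP (T.X a))
    (u : DerivedCategory.Q.obj P ⟶ DerivedCategory.Q.obj E) (p : E ⟶ T)
    (h : u ≫ DerivedCategory.Q.map p = DerivedCategory.Q.map q) :
    FlatMod.IsFinLocFree (T.X a) := by
  refine isFinLocFree_of_local fun x => ?_
  obtain ⟨l, l', hl⟩ := hPs.1
  obtain ⟨V, j, hxV, hj⟩ := exists_lift hPs l (fun i hi => hl i (Or.inl hi))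
    (𝟙 (DerivedCategory.Q.obj E)) (Approx.of_isIso l _) u x
  let R := DCoh.restrictCx V
  have e : DerivedCategory.Q.map (j ≫ R.map p) = DerivedCategory.Q.map (R.map q) := by
    rw [← cancel_mono ((rdQ V.ι).inv.app T), ← cancel_epi ((rdQ V.ι).hom.app P)]
    have np := (rdQ V.ι).inv.naturality p
    have nq := (rdQ V.ι).inv.naturality q
    dsimp at np nq
    rw [Functor.map_comp, Category.assoc, np, nq, Iso.hom_inv_id_app_assoc, ← h, Functor.map_comp,
      ← hj]
    simp
  obtain ⟨W, hxW, ⟨H⟩⟩ := exists_homotopy_of_Q_eq (isStrictlyPerfect_rd V.ι hPs) e ⟨x, hxV⟩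
  refine ⟨_, W.ι ≫ V.ι, inferInstance, ⟨⟨⟨x, hxV⟩, hxW⟩, rfl⟩, isFinLocFree_of_iso
    ((Scheme.Modules.restrictFunctorComp W.ι V.ι).app (T.X a)).symm ?_⟩
  let R' := DCoh.restrictCx W
  let S := Scheme.Modules.restrictFunctor V.ι ⋙ Scheme.Modules.restrictFunctor W.ι
  haveI : Epi ((R'.map (R.map q)).f a) := inferInstanceAs (Epi (S.map (q.f a)))
  have w' : (R'.obj (R.obj P)).d (a - 1) a ≫ (R'.map (R.map q)).f a = 0 :=
    (S.map_comp _ _).symm.trans ((congrArg S.map w).trans (S.map_zero _ _))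
  refine isFinLocFree_coker_of_homotopy (E := R'.obj (R.obj E)) a (R'.map (R.map q)) w' (hq.map S)
    (S.map_isZero hT) (S.map_isZero hE) ((isStrictlyPerfect_rd W.ι (isStrictlyPerfect_rd V.ι hPs)).2 _)
    ((isStrictlyPerfect_rd W.ι (isStrictlyPerfect_rd V.ι hEs)).2 _) ?_
    (R'.map j) (R'.map (R.map p)) ((Homotopy.ofEq (R'.map_comp _ _).symm).trans H)
  exact isFP_restrict W.ι (isFP_restrict V.ι hfp)

section Trunc

variable (P : CochainComplex X.Modules ℤ) (a : ℤ)

theorem πTruncGE_f_eq :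
    ∃ e : (P.truncGE a).X a ≅ P.opcycles a, (P.πTruncGE a).f a ≫ e.hom = P.pOpcycles a := by
  have h0 : (ComplexShape.embeddingUpIntGE a).f 0 = a := by simp
  have hb : (ComplexShape.embeddingUpIntGE a).BoundaryGE 0 := by
    rw [ComplexShape.boundaryGE_embeddingUpIntGE_iff]
  refine ⟨(P.truncGE' (ComplexShape.embeddingUpIntGE a)).extendXIso _ h0 ≪≫
    P.truncGE'XIsoOpcycles (ComplexShape.embeddingUpIntGE a) h0 hb, ?_⟩
  show ((ComplexShape.embeddingUpIntGE a).liftExtend _ (HomologicalComplex.restrictionToTruncGE'_hasLift P _)).f a ≫ _ = _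
  rw [(ComplexShape.embeddingUpIntGE a).liftExtend_f _ _ h0,
    HomologicalComplex.restrictionToTruncGE'_f_eq_iso_hom_pOpcycles_iso_inv P _ h0 hb, Iso.trans_hom]
  erw [Category.assoc, Category.assoc, Category.assoc, Category.assoc, Iso.inv_hom_id_assoc,
    Iso.inv_hom_id_assoc, Iso.inv_hom_id, Category.comp_id]

theorem truncGE_data :
    ∃ (w : P.d (a - 1) a ≫ (P.πTruncGE a).f a = 0), (ShortComplex.mk _ _ w).Exact := by
  obtain ⟨e, he⟩ := πTruncGE_f_eq P a
  have w : P.d (a - 1) a ≫ (P.πTruncGE a).f a = 0 := by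
    rw [← cancel_mono e.hom, Category.assoc, he, zero_comp, HomologicalComplex.d_pOpcycles]
  refine ⟨w, ShortComplex.exact_of_iso (S₁ := ShortComplex.mk _ _ (P.d_pOpcycles (a - 1) a)) ?_
    (ShortComplex.exact_of_g_is_cokernel _ (P.opcyclesIsCokernel (a - 1) a (by simp)))⟩
  exact ShortComplex.isoMk (Iso.refl _) (Iso.refl _) e.symm (by simp)
    (by simp [← he])

theorem isFP_truncGE {P : CochainComplex X.Modules ℤ} (hP : DCoh.IsStrictlyPerfect P) (a : ℤ) :
    CohB1.IsFP ((P.truncGE a).X a) := by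
  obtain ⟨e, -⟩ := πTruncGE_f_eq P a
  have i : cokernel (P.d (a - 1) a) ≅ (P.truncGE a).X a :=
    (cokernelIsCokernel (P.d (a - 1) a)).coconePointUniqueUpToIso
      (P.opcyclesIsCokernel (a - 1) a (by simp)) ≪≫ e.symm
  exact isFP_of_iso i (H06EGA11.isFP_cokernel (H8Props.FinLocFree.isFP_of_isFinLocFree _ (hP.2 _))
    (H8Props.FinLocFree.isFP_of_isFinLocFree _ (hP.2 _)) _)

/-- The canonical truncation of a strictly perfect complex with finite locally free cokernel. -/
theorem isStrictlyPerfect_truncGE {P : CochainComplex X.Modules ℤ} (hP : DCoh.IsStrictlyPerfect P)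
    (a : ℤ) (h : FlatMod.IsFinLocFree ((P.truncGE a).X a)) :
    DCoh.IsStrictlyPerfect (P.truncGE a) := by
  obtain ⟨⟨p, q, hpq⟩, hf⟩ := hP
  refine ⟨⟨a, max a q, fun i hi => ?_⟩, fun i => ?_⟩
  · rcases hi with hi | hi
    · exact (P.truncGE a).isZero_of_isStrictlyGE a i hi
    · exact (hpq i (Or.inr (by omega))).of_iso (P.truncGEXIso a i (by omega))
  · rcases lt_trichotomy i a with hi | rfl | hi
    · exact isFinLocFree_of_isZero ((P.truncGE a).isZero_of_isStrictlyGE a i hi)
    · exact h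
    · exact isFinLocFree_of_iso (P.truncGEXIso a i hi).symm (hf i)

/-- A map to a complex in degrees `≥ a` which is bijective on cohomology there factors through a
quasi-isomorphism from the truncation. -/
theorem exists_factor_truncGE {E : CochainComplex X.Modules ℤ} (π : P ⟶ E) [E.IsStrictlyGE a]
    (h : ∀ i, a ≤ i → IsIso (HomologicalComplex.homologyMap π i)) :
    ∃ β : P.truncGE a ⟶ E, QuasiIso β ∧ P.πTruncGE a ≫ β = π := by
  haveI : IsIso (E.πTruncGE a) := (CochainComplex.isIso_πTruncGE_iff E a).2 inferInstance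
  haveI : QuasiIso (CochainComplex.truncGEMap π a) :=
    (CochainComplex.quasiIso_truncGEMap_iff π a).2 fun i hi => by
      rw [quasiIsoAt_iff_isIso_homologyMap]; exact h i hi
  exact ⟨CochainComplex.truncGEMap π a ≫ inv (E.πTruncGE a), inferInstance,
    by rw [← Category.assoc, CochainComplex.πTruncGE_naturality, Category.assoc, IsIso.hom_inv_id,
      Category.comp_id]⟩

end Trunc

end Groth.Agent.H16Derived.KFlat.Stalk
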