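import Groth.Agent.H16Derived.KFlat.GammaAcyclic

/-!
# Derived global sections and direct images
-/

set_option autoImplicit false
set_option linter.style.haveILetI false

universe u

open CategoryTheory CategoryTheory.Limits CategoryTheory.Functor AlgebraicGeometry Opposite TopologicalSpace

attribute [local instance] HasDerivedCategory.standard

namespace Groth.Agent.H16Derived.KFlat.GammaAcyclic

open Groth.Agent.H16Derived.KFlat.Stalk

variable {X Y : Scheme.{u}}

/-- The unit of `RΓ`. -/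
noncomputable abbrev gammaUnit (X : Scheme.{u}) [DCoh.HasRΓ X] :
    DCoh.gammaKh X ⟶ DerivedCategory.Qh ⋙ DCoh.RΓ X :=
  (DCoh.gammaKh X).totalRightDerivedUnit DerivedCategory.Qh
    (HomotopyCategory.quasiIso X.Modules (ComplexShape.up ℤ))

theorem hasPointwise_gammaKh (X : Scheme.{u}) :
    (DCoh.gammaKh X).HasPointwiseRightDerivedFunctor
      (HomotopyCategory.quasiIso X.Modules (ComplexShape.up ℤ)) :=
  RDerived.hasPointwiseRightDerivedFunctor_of_resolutions DerivedCategory.Qh _ _ fun M => by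
    obtain ⟨I, hI, s, hs⟩ := exists_local M
    exact ⟨_, s, hs, fun K => CochainComplex.IsKInjective.Qh_map_bijective K I⟩

theorem hasRΓ (X : Scheme.{u}) : DCoh.HasRΓ X :=
  haveI := hasPointwise_gammaKh X
  inferInstance

theorem hasRpush (f : X ⟶ Y) : DCoh.HasRpush f :=
  haveI : (DCoh.pushKh f).HasPointwiseRightDerivedFunctor
      (HomotopyCategory.quasiIso X.Modules (ComplexShape.up ℤ)) :=
    RDerived.hasPointwiseRightDerivedFunctor_of_resolutions DerivedCategory.Qh _ _ fun M => by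
      obtain ⟨I, hI, s, hs⟩ := exists_local M
      exact ⟨_, s, hs, fun K => CochainComplex.IsKInjective.Qh_map_bijective K I⟩
  inferInstance

/-- `RΓ(X, I) = Γ(X, I)` for K-injective `I`. -/
theorem isIso_gammaUnit (X : Scheme.{u}) [DCoh.HasRΓ X] (I : CochainComplex X.Modules ℤ)
    [I.IsKInjective] : IsIso ((gammaUnit X).app ((HomotopyCategory.quotient _ _).obj I)) :=
  haveI := hasPointwise_gammaKh X
  RDerived.isIso_unit_app_of_bijective DerivedCategory.Qh
    (HomotopyCategory.quasiIso X.Modules (ComplexShape.up ℤ)) _ _ (gammaUnit X) _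
    fun K => CochainComplex.IsKInjective.Qh_map_bijective K I

/-- `RΓ(Y, f_* B) = Γ(Y, f_* B)` for K-injective `B`. -/
theorem isIso_gammaUnit_pushforward (f : X ⟶ Y) [DCoh.HasRΓ Y] (B : CochainComplex X.Modules ℤ)
    [B.IsKInjective] :
    IsIso ((gammaUnit Y).app ((HomotopyCategory.quotient _ _).obj
      (((Scheme.Modules.pushforward f).mapHomologicalComplex (ComplexShape.up ℤ)).obj B))) := by
  obtain ⟨N, j, hN⟩ := KInjRes.exists_resolution_functor (A := Y.Modules)
  let M := ((Scheme.Modules.pushforward f).mapHomologicalComplex (ComplexShape.up ℤ)).obj B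
  let r : M ⟶ N.obj M := j.app M
  haveI : QuasiIso r := (hN M).2.1
  haveI : CochainComplex.IsKInjective (N.obj M) := (hN M).2.2.1
  let qY := HomotopyCategory.quotient Y.Modules (ComplexShape.up ℤ)
  haveI : IsIso ((gammaUnit Y).app (qY.obj (N.obj M))) := isIso_gammaUnit Y (N.obj M)
  haveI : IsIso ((DerivedCategory.Qh (C := Y.Modules)).map (qY.map r)) :=
    Localization.inverts DerivedCategory.Qh (HomotopyCategory.quasiIso Y.Modules (ComplexShape.up ℤ)) _
      ((HomotopyCategory.quotient_map_mem_quasiIso_iff _).2 ‹QuasiIso r›)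
  haveI : IsIso ((DCoh.gammaKh Y).map (qY.map r)) :=
    Localization.inverts DerivedCategory.Qh (HomotopyCategory.quasiIso AddCommGrpCat.{u} (ComplexShape.up ℤ)) _
      ((HomotopyCategory.quotient_map_mem_quasiIso_iff _).2 (quasiIso_gamma_map f B (N.obj M) r))
  haveI : IsIso ((DerivedCategory.Qh ⋙ DCoh.RΓ Y).map (qY.map r)) :=
    Functor.map_isIso (DCoh.RΓ Y) (DerivedCategory.Qh.map (qY.map r))
  haveI : IsIso ((gammaUnit Y).app (qY.obj M) ≫ (DerivedCategory.Qh ⋙ DCoh.RΓ Y).map (qY.map r)) := by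
    rw [← (gammaUnit Y).naturality]
    infer_instance
  exact IsIso.of_isIso_comp_right _ ((DerivedCategory.Qh ⋙ DCoh.RΓ Y).map (qY.map r))

/-- The same over an open of the target. -/
theorem isIso_gammaUnit_pushforward_restrict (f : X ⟶ Y) (U : Y.Opens) [DCoh.HasRΓ (U : Scheme.{u})]
    (B : CochainComplex X.Modules ℤ) [B.IsKInjective] :
    IsIso ((gammaUnit (U : Scheme.{u})).app ((HomotopyCategory.quotient _ _).obj
      ((DCoh.restrictCx U).obj (((Scheme.Modules.pushforward f).mapHomologicalComplex (ComplexShape.up ℤ)).obj B)))) := by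
  haveI := isKInjective_restrict (f ⁻¹ᵁ U) B
  exact (NatTrans.isIso_app_iff_of_iso (gammaUnit (U : Scheme.{u}))
    ((HomotopyCategory.quotient _ _).mapIso
      ((NatIso.mapHomologicalComplex (pushRestrictNatIso f U) (ComplexShape.up ℤ)).app B))).2
    (isIso_gammaUnit_pushforward (f ∣_ U) ((DCoh.restrictCx (f ⁻¹ᵁ U)).obj B))

/-- `RΓ(Y, Rf_* -) = RΓ(X, -)`. -/
theorem nonempty_rpush_RΓ_iso (f : X ⟶ Y) [DCoh.HasRpush f] [DCoh.HasRΓ X] [DCoh.HasRΓ Y] :
    Nonempty (DCoh.Rpush f ⋙ DCoh.RΓ Y ≅ DCoh.RΓ X) := by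
  let e : DCoh.gammaKh X ≅ (Scheme.Modules.pushforward f).mapHomotopyCategory (ComplexShape.up ℤ) ⋙
      DCoh.gammaKh Y :=
    NatIso.ofComponents (fun _ => Iso.refl _) (by
      rintro ⟨K⟩ ⟨L⟩ ⟨φ⟩
      exact (Category.comp_id _).trans (Category.id_comp _).symm)
  let α : DCoh.gammaKh X ⟶ DerivedCategory.Qh ⋙ DCoh.Rpush f ⋙ DCoh.RΓ Y :=
    e.hom ≫ whiskerLeft ((Scheme.Modules.pushforward f).mapHomotopyCategory (ComplexShape.up ℤ)) (gammaUnit Y) ≫
      (Functor.associator _ _ _).inv ≫ whiskerRight (rpushUnit f) (DCoh.RΓ Y) ≫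
      (Functor.associator _ _ _).hom
  haveI : (DCoh.Rpush f ⋙ DCoh.RΓ Y).IsRightDerivedFunctor α
      (HomotopyCategory.quasiIso X.Modules (ComplexShape.up ℤ)) := by
    refine RDerived.isRightDerivedFunctor_of_isIso_local _ _ _ _ _ fun M => ?_
    obtain ⟨I, hI, s, hs⟩ := exists_local M
    refine ⟨_, s, hs, fun K => CochainComplex.IsKInjective.Qh_map_bijective K I, ?_⟩
    haveI := isIso_rpushUnit f I
    haveI : IsIso ((gammaUnit Y).app
        (((Scheme.Modules.pushforward f).mapHomotopyCategory (ComplexShape.up ℤ)).obj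
          ((HomotopyCategory.quotient _ _).obj I))) := isIso_gammaUnit_pushforward f I
    simp only [α, NatTrans.comp_app, associator_hom_app, associator_inv_app, whiskerRight_app,
      whiskerLeft_app]
    infer_instance
  exact ⟨Functor.rightDerivedUnique (DCoh.Rpush f ⋙ DCoh.RΓ Y) (DCoh.RΓ X) α (gammaUnit X)
    (HomotopyCategory.quasiIso X.Modules (ComplexShape.up ℤ))⟩

/-- `RΓ(U, -|_U) = RΓ(V, (Rf_* -)|_V)`, `U = f⁻¹ V`. -/
theorem nonempty_restrict_rpush_RΓ_iso (f : X ⟶ Y) (V : Y.Opens) [DCoh.HasRpush f]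
    [DCoh.HasRΓ (V : Scheme.{u})] [DCoh.HasRΓ (f ⁻¹ᵁ V : Scheme.{u})] :
    Nonempty (DCoh.restrictD (f ⁻¹ᵁ V).ι ⋙ DCoh.RΓ (f ⁻¹ᵁ V : Scheme.{u}) ≅
      DCoh.Rpush f ⋙ DCoh.restrictD V.ι ⋙ DCoh.RΓ (V : Scheme.{u})) := by
  haveI := hasRpush (f ∣_ V)
  obtain ⟨a⟩ := nonempty_restrictD_rpush_iso f V
  obtain ⟨b⟩ := nonempty_rpush_RΓ_iso (f ∣_ V)
  exact ⟨Functor.isoWhiskerLeft _ b.symm ≪≫ (Functor.associator _ _ _).symm ≪≫
    Functor.isoWhiskerRight a.symm _ ≪≫ Functor.associator _ _ _⟩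

end Groth.Agent.H16Derived.KFlat.GammaAcyclic
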