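import Groth.Agent.H16Derived.KFlat.PerfFibre
import Groth.Agent.H16Derived.KFlat.PerfRegular
import Groth.Agent.H29Fitt.FreeLocal
import Mathlib.RingTheory.LocalRing.Module

/-!
# Perfect objects with locally free cohomology, or with fibres concentrated in one degree
-/

set_option autoImplicit false
set_option linter.style.haveILetI false
set_option linter.unusedSectionVars false

universe u

open CategoryTheory CategoryTheory.Limits AlgebraicGeometry Pretriangulated TensorProduct

attribute [local instance] HasDerivedCategory.standard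

namespace Groth.Agent.H16Derived.KFlat.Stalk

section Algebra

variable {R : Type u} [CommRing R] [IsLocalRing R] {C S C' : Type u} [AddCommGroup C] [Module R C]
  [Module.Finite R C] [AddCommGroup S] [Module R S] [Module.Finite R S] [Module.Free R S]
  [AddCommGroup C'] [Module R C'] [Module.Finite R C']

local notation "κ" => IsLocalRing.ResidueField R

theorem step_up (g : C →ₗ[R] S) (q : S →ₗ[R] C') (hex : Function.Exact g q)
    (hq : Function.Surjective q)
    (hd : Module.finrank κ (κ ⊗[R] C) + Module.finrank κ (κ ⊗[R] C') =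
      Module.finrank κ (κ ⊗[R] S)) :
    Module.Free R C' ∧ Module.Free R C ∧ Function.Injective g := by
  have hG : Function.Injective (g.baseChange κ) := by
    have hQ : Function.Surjective (q.baseChange κ) := LinearMap.baseChange_surjective κ hq
    have hker : LinearMap.range (g.baseChange κ) = LinearMap.ker (q.baseChange κ) :=
      SetLike.ext fun z => ((lTensor_exact κ hex hq) z).symm
    have h1 := (q.baseChange κ).finrank_range_add_finrank_ker
    rw [LinearMap.range_eq_top.2 hQ, finrank_top, ← hker] at h1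
    have h2 := (g.baseChange κ).finrank_range_add_finrank_ker
    rw [← LinearMap.ker_eq_bot, ← Submodule.finrank_eq_zero (R := κ)]
    omega
  obtain ⟨l, hl⟩ := (IsLocalRing.split_injective_iff_lTensor_residueField_injective g).2 hG
  haveI : Module.Projective R C := Module.Projective.of_split g l hl
  exact ⟨Module.free_of_lTensor_residueField_injective g q hq hex hG,
    Module.free_of_flat_of_isLocalRing, Function.HasLeftInverse.injective ⟨_, LinearMap.congr_fun hl⟩⟩

theorem step_down (g : C →ₗ[R] S) (q : S →ₗ[R] C') (hex : Function.Exact g q)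
    (hq : Function.Surjective q) [Module.Free R C'] :
    ∃ h : Submodule R C, h = LinearMap.ker g ∧
      Nonempty (C ≃ₗ[R] h × LinearMap.ker q) ∧ Module.Free R (LinearMap.ker q) ∧
        ∃ r : S →ₗ[R] LinearMap.ker q, r ∘ₗ (LinearMap.ker q).subtype = LinearMap.id := by
  obtain ⟨s, hs⟩ := Module.projective_lifting_property q LinearMap.id hq
  let r : S →ₗ[R] LinearMap.ker q := (LinearMap.id - s ∘ₗ q).codRestrict _ fun z => by
    have := LinearMap.congr_fun hs (q z)
    simp only [LinearMap.coe_comp, Function.comp_apply, LinearMap.id_coe, id_eq] at this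
    simp [this]
  have hr : ∀ z : LinearMap.ker q, r z.1 = z := fun z => Subtype.ext (by
    simp [r, LinearMap.mem_ker.1 z.2])
  haveI : Module.Projective R (LinearMap.ker q) :=
    Module.Projective.of_split (LinearMap.ker q).subtype r (LinearMap.ext hr)
  haveI : Module.Finite R (LinearMap.ker q) :=
    Module.Finite.of_surjective r fun z => ⟨z.1, hr z⟩
  refine ⟨_, rfl, ?_, Module.free_of_flat_of_isLocalRing, r, LinearMap.ext hr⟩
  let g' : C →ₗ[R] LinearMap.ker q := g.codRestrict _ fun c => (hex (g c)).2 ⟨c, rfl⟩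
  have hg' : Function.Surjective g' := fun z => by
    obtain ⟨c, hc⟩ := (hex z.1).1 z.2
    exact ⟨c, Subtype.ext hc⟩
  obtain ⟨t, ht⟩ := Module.projective_lifting_property g' LinearMap.id hg'
  have htc : ∀ z, g' (t z) = z := LinearMap.congr_fun ht
  have ht0 : ∀ c, g (c - t (g' c)) = 0 := fun c => by
    have := congrArg Subtype.val (htc (g' c))
    rw [map_sub]
    exact sub_eq_zero.2 this.symm
  exact ⟨{
    toFun := fun c => (⟨c - t (g' c), ht0 c⟩, g' c)
    invFun := fun p => p.1.1 + t p.2
    map_add' := fun a b => by ext <;> simp [sub_add_sub_comm]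
    map_smul' := fun a b => by ext <;> simp [smul_sub]
    left_inv := fun c => by simp
    right_inv := fun p => by
      have h1 : g' p.1.1 = 0 := Subtype.ext p.1.2
      ext <;> simp [h1, htc] }⟩

theorem finrank_ker_add (g : C →ₗ[R] S) (q : S →ₗ[R] C') (hex : Function.Exact g q)
    (hq : Function.Surjective q) [Module.Free R C'] :
    Module.finrank κ (κ ⊗[R] LinearMap.ker g) + Module.finrank κ (κ ⊗[R] S) =
      Module.finrank κ (κ ⊗[R] C) + Module.finrank κ (κ ⊗[R] C') := by
  obtain ⟨h, rfl, ⟨e⟩, hfree, r, hr⟩ := step_down g q hex hq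
  haveI : Module.Finite R (LinearMap.ker q) :=
    Module.Finite.of_surjective r fun z => ⟨z.1, LinearMap.congr_fun hr z⟩
  haveI : Module.Finite R (LinearMap.ker g) :=
    Module.Finite.of_surjective ((LinearMap.fst R (LinearMap.ker g) (LinearMap.ker q)).comp
      e.toLinearMap) fun z => ⟨e.symm (z, 0), by simp⟩
  haveI : Module.Flat R C' := inferInstance
  have hS : Module.finrank κ (κ ⊗[R] S) =
      Module.finrank κ (κ ⊗[R] LinearMap.ker q) + Module.finrank κ (κ ⊗[R] C') := by
    have hex' : Function.Exact (LinearMap.ker q).subtype q := LinearMap.exact_subtype_ker_map q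
    have hI : Function.Injective ((LinearMap.ker q).subtype.baseChange κ) := by
      refine Function.HasLeftInverse.injective ⟨r.baseChange κ, fun z => ?_⟩
      rw [← LinearMap.comp_apply, ← LinearMap.baseChange_comp, hr, LinearMap.baseChange_id,
        LinearMap.id_apply]
    have hker : LinearMap.range ((LinearMap.ker q).subtype.baseChange κ) =
        LinearMap.ker (q.baseChange κ) :=
      SetLike.ext fun z => ((lTensor_exact κ hex' hq) z).symm
    have h1 := (q.baseChange κ).finrank_range_add_finrank_ker
    rw [LinearMap.range_eq_top.2 (LinearMap.baseChange_surjective κ hq), finrank_top, ← hker,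
      LinearMap.finrank_range_of_inj hI] at h1
    omega
  have hC := ((TensorProduct.AlgebraTensorModule.congr (LinearEquiv.refl κ κ) e) ≪≫ₗ
    TensorProduct.prodRight R κ κ _ _).finrank_eq
  rw [Module.finrank_prod] at hC
  omega

theorem free_of_free_ker (g : C →ₗ[R] S) (q : S →ₗ[R] C') (hex : Function.Exact g q)
    (hq : Function.Surjective q) [Module.Free R C'] [Module.Free R (LinearMap.ker g)] :
    Module.Free R C := by
  obtain ⟨h, rfl, ⟨e⟩, hfree, -⟩ := step_down g q hex hq
  exact Module.Free.of_equiv e.symm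

end Algebra

variable {X Y V Z : Scheme.{u}}

theorem rfd_congr {M N : X.Modules} (e : M ≅ N) (x : X) : rfd M x = rfd N x :=
  (AlgebraTensorModule.congr (LinearEquiv.refl (IsLocalRing.ResidueField (X.presheaf.stalk x))
    (IsLocalRing.ResidueField (X.presheaf.stalk x)))
    ((DerSch.stalkFunctor X x).mapIso e).toLinearEquiv).finrank_eq

theorem rfd_eq_zero {M : X.Modules} (h : IsZero M) (x : X) : rfd M x = 0 := by
  haveI : Subsingleton (M.presheaf.stalk x) :=
    ModuleCat.subsingleton_of_isZero ((DerSch.stalkFunctor X x).map_isZero h)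
  exact Module.finrank_zero_of_subsingleton

/-- The fibre dimension is stable under pullback. -/
theorem rfd_pullback (f : Y ⟶ X) (M : X.Modules) (y : Y) :
    rfd ((Scheme.Modules.pullback f).obj M) y = rfd M (f.base y) := by
  let g := Y.fromSpecResidueField y
  let p : Spec (Y.residueField y) := default
  have hp := isField_stalk_residueField y p
  have h1 : g.base p = y := Scheme.fromSpecResidueField_apply _ _
  have a := finrank_fpt g p hp ((Scheme.Modules.pullback f).obj M)
  have b := finrank_fpt (g ≫ f) p hp M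
  rw [h1] at a
  rw [show (g ≫ f).base p = f.base y by rw [Scheme.Hom.comp_apply, h1]] at b
  rw [← a, ← b]
  exact ((DerSch.stalkFunctor _ p).mapIso
    ((Scheme.Modules.pullbackComp g f).app M)).toLinearEquiv.finrank_eq

theorem rfd_restrict (W : X.Opens) (M : X.Modules) (y : W) :
    rfd (M.restrict W.ι) y = rfd M (W.ι.base y) :=
  by
  let e : M.restrict W.ι ≅ (Scheme.Modules.pullback W.ι).obj M :=
    (Scheme.Modules.restrictFunctorIsoPullback W.ι).app M
  exact (rfd_congr (M := M.restrict W.ι) (N := (Scheme.Modules.pullback W.ι).obj M) e y).trans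
    (rfd_pullback (Y := (W : Scheme.{u})) W.ι M y)

theorem rfd_freeMod (n : ℕ) (x : X) : rfd (FlatMod.freeMod X n) x = n := by
  let g := X.fromSpecResidueField x
  let p : Spec (X.residueField x) := default
  let W := Spec (X.residueField x)
  have h := finrank_fpt g p (isField_stalk_residueField x p) (FlatMod.freeMod X n)
  rw [show g.base p = x from Scheme.fromSpecResidueField_apply _ _] at h
  rw [← h]
  refine ((DerSch.stalkFunctor W p).mapIso (freeModPullbackIso g n)).toLinearEquiv.finrank_eq.trans ?_
  rw [← finrank_sections p]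
  haveI : Nontrivial (Coh.Γtop W) := by
    haveI := (isField_stalk_residueField x p).nontrivial
    exact (W.presheaf.germ ⊤ p trivial).hom.domain_nontrivial
  let b : Module.Basis (Fin n) Γ(W, ⊤) Γ(FlatMod.freeMod W n, ⊤) :=
    Module.Basis.mk (Fintype.linearIndependent_iff.2 fun c hc =>
      congrFun (H29Fitt.gen_independent n ⊤ c hc)) (H29Fitt.gen_span n ⊤).ge
  exact (Module.finrank_eq_card_basis b).trans (Fintype.card_fin n)

theorem isFinLocFreeOfRank_of_rfd {M : X.Modules} (h : FlatMod.IsFinLocFree M) (r : ℕ)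
    (hr : ∀ x, rfd M x = r) : FlatMod.IsFinLocFreeOfRank r M := fun x => by
  obtain ⟨U, n, hx, ⟨e⟩⟩ := h x
  obtain rfl : n = r := by
    rw [← hr x, show x = U.ι.base ⟨x, hx⟩ from rfl, ← rfd_restrict U M ⟨x, hx⟩, rfd_congr e,
      rfd_freeMod]
  exact ⟨U, hx, ⟨e⟩⟩

theorem rfd_of_isFinLocFreeOfRank {M : X.Modules} {r : ℕ} (h : FlatMod.IsFinLocFreeOfRank r M)
    (x : X) : rfd M x = r := by
  obtain ⟨U, hx, ⟨e⟩⟩ := h x
  rw [show x = U.ι.base ⟨x, hx⟩ from rfl, ← rfd_restrict U M ⟨x, hx⟩, rfd_congr e, rfd_freeMod]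

/-- Free finite stalks, through an open immersion. -/
theorem free_finite_restrict_iff (W : X.Opens) (M : X.Modules) (y : W) :
    (Module.Free ((W : Scheme.{u}).presheaf.stalk y) ((M.restrict W.ι).presheaf.stalk y) ∧
      Module.Finite ((W : Scheme.{u}).presheaf.stalk y) ((M.restrict W.ι).presheaf.stalk y)) ↔
    (Module.Free (X.presheaf.stalk (W.ι.base y)) (M.presheaf.stalk (W.ι.base y)) ∧
      Module.Finite (X.presheaf.stalk (W.ι.base y)) (M.presheaf.stalk (W.ι.base y))) := by
  let R := X.presheaf.stalk (W.ι.base y)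
  let S := (W : Scheme.{u}).presheaf.stalk y
  letI := H06Mod.stalkAlgebra W.ι y
  have hb : Function.Bijective (Algebra.ofId R S) :=
    ConcreteCategory.bijective_of_isIso (W.ι.stalkMap y)
  let b : R ≃ₐ[R] S := AlgEquiv.ofBijective (Algebra.ofId R S) hb
  let e : (M.restrict W.ι).presheaf.stalk y ≃ₗ[S] S ⊗[R] M.presheaf.stalk (W.ι.base y) :=
    ((DerSch.stalkFunctor _ y).mapIso
      ((Scheme.Modules.restrictFunctorIsoPullback W.ι).app M)).toLinearEquiv ≪≫ₗ
      (H06Mod.pullStalkEquiv W.ι M y).symm
  constructor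
  · rintro ⟨hf, hfin⟩
    haveI : Module.Free S (S ⊗[R] M.presheaf.stalk (W.ι.base y)) := Module.Free.of_equiv e
    haveI : Module.Finite S (S ⊗[R] M.presheaf.stalk (W.ι.base y)) := Module.Finite.equiv e
    haveI : Module.Free R S := Module.Free.of_equiv b.toLinearEquiv
    haveI : Module.Finite R S := Module.Finite.equiv b.toLinearEquiv
    haveI : Module.Free R (S ⊗[R] M.presheaf.stalk (W.ι.base y)) := Module.Free.trans (S := S)
    haveI : Module.Finite R (S ⊗[R] M.presheaf.stalk (W.ι.base y)) := Module.Finite.trans S _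
    let e' := (TensorProduct.congr b.toLinearEquiv
      (LinearEquiv.refl R (M.presheaf.stalk (W.ι.base y)))).symm ≪≫ₗ TensorProduct.lid R _
    exact ⟨Module.Free.of_equiv e', Module.Finite.equiv e'⟩
  · rintro ⟨hf, hfin⟩
    exact ⟨Module.Free.of_equiv e.symm, Module.Finite.equiv e.symm⟩

section Complex

variable (S : CochainComplex V.Modules ℤ)

/-- The map from opcycles to the next term, at a stalk. -/
noncomputable abbrev sg (v : V) (j : ℤ) :=
  ((DerSch.stalkFunctor V v).map (S.fromOpcycles j (j + 1))).hom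

/-- The projection to opcycles, at a stalk. -/
noncomputable abbrev sq (v : V) (j : ℤ) :=
  ((DerSch.stalkFunctor V v).map (S.pOpcycles j)).hom

theorem exact_fromOpcycles (j : ℤ) :
    ∃ w : S.fromOpcycles j (j + 1) ≫ S.pOpcycles (j + 1) = 0,
      (ShortComplex.mk _ _ w).Exact := by
  refine ⟨by rw [← cancel_epi (S.pOpcycles j), ← Category.assoc,
      HomologicalComplex.p_fromOpcycles, comp_zero, HomologicalComplex.d_pOpcycles], ?_⟩
  exact ShortComplex.exact_of_g_is_cokernel _ (CokernelCofork.IsColimit.ofπ _ _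
    (fun k hk => S.descOpcycles k j (by simp) (by
      have : S.fromOpcycles j (j + 1) ≫ k = 0 := hk
      rw [← HomologicalComplex.p_fromOpcycles, Category.assoc, this, comp_zero]))
    (fun k hk => S.p_descOpcycles _ _ _ _)
    (fun k hk m hm => by
      rw [← cancel_epi (S.pOpcycles (j + 1)), S.p_descOpcycles]
      exact hm))

theorem exact_sg (v : V) (j : ℤ) : Function.Exact (sg S v j) (sq S v (j + 1)) := by
  obtain ⟨w, hT⟩ := exact_fromOpcycles S j
  exact (ShortComplex.ShortExact.moduleCat_exact_iff_function_exact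
    ((ShortComplex.mk _ _ w).map (DerSch.stalkFunctor V v))).1 (hT.map _)

theorem surjective_sq (v : V) (j : ℤ) : Function.Surjective (sq S v j) :=
  (ModuleCat.epi_iff_surjective _).1 ((DerSch.stalkFunctor V v).map_epi _)

theorem rfd_cokernel (j : ℤ) (v : V) :
    rfd (cokernel (S.d (j - 1) j)) v = rfd (S.opcycles j) v :=
  rfd_congr ((cokernelIsCokernel _).coconePointUniqueUpToIso
    (S.opcyclesIsCokernel (j - 1) j (by simp))) v

/-- The cohomology is the kernel on stalks. -/
theorem exists_kerEquiv (v : V) (j : ℤ) :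
    Nonempty ((S.homology j).presheaf.stalk v ≃ₗ[V.presheaf.stalk v] LinearMap.ker (sg S v j)) := by
  let T := ShortComplex.mk (S.homologyι j) (S.fromOpcycles j (j + 1))
    (S.homologyι_comp_fromOpcycles j (j + 1))
  have hT : T.Exact := T.exact_of_f_is_kernel (S.homologyIsKernel j (j + 1) (by simp))
  haveI : Mono ((DerSch.stalkFunctor V v).map (S.homologyι j)) := inferInstance
  refine ⟨LinearEquiv.ofBijective
    ((((DerSch.stalkFunctor V v).map (S.homologyι j)).hom).codRestrict _ fun z =>
      ((ShortComplex.ShortExact.moduleCat_exact_iff_function_exact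
        (T.map (DerSch.stalkFunctor V v))).1 (hT.map _) _).2 ⟨z, rfl⟩) ⟨fun a b hab => ?_, fun z => ?_⟩⟩
  · exact (ModuleCat.mono_iff_injective _).1 ‹_› (congrArg Subtype.val hab)
  · obtain ⟨c, hc⟩ := ((ShortComplex.ShortExact.moduleCat_exact_iff_function_exact
      (T.map (DerSch.stalkFunctor V v))).1 (hT.map _) _).1 z.2
    exact ⟨c, Subtype.ext hc⟩

variable {S} in
theorem isZero_opcycles {a b j : ℤ} (hab : DCoh.VanishesOutside S a b) (hj : j < a ∨ b < j) :
    IsZero (S.opcycles j) :=
  IsZero.of_epi (S.pOpcycles j) (hab j hj)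

variable {S} (hS : DCoh.IsStrictlyPerfect S)
include hS

theorem isFP_opcycles (j : ℤ) : CohB1.IsFP (S.opcycles j) :=
  isFP_of_iso ((cokernelIsCokernel _).coconePointUniqueUpToIso
      (S.opcyclesIsCokernel (j - 1) j (by simp)))
    (H06EGA11.isFP_cokernel (H8Props.FinLocFree.isFP_of_isFinLocFree _ (hS.2 j))
      (H8Props.FinLocFree.isFP_of_isFinLocFree _ (hS.2 (j - 1))) (S.d (j - 1) j))

theorem finite_opcycles (v : V) (j : ℤ) :
    Module.Finite (V.presheaf.stalk v) ((S.opcycles j).presheaf.stalk v) :=
  H06Mod.finite_stalk _ (H29Fitt.isFT_of_isFP _ (isFP_opcycles hS j)) v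

theorem free_term (v : V) (j : ℤ) :
    Module.Free (V.presheaf.stalk v) ((S.X j).presheaf.stalk v) ∧
      Module.Finite (V.presheaf.stalk v) ((S.X j).presheaf.stalk v) :=
  ⟨H8Props.FinLocFree.free_stalk _ (hS.2 j) v,
    H06Mod.finite_stalk _ (H29Fitt.isFT_of_isFP _ (H8Props.FinLocFree.isFP_of_isFinLocFree _ (hS.2 j))) v⟩

/-- Free stalks of cohomology make all opcycles free. -/
theorem free_opcycles_of_homology (v : V)
    (h : ∀ j, Module.Free (V.presheaf.stalk v) ((S.homology j).presheaf.stalk v)) (j : ℤ) :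
    Module.Free (V.presheaf.stalk v) ((S.opcycles j).presheaf.stalk v) := by
  obtain ⟨a, b, hab⟩ := hS.1
  suffices key : ∀ (k : ℕ) (j : ℤ), b + 1 - k ≤ j →
      Module.Free (V.presheaf.stalk v) ((S.opcycles j).presheaf.stalk v) from
    key (b + 1 - j).toNat j (by omega)
  intro k
  induction k with
  | zero =>
    intro j hj
    haveI : Subsingleton ((S.opcycles j).presheaf.stalk v) := ModuleCat.subsingleton_of_isZero
      ((DerSch.stalkFunctor V v).map_isZero (isZero_opcycles hab (Or.inr (by omega))))
    infer_instance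
  | succ k ih =>
    intro j hj
    haveI : Module.Finite (V.presheaf.stalk v) ((DerSch.stalkFunctor V v).obj (S.opcycles j)) :=
      finite_opcycles hS v j
    haveI : Module.Finite (V.presheaf.stalk v) ((DerSch.stalkFunctor V v).obj (S.opcycles (j + 1))) :=
      finite_opcycles hS v (j + 1)
    haveI : Module.Free (V.presheaf.stalk v) ((DerSch.stalkFunctor V v).obj (S.X (j + 1))) :=
      (free_term hS v (j + 1)).1
    haveI : Module.Finite (V.presheaf.stalk v) ((DerSch.stalkFunctor V v).obj (S.X (j + 1))) :=
      (free_term hS v (j + 1)).2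
    haveI : Module.Free (V.presheaf.stalk v) ((DerSch.stalkFunctor V v).obj (S.opcycles (j + 1))) :=
      ih (j + 1) (by omega)
    haveI := h j
    haveI := finite_opcycles hS v j
    haveI := finite_opcycles hS v (j + 1)
    obtain ⟨e⟩ := exists_kerEquiv S v j
    exact @free_of_free_ker (V.presheaf.stalk v) _ _ ((DerSch.stalkFunctor V v).obj (S.opcycles j))
      ((DerSch.stalkFunctor V v).obj (S.X (j + 1)))
      ((DerSch.stalkFunctor V v).obj (S.opcycles (j + 1))) _ _ (by assumption) _ _ (by assumption)
      (by assumption) _ _ (by assumption) (sg S v j) (sq S v (j + 1)) (exact_sg S v j)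
      (surjective_sq S v (j + 1)) (by assumption) (Module.Free.of_equiv e)

/-- The open set where all opcycles are free; there the cohomology is finite locally free. -/
theorem exists_open_free (v : V)
    (h : ∀ j, Module.Free (V.presheaf.stalk v) ((S.opcycles j).presheaf.stalk v)) :
    ∃ G : V.Opens, v ∈ G ∧ ∀ j, FlatMod.IsFinLocFree ((S.homology j).restrict G.ι) ∧
      FlatMod.IsFinLocFree ((S.opcycles j).restrict G.ι) := by
  obtain ⟨a, b, hab⟩ := hS.1
  have hj : ∀ j, ∃ W : V.Opens, v ∈ W ∧ FlatMod.IsFinLocFree ((S.opcycles j).restrict W.ι) :=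
    fun j => exists_isFinLocFree_nhd (isFP_opcycles hS j) v (by
      haveI := h j
      exact (inferInstance : Module.Flat (V.presheaf.stalk v) ((S.opcycles j).presheaf.stalk v)))
  choose W hW hfree using hj
  let G : V.Opens := (Finset.Icc a b).inf W
  refine ⟨G, H10Coh.finset_inf_mem _ _ fun j _ => hW j, fun j => ?_⟩
  have hall : ∀ j, FlatMod.IsFinLocFree ((S.opcycles j).restrict G.ι) := fun j => by
    by_cases hj : j ∈ Finset.Icc a b
    · have hle : G ≤ W j := Finset.inf_le hj
      refine isFinLocFree_of_iso ?_ (isFinLocFree_pullback (V.homOfLE hle) (hfree j))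
      exact (Scheme.Modules.pullback _).mapIso
          ((Scheme.Modules.restrictFunctorIsoPullback _).app _) ≪≫
        (Scheme.Modules.pullbackComp _ _).app _ ≪≫
        (Scheme.Modules.pullbackCongr (V.homOfLE_ι hle)).app _ ≪≫
        ((Scheme.Modules.restrictFunctorIsoPullback _).app _).symm
    · exact isFinLocFree_of_isZero ((Scheme.Modules.restrictFunctor G.ι).map_isZero
        (isZero_opcycles hab (by simp only [Finset.mem_Icc] at hj; omega)))
  refine ⟨?_, hall j⟩
  let F := Scheme.Modules.restrictFunctor G.ι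
  have hterm : FlatMod.IsFinLocFree (F.obj (S.X (j + 1))) :=
    isFinLocFree_of_iso ((Scheme.Modules.restrictFunctorIsoPullback G.ι).app _).symm
      (isFinLocFree_pullback G.ι (hS.2 (j + 1)))
  let T := ShortComplex.mk (kernel.ι (F.map (S.pOpcycles (j + 1)))) (F.map (S.pOpcycles (j + 1)))
    (kernel.condition _)
  have hT : T.ShortExact := { exact := T.exact_of_f_is_kernel (kernelIsKernel _) }
  have hI := isFinLocFree_left hT hterm (hall (j + 1))
  obtain ⟨w, hex⟩ := exact_fromOpcycles S j
  have hexF := hex.map F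
  let g' := kernel.lift (F.map (S.pOpcycles (j + 1))) (F.map (S.fromOpcycles j (j + 1)))
    (by rw [← F.map_comp, w, F.map_zero])
  haveI : Epi g' := hexF.epi_kernelLift
  let T₀ := (ShortComplex.mk (S.homologyι j) (S.fromOpcycles j (j + 1))
    (S.homologyι_comp_fromOpcycles j (j + 1))).map F
  have hT₀ : T₀.Exact :=
    (ShortComplex.exact_of_f_is_kernel _ (S.homologyIsKernel j (j + 1) (by simp))).map F
  let T' := ShortComplex.mk (F.map (S.homologyι j)) g' (by
    rw [← cancel_mono (kernel.ι (F.map (S.pOpcycles (j + 1)))), Category.assoc, kernel.lift_ι,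
      ← F.map_comp, HomologicalComplex.homologyι_comp_fromOpcycles, F.map_zero, zero_comp])
  let φ : T' ⟶ T₀ :=
    { τ₁ := 𝟙 _, τ₂ := 𝟙 _, τ₃ := kernel.ι _,
      comm₁₂ := (Category.id_comp _).trans (Category.comp_id _).symm,
      comm₂₃ := (Category.id_comp _).trans (kernel.lift_ι _ _ _).symm }
  haveI : Epi φ.τ₁ := inferInstanceAs (Epi (𝟙 _))
  haveI : IsIso φ.τ₂ := inferInstanceAs (IsIso (𝟙 _))
  haveI : Mono φ.τ₃ := inferInstanceAs (Mono (kernel.ι _))
  have hT' : T'.ShortExact :=
    { exact := (ShortComplex.exact_iff_of_epi_of_isIso_of_mono φ).2 hT₀ }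
  exact isFinLocFree_left hT' (hall j) hI

/-- Fibre dimensions of cohomology when all opcycles are free. -/
theorem rfd_homology (v : V)
    (h : ∀ j, Module.Free (V.presheaf.stalk v) ((S.opcycles j).presheaf.stalk v)) (j : ℤ) :
    rfd (S.homology j) v + rfd (S.X (j + 1)) v = rfd (S.opcycles j) v + rfd (S.opcycles (j + 1)) v := by
  obtain ⟨e⟩ := exists_kerEquiv S v j
  have key := @finrank_ker_add (V.presheaf.stalk v) _ _ ((DerSch.stalkFunctor V v).obj (S.opcycles j))
      ((DerSch.stalkFunctor V v).obj (S.X (j + 1)))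
      ((DerSch.stalkFunctor V v).obj (S.opcycles (j + 1))) _ _ (finite_opcycles hS v j) _ _
      (free_term hS v (j + 1)).2 (free_term hS v (j + 1)).1 _ _ (finite_opcycles hS v (j + 1))
      (sg S v j) (sq S v (j + 1)) (exact_sg S v j) (surjective_sq S v (j + 1)) (h (j + 1))
  have he := (AlgebraTensorModule.congr (LinearEquiv.refl (IsLocalRing.ResidueField (V.presheaf.stalk v))
    (IsLocalRing.ResidueField (V.presheaf.stalk v))) e).finrank_eq
  exact (congrArg (· + _) he).trans key

/-- Fibres concentrated in one degree make all opcycles free. -/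
theorem free_opcycles_of_conc (v : V) (i : ℤ)
    (h : ∀ j, j ≠ i → rfd (S.opcycles j) v + rfd (S.opcycles (j + 1)) v = rfd (S.X (j + 1)) v)
    (j : ℤ) : Module.Free (V.presheaf.stalk v) ((S.opcycles j).presheaf.stalk v) := by
  have key : ∀ k, k ≠ i →
      Module.Free (V.presheaf.stalk v) ((S.opcycles (k + 1)).presheaf.stalk v) ∧
        Module.Free (V.presheaf.stalk v) ((S.opcycles k).presheaf.stalk v) := fun k hk => by
    have := @step_up (V.presheaf.stalk v) _ _ ((DerSch.stalkFunctor V v).obj (S.opcycles k))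
      ((DerSch.stalkFunctor V v).obj (S.X (k + 1)))
      ((DerSch.stalkFunctor V v).obj (S.opcycles (k + 1))) _ _ (finite_opcycles hS v k) _ _
      (free_term hS v (k + 1)).2 (free_term hS v (k + 1)).1 _ _ (finite_opcycles hS v (k + 1))
      (sg S v k) (sq S v (k + 1)) (exact_sg S v k) (surjective_sq S v (k + 1)) (h k hk)
    exact ⟨this.1, this.2.1⟩
  by_cases hj : j = i
  · have h1 := (key (i - 1) (by omega)).1
    rwa [show i - 1 + 1 = j by omega] at h1
  · exact (key j hj).2

end Complex

end Groth.Agent.H16Derived.KFlat.Stalk
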