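import Groth.Agent.H16Derived.KFlat.LocFreeOps

/-!
# Cones and sums of strictly perfect complexes
-/

set_option autoImplicit false

universe u

open CategoryTheory CategoryTheory.Limits AlgebraicGeometry

attribute [local instance] HasDerivedCategory.standard

namespace Groth.Agent.H16Derived.KFlat.Stalk

variable {X : Scheme.{u}}

/-- A biproduct of finite locally free modules is finite locally free. -/
theorem isFinLocFree_biprod {M N : X.Modules} (hM : FlatMod.IsFinLocFree M)
    (hN : FlatMod.IsFinLocFree N) : FlatMod.IsFinLocFree (M ⊞ N) := by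
  let D : Bool → X.Modules := fun b => bif b then M else N
  refine isFinLocFree_of_iso ?_ (isFinLocFree_sigma D fun b => by cases b <;> assumption)
  exact { hom := Sigma.desc fun b => match b with
            | true => biprod.inl
            | false => biprod.inr
          inv := biprod.desc (Sigma.ι D true) (Sigma.ι D false)
          hom_inv_id := Sigma.hom_ext _ _ fun b => by cases b <;> simp
          inv_hom_id := biprod.hom_ext' _ _ (by simp; rfl) (by simp; rfl) }

/-- The cone of a morphism of strictly perfect complexes is strictly perfect. -/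
theorem isStrictlyPerfect_mappingCone {E F : CochainComplex X.Modules ℤ} (φ : E ⟶ F)
    (hE : DCoh.IsStrictlyPerfect E) (hF : DCoh.IsStrictlyPerfect F) :
    DCoh.IsStrictlyPerfect (CochainComplex.mappingCone φ) := by
  obtain ⟨⟨a, b, hab⟩, hEf⟩ := hE
  obtain ⟨⟨c, d, hcd⟩, hFf⟩ := hF
  refine ⟨⟨min (a - 1) c, max (b - 1) d, fun i hi => ?_⟩, fun i => ?_⟩
  · have h1 : IsZero (E.X (i + 1) ⊞ F.X i) := by
      rw [biprod_isZero_iff]
      exact ⟨hab _ (by omega), hcd _ (by omega)⟩
    exact h1.of_iso (HomologicalComplex.homotopyCofiber.XIsoBiprod φ i (i + 1) rfl)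
  · exact isFinLocFree_of_iso (HomologicalComplex.homotopyCofiber.XIsoBiprod φ i (i + 1) rfl).symm
      (isFinLocFree_biprod (hEf _) (hFf _))

end Groth.Agent.H16Derived.KFlat.Stalk
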