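import Groth.Agent.H16Derived.KFlat.FlatCover
import Groth.Agent.H16Derived.KFlat.Generic
import Groth.Agent.H16Derived.LeftDer
import Groth.Prelude.Def_DDual2

/-!
# Existence of derived tensor products of O_X-modules, computed on K-flat complexes
-/

set_option autoImplicit false

universe u

open CategoryTheory CategoryTheory.Limits AlgebraicGeometry

attribute [local instance] HasDerivedCategory.standard

namespace Groth.Agent.H16Derived.KFlat.Stalk

variable {X : Scheme.{u}}

local notation "CX" => CochainComplex X.Modules ℤ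

/-- The bifunctor `⊗`. -/
local notation "T" => (DCoh.tensorBi (X := X))

lemma isKFlat_iff' (E : CX) : DCoh.IsKFlat E ↔ IsKFlat T E :=
  (isKFlat_iff_homology T E).symm

lemma quasiIso_res_map {G G' : CX} (φ : G ⟶ G') [QuasiIso φ] : QuasiIso ((res (X := X)).map φ) := by
  haveI := quasiIso_resψ G
  haveI := quasiIso_resψ G'
  haveI : QuasiIso ((res (X := X)).map φ ≫ (resψ (X := X)).app G') := by
    rw [(resψ (X := X)).naturality φ]
    exact quasiIso_comp ((resψ (X := X)).app G) φ
  exact quasiIso_of_comp_right ((res (X := X)).map φ) ((resψ (X := X)).app G')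

/-- `φ ⊗ E` is a quasi-isomorphism for a quasi-isomorphism `φ` of complexes K-flat on the left. -/
theorem quasiIso_tensor_map {L L' : CX} (φ : L ⟶ L') [QuasiIso φ] (hL : IsKFlat (T).flip L)
    (hL' : IsKFlat (T).flip L') (E : CX) : QuasiIso ((DCoh.tensorCx.map φ).app E) := by
  haveI := quasiIso_resψ E
  exact quasiIso_left_map' T φ hL hL' ((resψ (X := X)).app E) (isKFlat_res E)

/-- An acyclic K-flat complex stays acyclic after tensoring with a module. -/
theorem acyclic_module_tensor (M : X.Modules) {W : CX} (hW : W.Acyclic) (hK : IsKFlat T W) :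
    ((((T).obj M).mapHomologicalComplex (ComplexShape.up ℤ)).obj W).Acyclic := by
  let L : CX := (HomologicalComplex.single X.Modules (ComplexShape.up ℤ) 0).obj M
  haveI := quasiIso_resψ L
  have h := acyclic_tot_of_acyclic_of_isKFlat T hW hK ((resψ (X := X)).app L) (isKFlat_flip_res L)
  have h2 := acyclic_of_iso (singleLeftIso T L W fun p hp =>
    HomologicalComplex.isZero_single_obj_X (ComplexShape.up ℤ) 0 M p hp).symm h
  exact acyclic_of_iso ((NatIso.mapHomologicalComplex ((T).mapIso
    (HomologicalComplex.singleObjXSelf (ComplexShape.up ℤ) 0 M)) (ComplexShape.up ℤ)).app W) h2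

/-- An acyclic complex K-flat on the left stays acyclic after tensoring with a module. -/
theorem acyclic_tensor_module (M : X.Modules) {W : CX} (hW : W.Acyclic)
    (hK : IsKFlat (T).flip W) :
    ((((T).flip.obj M).mapHomologicalComplex (ComplexShape.up ℤ)).obj W).Acyclic := by
  let L : CX := (HomologicalComplex.single X.Modules (ComplexShape.up ℤ) 0).obj M
  haveI := quasiIso_resψ L
  have h := acyclic_tot_of_acyclic_of_isKFlat (T).flip hW hK ((resψ (X := X)).app L) (isKFlat_res L)
  have h2 := acyclic_of_iso (singleLeftIso (T).flip L W fun p hp =>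
    HomologicalComplex.isZero_single_obj_X (ComplexShape.up ℤ) 0 M p hp).symm h
  exact acyclic_of_iso ((NatIso.mapHomologicalComplex ((T).flip.mapIso
    (HomologicalComplex.singleObjXSelf (ComplexShape.up ℤ) 0 M)) (ComplexShape.up ℤ)).app W) h2

lemma inverts_resψ (G : CX) :
    HomologicalComplex.quasiIso X.Modules (ComplexShape.up ℤ) ((resψ (X := X)).app G) :=
  quasiIso_resψ G

lemma isIso_Q_map {G G' : CX} (φ : G ⟶ G') (h : QuasiIso φ) : IsIso (DerivedCategory.Q.map φ) :=
  Localization.inverts DerivedCategory.Q (HomologicalComplex.quasiIso _ _) φ h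

lemma tensorCxQ_inverts (E : CX) :
    (HomologicalComplex.quasiIso X.Modules (ComplexShape.up ℤ)).IsInvertedBy
      (res (X := X) ⋙ DCoh.tensorCxQ E) := fun G G' φ (hφ : QuasiIso φ) =>
  haveI := quasiIso_res_map φ
  isIso_Q_map _ (quasiIso_tensor_map ((res (X := X)).map φ) (isKFlat_flip_res G) (isKFlat_flip_res G') E)

lemma tensorCxQ_res (E : CX) (G : CX) :
    IsIso ((DCoh.tensorCxQ E).map ((resψ (X := X)).app ((res (X := X)).obj G))) :=
  isIso_Q_map _ (@quasiIso_tensor_map X _ _ _ (quasiIso_resψ ((res (X := X)).obj G))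
    (isKFlat_flip_res _) (isKFlat_flip_res G) E)

/-- `- ⊗^L E` exists. -/
theorem hasLTensorCx (E : CX) : DCoh.HasLTensorCx E :=
  LeftDer.hasLeftDerivedFunctor _ inverts_resψ (tensorCxQ_inverts E) (tensorCxQ_res E)

/-- `K ⊗^L E = K ⊗ E` if `K` is K-flat on the left. -/
theorem isIso_LTensorCx_counit (E K : CX) [DCoh.HasLTensorCx E] (hK : IsKFlat (T).flip K) :
    IsIso (((DCoh.tensorCxQ E).totalLeftDerivedCounit DerivedCategory.Q
      (HomologicalComplex.quasiIso X.Modules (ComplexShape.up ℤ))).app K) := by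
  refine LeftDer.isIso_counit _ DerivedCategory.Q inverts_resψ (tensorCxQ_inverts E) (tensorCxQ_res E)
    _ _ K ?_
  haveI := quasiIso_resψ K
  exact isIso_Q_map _ (quasiIso_tensor_map ((resψ (X := X)).app K) (isKFlat_flip_res K) hK E)

/-- `K ⊗^L E = K ⊗ E` if `E` is K-flat. -/
theorem isIso_LTensorCx_counit' (E K : CX) [DCoh.HasLTensorCx E] (hE : DCoh.IsKFlat E) :
    IsIso (((DCoh.tensorCxQ E).totalLeftDerivedCounit DerivedCategory.Q
      (HomologicalComplex.quasiIso X.Modules (ComplexShape.up ℤ))).app K) := by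
  refine LeftDer.isIso_counit _ DerivedCategory.Q inverts_resψ (tensorCxQ_inverts E) (tensorCxQ_res E)
    _ _ K ?_
  haveI := quasiIso_resψ K
  exact isIso_Q_map _ (quasiIso_left_map T ((resψ (X := X)).app K) ((isKFlat_iff' E).1 hE))

/-- `tensorRightMod M = - ⊗ M`. -/
noncomputable def tensorRightModIso (M : X.Modules) :
    DCoh.tensorRightMod M ≅ (T).flip.obj M :=
  NatIso.ofComponents (fun _ => Iso.refl _) (fun f =>
    (Category.comp_id _).trans (Category.id_comp _).symm)

/-- The comparison of `- ⊗ M` on complexes and on the homotopy category, followed by localization. -/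
noncomputable def tensorModKhIso (M : X.Modules) :
    HomotopyCategory.quotient _ _ ⋙ DCoh.tensorModKh M ≅
      (DCoh.tensorRightMod M).mapHomologicalComplex (ComplexShape.up ℤ) ⋙ DerivedCategory.Q :=
  (Functor.associator _ _ _).symm ≪≫
    Functor.isoWhiskerRight ((DCoh.tensorRightMod M).mapHomotopyCategoryFactors (ComplexShape.up ℤ))
      DerivedCategory.Qh ≪≫ Functor.associator _ _ _ ≪≫
    Functor.isoWhiskerLeft _ (DerivedCategory.quotientCompQhIso _)

instance : (HomotopyCategory.quotient X.Modules (ComplexShape.up ℤ) ⋙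
    DerivedCategory.Qh (C := X.Modules)).IsLocalization
      (HomologicalComplex.quasiIso X.Modules (ComplexShape.up ℤ)) :=
  Functor.IsLocalization.of_iso _ (DerivedCategory.quotientCompQhIso X.Modules).symm

lemma isIso_tensorModKh_map (M : X.Modules) {K K' : CX} (φ : K ⟶ K') [QuasiIso φ]
    (hK : IsKFlat (T).flip K) (hK' : IsKFlat (T).flip K') :
    IsIso ((HomotopyCategory.quotient _ _ ⋙ DCoh.tensorModKh M).map φ) := by
  rw [NatIso.isIso_map_iff (tensorModKhIso M)]
  refine isIso_Q_map _ (quasiIso_map_of_cone (DCoh.tensorRightMod M) φ fun hW => ?_)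
  exact acyclic_of_iso ((NatIso.mapHomologicalComplex (tensorRightModIso M).symm
      (ComplexShape.up ℤ)).app _)
    (acyclic_tensor_module M hW (hK.mappingCone φ hK'))

lemma tensorModKh_inverts (M : X.Modules) :
    (HomologicalComplex.quasiIso X.Modules (ComplexShape.up ℤ)).IsInvertedBy
      (res (X := X) ⋙ HomotopyCategory.quotient _ _ ⋙ DCoh.tensorModKh M) := fun G G' φ (hφ : QuasiIso φ) =>
  haveI := quasiIso_res_map φ
  isIso_tensorModKh_map M _ (isKFlat_flip_res G) (isKFlat_flip_res G')

lemma tensorModKh_res (M : X.Modules) (G : CX) :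
    IsIso ((HomotopyCategory.quotient _ _ ⋙ DCoh.tensorModKh M).map
      ((resψ (X := X)).app ((res (X := X)).obj G))) :=
  @isIso_tensorModKh_map X M _ _ _ (quasiIso_resψ ((res (X := X)).obj G)) (isKFlat_flip_res _)
    (isKFlat_flip_res G)

/-- `- ⊗^L M` exists for a module `M`. -/
theorem hasLTensorMod (M : X.Modules) : DCoh.HasLTensorMod M :=
  LeftDer.hasLeftDerivedFunctor' (W₁ := HomologicalComplex.quasiIso X.Modules (ComplexShape.up ℤ)) _
    DerivedCategory.Qh (HomotopyCategory.quotient X.Modules (ComplexShape.up ℤ))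
    (HomologicalComplex.homotopyEquivalences X.Modules (ComplexShape.up ℤ))
    inverts_resψ (tensorModKh_inverts M) (tensorModKh_res M)

/-- `K ⊗^L M = K ⊗ M` if `K` is K-flat on the left. -/
theorem isIso_LTensorMod_counit (M : X.Modules) [DCoh.HasLTensorMod M] (K : CX)
    (hK : IsKFlat (T).flip K) :
    IsIso (((DCoh.tensorModKh M).totalLeftDerivedCounit DerivedCategory.Qh
      (HomotopyCategory.quasiIso X.Modules (ComplexShape.up ℤ))).app
        ((HomotopyCategory.quotient _ _).obj K)) := by
  refine LeftDer.isIso_counit' (W₁ := HomologicalComplex.quasiIso X.Modules (ComplexShape.up ℤ))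
    (HomotopyCategory.quasiIso X.Modules (ComplexShape.up ℤ))
    DerivedCategory.Qh (HomotopyCategory.quotient X.Modules (ComplexShape.up ℤ))
    (HomologicalComplex.homotopyEquivalences X.Modules (ComplexShape.up ℤ))
    inverts_resψ (tensorModKh_inverts M) (tensorModKh_res M) _ _ K ?_
  haveI := quasiIso_resψ K
  exact isIso_tensorModKh_map M _ (isKFlat_flip_res K) hK

end Groth.Agent.H16Derived.KFlat.Stalk
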