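import Groth.Agent.H16Derived.KFlat.RestrictD
import Groth.Agent.H16Derived.KFlat.PerfConcD
import Groth.Agent.H16Derived.QCohD.Perfect
import Groth.Agent.H16Derived.QCohD.Equiv
import Groth.Prelude.Def_DCoh2

/-!
# Direct images of K-injective complexes are acyclic for global sections
-/

set_option autoImplicit false
set_option linter.style.haveILetI false

universe u

open CategoryTheory CategoryTheory.Limits AlgebraicGeometry Opposite TopologicalSpace

attribute [local instance] HasDerivedCategory.standard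

namespace Groth.Agent.H16Derived.KFlat.GammaAcyclic

open Groth.Agent.H10Coh Groth.Agent.H16Derived.KFlat.Stalk Groth.Agent.H16Derived.QCohD

variable {X Y : Scheme.{u}}

/-- Maps from a K-flat complex to the direct image of a K-injective one: homotopy classes are morphisms
in the derived category. -/
theorem bijective_Qh_map_pushforward (f : X ⟶ Y) (P : CochainComplex Y.Modules ℤ) (hP : kflat Y P)
    (B : CochainComplex X.Modules ℤ) [B.IsKInjective] :
    Function.Bijective (fun g : (HomotopyCategory.quotient Y.Modules (ComplexShape.up ℤ)).obj P ⟶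
        (HomotopyCategory.quotient Y.Modules (ComplexShape.up ℤ)).obj
          (((Scheme.Modules.pushforward f).mapHomologicalComplex (ComplexShape.up ℤ)).obj B) =>
      DerivedCategory.Qh.map g) := by
  let qY := HomotopyCategory.quotient Y.Modules (ComplexShape.up ℤ)
  let qX := HomotopyCategory.quotient X.Modules (ComplexShape.up ℤ)
  let WY := HomotopyCategory.quasiIso Y.Modules (ComplexShape.up ℤ)
  let PL := (Scheme.Modules.pullback f).mapHomotopyCategory (ComplexShape.up ℤ)
  let PR := (Scheme.Modules.pushforward f).mapHomotopyCategory (ComplexShape.up ℤ)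
  let a : PL ⊣ PR := pullPushKAdj f
  -- quasi-isomorphisms between K-flat complexes induce bijections
  have key : ∀ (P' : CochainComplex Y.Modules ℤ) (_ : kflat Y P') (φ : P' ⟶ P), QuasiIso φ →
      Function.Bijective fun g : qY.obj P ⟶ PR.obj (qX.obj B) => qY.map φ ≫ g := by
    intro P' hP' φ hφ
    haveI := hφ
    haveI : IsIso (DerivedCategory.Qh.map (PL.map (qY.map φ))) :=
      isIso_pullKh_map f φ hP' hP
    have hK : Function.Bijective fun u : PL.obj (qY.obj P) ⟶ qX.obj B => PL.map (qY.map φ) ≫ u := by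
      have h1 := CochainComplex.IsKInjective.Qh_map_bijective (PL.obj (qY.obj P)) B
      have h2 := CochainComplex.IsKInjective.Qh_map_bijective (PL.obj (qY.obj P')) B
      let c := Iso.homCongr (asIso (DerivedCategory.Qh.map (PL.map (qY.map φ)))).symm
        (Iso.refl (DerivedCategory.Qh.obj (qX.obj B)))
      refine (Function.Bijective.of_comp_iff' h2 _).1 ?_
      refine Eq.subst (motive := fun F => Function.Bijective F) (funext fun u => ?_) (c.bijective.comp h1)
      simp [c, Iso.homCongr]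
    refine (Function.Bijective.of_comp_iff _ (a.homEquiv _ _).bijective).1 ?_
    refine Eq.subst (motive := fun F => Function.Bijective F) (funext fun u => ?_)
      ((a.homEquiv (qY.obj P') (qX.obj B)).bijective.comp hK)
    exact a.homEquiv_naturality_left _ _
  -- refinement by K-flat complexes
  have refine' : ∀ {M : HomotopyCategory Y.Modules (ComplexShape.up ℤ)} (s : M ⟶ qY.obj P), WY s →
      ∃ (P' : CochainComplex Y.Modules ℤ) (_ : kflat Y P') (φ : P' ⟶ P) (t : qY.obj P' ⟶ M),
        QuasiIso φ ∧ t ≫ s = qY.map φ := by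
    intro M s hs
    obtain ⟨M, rfl⟩ : ∃ K, qY.obj K = M := ⟨M.as, rfl⟩
    obtain ⟨s, rfl⟩ := qY.map_surjective s
    haveI : QuasiIso s := (HomotopyCategory.quotient_map_mem_quasiIso_iff _).1 hs
    haveI := quasiIso_resψ M
    exact ⟨_, isKFlat_res M, (resψ (X := Y)).app M ≫ s, qY.map ((resψ (X := Y)).app M),
      inferInstance, (qY.map_comp _ _).symm⟩
  refine ⟨fun g g' h => ?_, fun α => ?_⟩
  · obtain ⟨M, s, hs, e⟩ := (MorphismProperty.map_eq_iff_precomp DerivedCategory.Qh WY g g').1 h
    obtain ⟨P', hP', φ, t, hφ, ht⟩ := refine' s hs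
    refine (key P' hP' φ hφ).1 ?_
    show qY.map φ ≫ g = qY.map φ ≫ g'
    exact (congrArg (· ≫ g) ht.symm).trans ((Category.assoc _ _ _).trans
      ((congrArg (t ≫ ·) e).trans ((Category.assoc _ _ _).symm.trans (congrArg (· ≫ g') ht))))
  · obtain ⟨r, hr⟩ := Localization.exists_rightFraction DerivedCategory.Qh WY α
    obtain ⟨P', hP', φ, t, hφ, ht⟩ := refine' r.s r.hs
    haveI := hφ
    obtain ⟨g, hg⟩ := (key P' hP' φ hφ).2 (t ≫ r.f)
    dsimp only at hg
    refine ⟨g, ?_⟩
    haveI := Localization.inverts DerivedCategory.Qh WY r.s r.hs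
    haveI : IsIso (DerivedCategory.Qh.map (qY.map φ)) := Localization.inverts DerivedCategory.Qh WY _
      ((HomotopyCategory.quotient_map_mem_quasiIso_iff _).2 hφ)
    show DerivedCategory.Qh.map g = α
    rw [hr, ← cancel_epi (DerivedCategory.Qh.map (qY.map φ)), ← Functor.map_comp,
      show qY.map φ ≫ g = t ≫ r.f from hg]
    erw [Functor.map_comp]
    have e : DerivedCategory.Qh.map t ≫ DerivedCategory.Qh.map r.s = DerivedCategory.Qh.map (qY.map φ) := by
      rw [← Functor.map_comp, ht]
    refine Eq.trans ?_ (congrArg (· ≫ r.map DerivedCategory.Qh _) e)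
    rw [Category.assoc, MorphismProperty.RightFraction.map_s_comp_map]
    rfl

/-- Composition with a resolution. -/
theorem bijective_comp_resolution (f : X ⟶ Y) (P : CochainComplex Y.Modules ℤ) (hP : kflat Y P)
    (B : CochainComplex X.Modules ℤ) [B.IsKInjective] (J : CochainComplex Y.Modules ℤ) [J.IsKInjective]
    (r : ((Scheme.Modules.pushforward f).mapHomologicalComplex (ComplexShape.up ℤ)).obj B ⟶ J) [QuasiIso r] :
    Function.Bijective (fun g : (HomotopyCategory.quotient Y.Modules (ComplexShape.up ℤ)).obj P ⟶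
        (HomotopyCategory.quotient Y.Modules (ComplexShape.up ℤ)).obj
          (((Scheme.Modules.pushforward f).mapHomologicalComplex (ComplexShape.up ℤ)).obj B) =>
      g ≫ (HomotopyCategory.quotient _ _).map r) := by
  let qY := HomotopyCategory.quotient Y.Modules (ComplexShape.up ℤ)
  haveI : IsIso (DerivedCategory.Qh.map (qY.map r)) := Localization.inverts DerivedCategory.Qh
    (HomotopyCategory.quasiIso Y.Modules (ComplexShape.up ℤ)) _
    ((HomotopyCategory.quotient_map_mem_quasiIso_iff _).2 ‹QuasiIso r›)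
  have h1 := CochainComplex.IsKInjective.Qh_map_bijective (qY.obj P) J
  refine (Function.Bijective.of_comp_iff' h1 _).1 ?_
  refine Eq.subst (motive := fun F => Function.Bijective F) (funext fun u => ?_)
    ((Iso.homCongr (Iso.refl (DerivedCategory.Qh.obj (qY.obj P)))
      (asIso (DerivedCategory.Qh.map (qY.map r)))).bijective.comp (bijective_Qh_map_pushforward f P hP B))
  simp [Iso.homCongr, qY]

theorem quasiIso_of_elements {K L : CochainComplex AddCommGrpCat.{u} ℤ} (φ : K ⟶ L) (i : ℤ)
    (hs : ∀ y : L.X i, L.d i (i + 1) y = 0 →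
      ∃ (x : K.X i) (b : L.X (i - 1)), K.d i (i + 1) x = 0 ∧ φ.f i x = y + L.d (i - 1) i b)
    (hi : ∀ (x : K.X i) (b : L.X (i - 1)), K.d i (i + 1) x = 0 → φ.f i x = L.d (i - 1) i b →
      ∃ a : K.X (i - 1), K.d (i - 1) i a = x) :
    QuasiIsoAt φ i := by
  rw [quasiIsoAt_iff' φ (i - 1) i (i + 1) (by simp) (by simp),
    ShortComplex.quasiIso_iff_isIso_leftHomologyMap' _
      (ShortComplex.abLeftHomologyData _) (ShortComplex.abLeftHomologyData _)]
  let m : ShortComplex.LeftHomologyMapData
      ((HomologicalComplex.shortComplexFunctor' _ _ (i - 1) i (i + 1)).map φ)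
      (ShortComplex.abLeftHomologyData _) (ShortComplex.abLeftHomologyData _) := default
  rw [m.leftHomologyMap'_eq, ConcreteCategory.isIso_iff_bijective]
  have hk : ∀ x, ((m.φK x).1 : L.X i) = φ.f i x.1 := fun x => congr($(m.commi) x)
  have hH : ∀ x, m.φH (QuotientAddGroup.mk x) = QuotientAddGroup.mk (m.φK x) := fun x => congr($(m.commπ) x)
  refine ⟨(injective_iff_map_eq_zero _).2 fun q => ?_, fun q => ?_⟩
  · refine QuotientAddGroup.induction_on q fun x hx => ?_
    obtain ⟨b, hb⟩ := (QuotientAddGroup.eq_zero_iff _).1 ((hH x).symm.trans hx)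
    obtain ⟨a, ha⟩ := hi x.1 b x.2 ((hk x).symm.trans (congrArg Subtype.val hb).symm)
    exact (QuotientAddGroup.eq_zero_iff _).2 ⟨a, Subtype.ext ha⟩
  · refine QuotientAddGroup.induction_on q fun y => ?_
    obtain ⟨x, b, hx, hxb⟩ := hs y.1 y.2
    refine ⟨QuotientAddGroup.mk ⟨x, hx⟩, (hH ⟨x, hx⟩).trans (QuotientAddGroup.eq_iff_sub_mem.2 ?_)⟩
    refine ⟨b, Subtype.ext ?_⟩
    show _ = ((m.φK ⟨x, hx⟩).1 : L.X i) - y.1
    rw [hk, hxb]
    exact (add_sub_cancel_left (y.1 : L.X i) (L.d (i - 1) i b)).symm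

/-- Global sections of a resolution of a direct image of a K-injective complex. -/
theorem quasiIso_gamma_map (f : X ⟶ Y) (B : CochainComplex X.Modules ℤ) [B.IsKInjective]
    (J : CochainComplex Y.Modules ℤ) [J.IsKInjective]
    (r : ((Scheme.Modules.pushforward f).mapHomologicalComplex (ComplexShape.up ℤ)).obj B ⟶ J) [QuasiIso r] :
    QuasiIso (((DCoh.gammaAb Y).mapHomologicalComplex (ComplexShape.up ℤ)).map r) := by
  let M := ((Scheme.Modules.pushforward f).mapHomologicalComplex (ComplexShape.up ℤ)).obj B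
  let qY := HomotopyCategory.quotient Y.Modules (ComplexShape.up ℤ)
  let e : ∀ N : Y.Modules, (freeSh (⊤ : Y.Opens) ⟶ N) ≃ Γ(N, ⊤) := freeShEquiv ⊤
  have he : ∀ {N N' : Y.Modules} (φ : freeSh (⊤ : Y.Opens) ⟶ N) (g : N ⟶ N'),
      e N' (φ ≫ g) = g.app ⊤ (e N φ) := fun φ g => freeShEquiv_comp ⊤ φ g
  have he0 : ∀ N : Y.Modules, e N 0 = 0 := fun N => by
    have h := he (0 : freeSh (⊤ : Y.Opens) ⟶ N) (0 : N ⟶ N)
    rw [comp_zero] at h
    exact h.trans (by rfl)
  have he1 : ∀ {N : Y.Modules} (φ : freeSh (⊤ : Y.Opens) ⟶ N), e N φ = φ.app ⊤ (e _ (𝟙 _)) := fun φ => by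
    rw [← he, Category.id_comp]
  have headd : ∀ {N : Y.Modules} (φ ψ : freeSh (⊤ : Y.Opens) ⟶ N), e N (φ + ψ) = e N φ + e N ψ := fun φ ψ => by
    rw [he1 (φ + ψ), he1 φ, he1 ψ]
    rfl
  have hfree : FlatMod.IsFinLocFree (freeSh (⊤ : Y.Opens)) := isFinLocFree_of_iso freeShTopIso.symm
    ((isFinLocFree_iff _).2 fun _ => ⟨⊤, trivial, IsFreeFin.pullback _ (isFreeFin_structureModule (X := Y))⟩)
  refine ⟨fun i => ?_⟩
  let S := (HomologicalComplex.single Y.Modules (ComplexShape.up ℤ) i).obj (freeSh (⊤ : Y.Opens))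
  have hS : ∀ p q, S.d p q = 0 := fun p q => HomologicalComplex.single_obj_d _ _ _ p q
  have hbij := bijective_comp_resolution f S (kflat_single hfree i) B J r
  have lift_cycle : ∀ {C : CochainComplex Y.Modules ℤ} (z : Γ(C.X i, ⊤)),
      (C.d i (i + 1)).app ⊤ z = 0 →
        ∃ φ : S ⟶ C, e _ ((HomologicalComplex.singleObjXSelf (ComplexShape.up ℤ) i _).inv ≫ φ.f i) = z := by
    intro C z hz
    have h0 : (e _).symm z ≫ C.d i (i + 1) = 0 := (e _).injective (by
      rw [he, Equiv.apply_symm_apply, hz, he0])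
    refine ⟨HomologicalComplex.mkHomFromSingle ((e _).symm z) (fun k hk => by
      obtain rfl : i + 1 = k := hk
      exact h0), ?_⟩
    rw [HomologicalComplex.mkHomFromSingle_f, ← Category.assoc, Iso.inv_hom_id, Category.id_comp,
      Equiv.apply_symm_apply]
  have boundary : ∀ {C : CochainComplex Y.Modules ℤ} (φ ψ : S ⟶ C),
      qY.map φ = qY.map ψ → ∃ b : Γ(C.X (i - 1), ⊤),
        e _ ((HomologicalComplex.singleObjXSelf (ComplexShape.up ℤ) i _).inv ≫ φ.f i) =
          e _ ((HomologicalComplex.singleObjXSelf (ComplexShape.up ℤ) i _).inv ≫ ψ.f i) +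
            (C.d (i - 1) i).app ⊤ b := by
    intro C φ ψ h
    let ι := (HomologicalComplex.singleObjXSelf (ComplexShape.up ℤ) i (freeSh (⊤ : Y.Opens))).inv
    let H := HomotopyCategory.homotopyOfEq _ _ h
    refine ⟨e _ (ι ≫ H.hom i (i - 1)), ?_⟩
    have hc := H.comm i
    rw [dNext_eq H.hom (show (ComplexShape.up ℤ).Rel i (i + 1) from rfl),
      prevD_eq H.hom (show (ComplexShape.up ℤ).Rel (i - 1) i from by simp),
      hS, zero_comp, zero_add] at hc
    rw [← he, ← headd, Category.assoc, ← Preadditive.comp_add, hc, add_comm]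
  refine quasiIso_of_elements _ i (fun (y : Γ(J.X i, ⊤)) hy => ?_) (fun (x : Γ(M.X i, ⊤)) (b : Γ(J.X (i - 1), ⊤)) hx hxb => ?_)
  · obtain ⟨ψ, hψ⟩ := lift_cycle (C := J) y hy
    obtain ⟨g, hg⟩ := hbij.2 (qY.map ψ)
    obtain ⟨φ : S ⟶ M, rfl⟩ := qY.map_surjective g
    obtain ⟨b, hb⟩ := boundary (φ ≫ r) ψ ((qY.map_comp _ _).trans hg)
    refine ⟨e _ ((HomologicalComplex.singleObjXSelf (ComplexShape.up ℤ) i _).inv ≫ φ.f i), b, ?_, ?_⟩
    · show (M.d i (i + 1)).app ⊤ _ = 0
      rw [← he, Category.assoc, φ.comm, hS, zero_comp, comp_zero, he0]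
    · show (r.f i).app ⊤ _ = y + (J.d (i - 1) i).app ⊤ b
      rw [← he, ← hψ, Category.assoc, ← HomologicalComplex.comp_f]
      exact hb
  · obtain ⟨φ, hφ⟩ := lift_cycle (C := M) x hx
    obtain ⟨β, hβ⟩ : ∃ β : freeSh (⊤ : Y.Opens) ⟶ J.X (i - 1), e _ β = b := ⟨_, Equiv.apply_symm_apply _ _⟩
    have h0 : Homotopy (φ ≫ r) 0 := by
      let ρ := (HomologicalComplex.singleObjXSelf (ComplexShape.up ℤ) i (freeSh (⊤ : Y.Opens)))
      let hh : ∀ p q, S.X p ⟶ J.X q := fun p q =>
        if h : p = i ∧ q = i - 1 then eqToHom (congrArg S.X h.1) ≫ ρ.hom ≫ β ≫ eqToHom (congrArg J.X h.2.symm)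
        else 0
      exact
      { hom := hh
        zero := fun p q hpq => dif_neg (by rintro ⟨rfl, rfl⟩; simp at hpq)
        comm := fun p => by
          rw [dNext_eq hh (show (ComplexShape.up ℤ).Rel p (p + 1) from rfl),
            prevD_eq hh (show (ComplexShape.up ℤ).Rel (p - 1) p from by simp),
            hS, zero_comp, zero_add, HomologicalComplex.zero_f, add_zero]
          by_cases hp : p = i
          · subst hp
            simp only [hh, and_self, ↓reduceDIte, eqToHom_refl, Category.comp_id, Category.id_comp,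
              Category.assoc]
            rw [← cancel_epi ρ.inv, Iso.inv_hom_id_assoc]
            refine (e _).injective ?_
            rw [HomologicalComplex.comp_f, ← Category.assoc, he _ (r.f p), he β, hφ, hβ]
            exact hxb
          · exact (HomologicalComplex.isZero_single_obj_X (ComplexShape.up ℤ) i _ p hp).eq_of_src _ _ }
    have hz : qY.map φ = 0 := hbij.1 (show qY.map φ ≫ qY.map r = 0 ≫ qY.map r by
      rw [← Functor.map_comp, zero_comp, HomotopyCategory.eq_of_homotopy _ _ h0, Functor.map_zero])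
    obtain ⟨a, ha⟩ := boundary φ 0 (hz.trans (qY.map_zero _ _).symm)
    refine ⟨a, ?_⟩
    rw [hφ, HomologicalComplex.zero_f, comp_zero, he0, zero_add] at ha
    exact ha.symm

end Groth.Agent.H16Derived.KFlat.GammaAcyclic
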