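import Groth.Agent.H16Derived.KFlat.PerfCoh

/-!
# Pseudo-coherence of modules
-/

set_option autoImplicit false
set_option linter.style.haveILetI false

universe u

open CategoryTheory CategoryTheory.Limits AlgebraicGeometry Pretriangulated

attribute [local instance] HasDerivedCategory.standard

namespace Groth.Agent.H16Derived.KFlat.Stalk

variable {X U : Scheme.{u}}

/-- Restriction of a module in degree `0`. -/
noncomputable def rdInD (j : U ⟶ X) [IsOpenImmersion j] (M : X.Modules) :
    (rd j).obj (DCoh.inD X M) ≅ DCoh.inD U ((Scheme.Modules.restrictFunctor j).obj M) :=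
  (Scheme.Modules.restrictFunctor j).mapDerivedCategorySingleFunctor 0 |>.app M

/-- `inD M` as a complex. -/
noncomputable def inDIsoQ (M : X.Modules) :
    DCoh.inD X M ≅ DerivedCategory.Q.obj ((CochainComplex.singleFunctor X.Modules 0).obj M) :=
  (DerivedCategory.singleFunctorIsoCompQ X.Modules 0).app M

/-- Cohomology of a module in degree `0`. -/
noncomputable def hdInD (M : X.Modules) : DCoh.HD (DCoh.inD X M) 0 ≅ M :=
  (DerivedCategory.homologyFunctor X.Modules 0).mapIso (inDIsoQ M) ≪≫
    (DerivedCategory.homologyFunctorFactors X.Modules 0).app _ ≪≫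
    (HomologicalComplex.homologyFunctorSingleIso X.Modules (ComplexShape.up ℤ) 0).app M

theorem isZero_hdInD (M : X.Modules) (i : ℤ) (hi : i ≠ 0) : IsZero (DCoh.HD (DCoh.inD X M) i) :=
  IsZero.of_iso ((HomologicalComplex.exactAt_single_obj (ComplexShape.up ℤ) 0 M i hi).isZero_homology)
    ((DerivedCategory.homologyFunctor X.Modules i).mapIso (inDIsoQ M) ≪≫
      (DerivedCategory.homologyFunctorFactors X.Modules i).app _)

/-- A single finite locally free module is strictly perfect. -/
theorem isStrictlyPerfect_single {M : X.Modules} (h : FlatMod.IsFinLocFree M) :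
    DCoh.IsStrictlyPerfect ((CochainComplex.singleFunctor X.Modules 0).obj M) := by
  refine ⟨⟨0, 0, fun i hi => HomologicalComplex.isZero_single_obj_X _ _ _ _ (by omega)⟩, fun i => ?_⟩
  by_cases hi : i = 0
  · subst hi
    exact isFinLocFree_of_iso (HomologicalComplex.singleObjXSelf (ComplexShape.up ℤ) 0 M).symm h
  · exact isFinLocFree_of_isZero (HomologicalComplex.isZero_single_obj_X _ _ _ _ hi)

theorem isPerfect_inD {M : X.Modules} (h : FlatMod.IsFinLocFree M) : DCoh.IsPerfect (DCoh.inD X M) :=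
  isPerfect_of_local fun x => ⟨_, (⊤ : X.Opens).ι, inferInstance, ⟨⟨x, trivial⟩, rfl⟩, _,
    isStrictlyPerfect_rd _ (isStrictlyPerfect_single h),
    ⟨(rdQ _).symm.app _ ≪≫ (rd _).mapIso (inDIsoQ M).symm⟩⟩

/-- Modules of finite type are `0`-pseudo-coherent. -/
theorem isPseudoCoherentD_inD_of_isFT {M : X.Modules} (hM : CohB1.IsFT M) :
    DCoh.IsPseudoCoherentD 0 (DCoh.inD X M) := by
  refine isPseudoCoherentD_of_local fun x => ?_
  obtain ⟨V, L, p, hx, hL, hp⟩ := exists_epi_finLocFree hM x
  haveI := hp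
  refine ⟨_, V.ι, inferInstance, ⟨⟨x, hx⟩, rfl⟩, _,
    (inDIsoQ L).inv ≫ (DerivedCategory.singleFunctor _ 0).map p ≫ (rdInD V.ι M).inv,
    isStrictlyPerfect_single hL, ?_⟩
  refine (Approx.of_isIso _ _).comp (Approx.comp ⟨fun i hi => ?_, ?_⟩ (Approx.of_isIso _ _))
  · exact isIso_of_source_target_iso_zero _ (isZero_hdInD L i (by omega)).isoZero
      (isZero_hdInD _ i (by omega)).isoZero
  · let n := Functor.isoWhiskerRight (DerivedCategory.singleFunctorIsoCompQ (V : Scheme.{u}).Modules 0)
        (DerivedCategory.homologyFunctor _ 0) ≪≫ Functor.associator _ _ _ ≪≫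
      Functor.isoWhiskerLeft (CochainComplex.singleFunctor _ 0)
        (DerivedCategory.homologyFunctorFactors _ 0) ≪≫
      HomologicalComplex.homologyFunctorSingleIso (V : Scheme.{u}).Modules (ComplexShape.up ℤ) 0
    exact ((MorphismProperty.epimorphisms _).arrow_mk_iso_iff
      (Arrow.isoMk (n.app L) (n.app _) (n.hom.naturality p).symm)).2 hp

/-- Modules of finite presentation are `(-1)`-pseudo-coherent. -/
theorem isPseudoCoherentD_inD_of_isFP {M : X.Modules} (hM : CohB1.IsFP M) :
    DCoh.IsPseudoCoherentD (-1) (DCoh.inD X M) := by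
  refine isPseudoCoherentD_of_rd fun x => ?_
  obtain ⟨V, L₁, L₀, r, p, w, hx, h₁, h₀, hp, hex⟩ := exists_presentation_finLocFree hM x
  haveI := hp
  refine ⟨V, hx, isPseudoCoherentD_of_iso (rdInD V.ι M).symm ?_⟩
  let S := ShortComplex.mk (kernel.ι p) p (kernel.condition p)
  have hS : S.ShortExact := { exact := ShortComplex.exact_of_f_is_kernel _ (kernelIsKernel p) }
  haveI : Epi (kernel.lift p r w) := hex.epi_kernelLift
  have hK : CohB1.IsFT (kernel p) :=
    isFT_of_epi (kernel.lift p r w) (H29Fitt.isFT_of_isFP _ (H8Props.FinLocFree.isFP_of_isFinLocFree _ h₁))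
  exact isPseudoCoherentD_obj₃ hS.singleTriangle_distinguished
    (by simpa using isPseudoCoherentD_inD_of_isFT hK)
    (isPseudoCoherentD_of_isPerfect (isPerfect_inD h₀) (-1))

theorem isFT_iff_pc (F : X.Modules) : DCoh.IsPseudoCoherentD 0 (DCoh.inD X F) ↔ CohB1.IsFT F :=
  ⟨fun h => isFT_of_epi (hdInD F).hom (isFT_HD_of_pc h fun i hi => isZero_hdInD F i (by omega)),
    isPseudoCoherentD_inD_of_isFT⟩

theorem isFP_iff_pc (F : X.Modules) : DCoh.IsPseudoCoherentD (-1) (DCoh.inD X F) ↔ CohB1.IsFP F := by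
  refine ⟨fun h => ?_, isPseudoCoherentD_inD_of_isFP⟩
  have h0 : CohB1.IsFP (DCoh.HD (DCoh.inD X F) 0) :=
    isFP_HD_of_pc (m := -1) h fun i hi => isZero_hdInD F i (by omega)
  exact isFP_of_iso (hdInD F) h0

end Groth.Agent.H16Derived.KFlat.Stalk
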