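import Groth.Agent.H16Derived.KFlat.PerfAmp
import Groth.Agent.H16Derived.KFlat.TorAmp
import Groth.Agent.H8Props.FlatKernel

/-!
# Perfect objects: flat amplitude and direct summands
-/

set_option autoImplicit false
set_option linter.style.haveILetI false

universe u

open CategoryTheory CategoryTheory.Limits AlgebraicGeometry Pretriangulated

attribute [local instance] HasDerivedCategory.standard

namespace Groth.Agent.H16Derived.KFlat.Stalk

variable {X U : Scheme.{u}}

/-- The kernel of an epimorphism of flat modules is flat. -/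
theorem isFlat_left {S : ShortComplex X.Modules} (hS : S.ShortExact) (h₂ : FlatMod.IsFlat S.X₂)
    (h₃ : FlatMod.IsFlat S.X₃) : FlatMod.IsFlat S.X₁ := fun x => by
  haveI : Module.Flat (X.presheaf.stalk x) (S.X₂.presheaf.stalk x) := h₂ x
  haveI : Module.Flat (X.presheaf.stalk x) (S.X₃.presheaf.stalk x) := h₃ x
  exact H8Props.flat_of_exact (H06Mod.stalkLin S.f x) (H06Mod.stalkLin S.g x)
    (H06Mod.stalk_injective S hS x) (H06Mod.stalk_exact S hS x) (H06Mod.stalk_surjective S hS x)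

/-- In an exact bounded above complex of flat modules the cycles are flat. -/
theorem isFlat_cycles_of_exact (D : CochainComplex X.Modules ℤ) (a b : ℤ)
    (hb : ∀ i, b < i → IsZero (D.X i)) (hfl : ∀ i, a ≤ i → FlatMod.IsFlat (D.X i))
    (hex : ∀ i, a ≤ i → IsZero (D.homology i)) (i : ℤ) (hi : a ≤ i) :
    FlatMod.IsFlat (D.cycles i) := by
  suffices key : ∀ k : ℕ, ∀ i, a ≤ i → b + 1 - k ≤ i → FlatMod.IsFlat (D.cycles i) from
    key (b + 1 - i).toNat i hi (by omega)
  intro k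
  induction k with
  | zero =>
    intro i _ hi
    exact isFlat_of_isZero (IsZero.of_mono (D.iCycles i) (hb i (by omega)))
  | succ k ih =>
    intro i hai hi
    have w : D.iCycles i ≫ D.toCycles i (i + 1) = 0 := by
      rw [← cancel_mono (D.iCycles (i + 1)), Category.assoc, HomologicalComplex.toCycles_i,
        HomologicalComplex.iCycles_d, zero_comp]
    let S := ShortComplex.mk _ _ w
    haveI : Epi S.g := Preadditive.epi_of_cancel_zero _ fun {P} g hg => by
      have hc := (D.homologyIsCokernel i (i + 1) (by simp)).fac (CokernelCofork.ofπ g hg)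
        WalkingParallelPair.one
      exact hc.symm.trans ((congrArg (· ≫ _) ((hex (i + 1) (by omega)).eq_of_tgt _ 0)).trans zero_comp)
    let hk : IsLimit (KernelFork.ofι S.f S.zero) :=
      KernelFork.IsLimit.ofι _ _ (fun g hg => D.liftCycles g (i + 1) (by simp) (by
          have := congrArg (· ≫ D.iCycles (i + 1)) hg
          simpa [S, Category.assoc] using this))
        (fun g hg => D.liftCycles_i _ _ _ _)
        (fun g hg m hm => by
          show m = _
          rw [← cancel_mono (D.iCycles i), HomologicalComplex.liftCycles_i]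
          exact hm)
    exact isFlat_left (S := S) { exact := ShortComplex.exact_of_f_is_kernel _ hk } (hfl i hai)
      (ih (i + 1) (by omega) (by omega))

/-- A pseudo-coherent model of a bounded flat complex truncates to a strictly perfect one. -/
theorem exists_strictlyPerfect_of_flatAmplitude {P E : CochainComplex U.Modules ℤ}
    (hP : DCoh.IsStrictlyPerfect P) (a b : ℤ) (hEv : DCoh.VanishesOutside E a b)
    (hEf : ∀ i, FlatMod.IsFlat (E.X i)) (π : P ⟶ E) (h : Approx (a - 1) (DerivedCategory.Q.map π)) :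
    ∃ E' : CochainComplex U.Modules ℤ, DCoh.IsStrictlyPerfect E' ∧
      Nonempty (DerivedCategory.Q.obj E' ≅ DerivedCategory.Q.obj E) := by
  haveI : E.IsStrictlyGE a :=
    (CochainComplex.isStrictlyGE_iff _ _).2 fun i hi => hEv i (Or.inl hi)
  obtain ⟨β, hβ, -⟩ := exists_factor_truncGE P a π fun i hi =>
    (NatIso.isIso_map_iff (DerivedCategory.homologyFunctorFactors U.Modules i) _).1
      (h.1 i (by omega))
  haveI : IsIso (DerivedCategory.Q.map β) := isIso_Q_map _ hβ
  refine ⟨_, isStrictlyPerfect_truncGE hP a (isFinLocFree_of_isFP_flat (isFP_truncGE hP a) ?_),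
    ⟨asIso (DerivedCategory.Q.map β)⟩⟩
  obtain ⟨⟨p, q, hpq⟩, hPf⟩ := hP
  let T := P.truncGE a
  let D := CochainComplex.mappingCone β
  let e := fun i : ℤ => HomologicalComplex.homotopyCofiber.XIsoBiprod β i (i + 1) rfl
  have hD0 : ∀ i, IsZero (D.homology i) := fun i => by
    have hz0 : IsZero (DerivedCategory.Q.obj D) :=
      Triangle.isZero₃_of_isIso₁ _ (DerivedCategory.mappingCone_triangle_distinguished β)
        (by assumption)
    exact IsZero.of_iso ((DerivedCategory.homologyFunctor U.Modules i).map_isZero hz0)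
      ((DerivedCategory.homologyFunctorFactors U.Modules i).app _).symm
  have hDf : ∀ i, a ≤ i → FlatMod.IsFlat (D.X i) := fun i hi => by
    have hT : FlatMod.IsFlat (T.X (i + 1)) := isFlat_of_isFinLocFree
      (isFinLocFree_of_iso (P.truncGEXIso a (i + 1) (by omega)).symm (hPf _))
    let C : ULift.{u} Bool → U.Modules := fun t => bif t.down then T.X (i + 1) else E.X i
    let g : (t : ULift.{u} Bool) → (C t ⟶ T.X (i + 1) ⊞ E.X i) := fun t => match t with
      | ⟨true⟩ => biprod.inl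
      | ⟨false⟩ => biprod.inr
    have hg : biprod.desc (Sigma.ι C ⟨true⟩) (Sigma.ι C ⟨false⟩) ≫ Sigma.desc g =
        𝟙 (T.X (i + 1) ⊞ E.X i) := by
      refine biprod.hom_ext' _ _ ?_ ?_
      · rw [biprod.inl_desc_assoc, Sigma.ι_desc]; exact (Category.comp_id _).symm
      · rw [biprod.inr_desc_assoc, Sigma.ι_desc]; exact (Category.comp_id _).symm
    refine isFlat_of_retract (M := ∐ C)
      ((e i).hom ≫ biprod.desc (Sigma.ι C ⟨true⟩) (Sigma.ι C ⟨false⟩))
      (Sigma.desc g ≫ (e i).inv) ?_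
      (isFlat_sigma C fun t => by obtain ⟨t⟩ := t; cases t; exacts [hEf i, hT])
    rw [Category.assoc]
    erw [reassoc_of% hg, Iso.hom_inv_id]
  have hz : IsZero (D.X (a - 1 - 1)) := by
    have h1 : IsZero (T.X (a - 1 - 1 + 1) ⊞ E.X (a - 1 - 1)) := by
      rw [biprod_isZero_iff]
      exact ⟨T.isZero_of_isStrictlyGE a _ (by omega), hEv _ (Or.inl (by omega))⟩
    exact h1.of_iso (e _)
  haveI : Mono (D.d (a - 1) a) := by
    have := (HomologicalComplex.exactAt_iff' D (a - 1 - 1) (a - 1) a (by simp) (by simp)).1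
      ((HomologicalComplex.exactAt_iff_isZero_homology _ _).2 (hD0 _))
    exact this.mono_g (hz.eq_of_src _ _)
  haveI : Mono (D.toCycles (a - 1) a) :=
    mono_of_mono_fac (D.toCycles_i (a - 1) a)
  haveI : Epi (D.toCycles (a - 1) a) := Preadditive.epi_of_cancel_zero _ fun {Q} g hg => by
    have hc := (D.homologyIsCokernel (a - 1) a (by simp)).fac (CokernelCofork.ofπ g hg)
      WalkingParallelPair.one
    exact hc.symm.trans ((congrArg (· ≫ _) ((hD0 a).eq_of_tgt _ 0)).trans zero_comp)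
  haveI := isIso_of_mono_of_epi (D.toCycles (a - 1) a)
  have hflat := isFlat_cycles_of_exact D a (max (max q a) b) (fun i hi => by
    have h1 : IsZero (T.X (i + 1) ⊞ E.X i) := by
      rw [biprod_isZero_iff]
      exact ⟨(hpq _ (Or.inr (by omega))).of_iso (P.truncGEXIso a (i + 1) (by omega)),
        hEv _ (Or.inr (by omega))⟩
    exact h1.of_iso (e i)) hDf (fun i _ => hD0 i) a le_rfl
  let ea : T.X a ⟶ T.X (a - 1 + 1) := eqToHom (by rw [show a - 1 + 1 = a by omega])
  refine isFlat_of_retract (M := D.cycles a)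
    (ea ≫ biprod.inl ≫ (e (a - 1)).inv ≫ D.toCycles (a - 1) a)
    (inv (D.toCycles (a - 1) a) ≫ (e (a - 1)).hom ≫ biprod.fst ≫
      eqToHom (by rw [show a - 1 + 1 = a by omega])) ?_ hflat
  simp only [ea, Category.assoc]
  erw [IsIso.hom_inv_id_assoc, Iso.inv_hom_id_assoc, biprod.inl_fst_assoc, eqToHom_trans, eqToHom_refl]

/-- The restriction of a flat module is flat. -/
theorem isFlat_restrictFunctor (j : U ⟶ X) [IsOpenImmersion j] {M : X.Modules} (h : FlatMod.IsFlat M) :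
    FlatMod.IsFlat ((Scheme.Modules.restrictFunctor j).obj M) :=
  isFlat_of_retract ((Scheme.Modules.restrictFunctorIsoPullback j).app M).hom
    ((Scheme.Modules.restrictFunctorIsoPullback j).app M).inv (Iso.hom_inv_id _) (isFlat_pullback j h)

/-- A morphism out of a strictly perfect complex is locally realised by a map of complexes. -/
theorem exists_real {P F : CochainComplex X.Modules ℤ} (hP : DCoh.IsStrictlyPerfect P)
    (α : DerivedCategory.Q.obj P ⟶ DerivedCategory.Q.obj F) (x : X) :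
    ∃ (V : X.Opens) (π : (DCoh.restrictCx V).obj P ⟶ (DCoh.restrictCx V).obj F), x ∈ V ∧
      DerivedCategory.Q.map π = (rdQ V.ι).inv.app P ≫ (rd V.ι).map α ≫ (rdQ V.ι).hom.app F := by
  obtain ⟨l, l', hl⟩ := hP.1
  obtain ⟨V, π, hx, hπ⟩ := exists_lift hP l (fun i hi => hl i (Or.inl hi))
    (𝟙 (DerivedCategory.Q.obj F)) (Approx.of_isIso l _) α x
  refine ⟨V, π, hx, ?_⟩
  rw [← hπ]
  simp

theorem isPseudoCoherentD_of_iso {m : ℤ} {K L : DCoh.D X} (e : K ≅ L)
    (h : DCoh.IsPseudoCoherentD m K) : DCoh.IsPseudoCoherentD m L := fun x => by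
  obtain ⟨V, hx, hV⟩ := h x
  exact ⟨V, hx, fun F hF => hV F ⟨hF.some ≪≫ e.symm⟩⟩

theorem isPerfect_of_iso {K L : DCoh.D X} (e : K ≅ L) (h : DCoh.IsPerfect K) :
    DCoh.IsPerfect L := fun x => by
  obtain ⟨V, hx, hV⟩ := h x
  exact ⟨V, hx, fun F hF => hV F ⟨hF.some ≪≫ e.symm⟩⟩

/-- Flat amplitude and pseudo-coherence imply perfectness. -/
theorem isPerfect_of_flatAmplitude {K : DCoh.D X} (a b : ℤ)
    (h₁ : DCoh.HasFlatAmplitudeIn a b K) (h₂ : DCoh.IsPseudoCoherentD (a - 1) K) :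
    DCoh.IsPerfect K := by
  obtain ⟨E, hEv, hEf, ⟨e⟩⟩ := h₁
  refine isPerfect_of_local fun x => ?_
  obtain ⟨V, hx, P, α, hP, hα⟩ := (isPseudoCoherentD_iff _ _).1 h₂ x
  let RE := (DCoh.restrictCx V).obj E
  let eV : (rd V.ι).obj K ≅ DerivedCategory.Q.obj RE :=
    (rd V.ι).mapIso e.symm ≪≫ (rdQ V.ι).app E
  obtain ⟨W, π, hxW, hπ⟩ := exists_real hP (α ≫ eV.hom) ⟨x, hx⟩
  have hπ' : Approx (a - 1) (DerivedCategory.Q.map π) := hπ ▸ (Approx.of_isIso _ _).comp
    (((hα.comp (Approx.of_isIso _ _)).map_rd W.ι).comp (Approx.of_isIso _ _))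
  have hv : DCoh.VanishesOutside ((DCoh.restrictCx W).obj RE) a b := fun i hi =>
    (Scheme.Modules.restrictFunctor W.ι).map_isZero
      ((Scheme.Modules.restrictFunctor V.ι).map_isZero (hEv i hi))
  have hf : ∀ i, FlatMod.IsFlat (((DCoh.restrictCx W).obj RE).X i) := fun i =>
    isFlat_restrictFunctor W.ι (isFlat_restrictFunctor V.ι (hEf i))
  obtain ⟨E', hE', ⟨i⟩⟩ := exists_strictlyPerfect_of_flatAmplitude (isStrictlyPerfect_rd W.ι hP) a b
    hv hf π hπ'
  exact ⟨_, W.ι ≫ V.ι, inferInstance, ⟨⟨⟨x, hx⟩, hxW⟩, rfl⟩, _, hE',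
    ⟨i ≪≫ (rdQ W.ι).symm.app RE ≪≫ (rd W.ι).mapIso eV.symm ≪≫ (rdComp W.ι V.ι _ rfl K).symm⟩⟩

/-- A retract of a strictly perfect complex is perfect. -/
theorem isPerfect_of_retract_strictlyPerfect {K : DCoh.D X} (hK : ∀ m, DCoh.IsPseudoCoherentD m K)
    {E : CochainComplex X.Modules ℤ} (hE : DCoh.IsStrictlyPerfect E)
    (i : K ⟶ DerivedCategory.Q.obj E) (p : DerivedCategory.Q.obj E ⟶ K) (hip : i ≫ p = 𝟙 K) :
    DCoh.IsPerfect K := by
  obtain ⟨a, b, hab⟩ := hE.1
  haveI : E.IsStrictlyGE a :=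
    (CochainComplex.isStrictlyGE_iff _ _).2 fun j hj => hab j (Or.inl hj)
  let F₀ := DerivedCategory.Q.objPreimage K
  haveI : F₀.IsGE a := (CochainComplex.isGE_iff _ _).2 fun j hj => by
    rw [HomologicalComplex.exactAt_iff_isZero_homology]
    refine IsZero.of_iso ?_ (((DerivedCategory.homologyFunctorFactors X.Modules j).app F₀).symm ≪≫
      (DerivedCategory.homologyFunctor X.Modules j).mapIso (DerivedCategory.Q.objObjPreimageIso K))
    rw [IsZero.iff_id_eq_zero]
    have e := congrArg (DerivedCategory.homologyFunctor X.Modules j).map hip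
    rw [Functor.map_comp, CategoryTheory.Functor.map_id,
      (DerivedCategory.isZero_of_isGE (DerivedCategory.Q.obj E) a j hj).eq_of_tgt
        ((DerivedCategory.homologyFunctor X.Modules j).map i) 0, zero_comp] at e
    exact e.symm
  haveI : IsIso (DerivedCategory.Q.map (F₀.πTruncGE a)) := isIso_Q_map _ inferInstance
  let F := F₀.truncGE a
  let eK : DerivedCategory.Q.obj F ≅ K :=
    (asIso (DerivedCategory.Q.map (F₀.πTruncGE a))).symm ≪≫ DerivedCategory.Q.objObjPreimageIso K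
  refine isPerfect_of_local fun x => ?_
  obtain ⟨V, hx, P, α, hP, hα⟩ := (isPseudoCoherentD_iff _ _).1 (hK (a - 1)) x
  let RF := (DCoh.restrictCx V).obj F
  obtain ⟨W, π, hxW, hπ⟩ := exists_real hP (α ≫ (rd V.ι).map eK.inv ≫ (rdQ V.ι).hom.app F) ⟨x, hx⟩
  have hπ' : Approx (a - 1) (DerivedCategory.Q.map π) := hπ ▸ (Approx.of_isIso _ _).comp
    (((hα.comp (Approx.of_isIso _ _)).map_rd W.ι).comp (Approx.of_isIso _ _))
  let P' := (DCoh.restrictCx W).obj P
  let F' := (DCoh.restrictCx W).obj RF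
  let E' := (DCoh.restrictCx W).obj ((DCoh.restrictCx V).obj E)
  have hP' : DCoh.IsStrictlyPerfect P' := isStrictlyPerfect_rd W.ι hP
  haveI : F'.IsStrictlyGE a := (CochainComplex.isStrictlyGE_iff _ _).2 fun j hj =>
    (Scheme.Modules.restrictFunctor W.ι).map_isZero
      ((Scheme.Modules.restrictFunctor V.ι).map_isZero (F.isZero_of_isStrictlyGE a j hj))
  obtain ⟨β, hβ, hqβ⟩ := exists_factor_truncGE P' a π fun j hj =>
    (NatIso.isIso_map_iff (DerivedCategory.homologyFunctorFactors _ j) _).1 (hπ'.1 j (by omega))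
  haveI : IsIso (DerivedCategory.Q.map β) := isIso_Q_map _ hβ
  let c : ∀ G : CochainComplex X.Modules ℤ,
      (rd W.ι).obj ((rd V.ι).obj (DerivedCategory.Q.obj G)) ≅
        DerivedCategory.Q.obj ((DCoh.restrictCx W).obj ((DCoh.restrictCx V).obj G)) := fun G =>
    (rd W.ι).mapIso ((rdQ V.ι).app G) ≪≫ (rdQ W.ι).app _
  let i' : DerivedCategory.Q.obj F' ⟶ DerivedCategory.Q.obj E' :=
    (c F).inv ≫ (rd W.ι).map ((rd V.ι).map (eK.hom ≫ i)) ≫ (c E).hom
  let p' : DerivedCategory.Q.obj E' ⟶ DerivedCategory.Q.obj F' :=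
    (c E).inv ≫ (rd W.ι).map ((rd V.ι).map (p ≫ eK.inv)) ≫ (c F).hom
  have hip' : i' ≫ p' = 𝟙 _ := by
    simp only [i', p', Category.assoc, Iso.hom_inv_id_assoc]
    erw [← Functor.map_comp_assoc, ← Functor.map_comp]
    rw [show (eK.hom ≫ i) ≫ p ≫ eK.inv = 𝟙 _ by rw [Category.assoc, reassoc_of% hip, Iso.hom_inv_id],
      CategoryTheory.Functor.map_id, CategoryTheory.Functor.map_id]
    erw [Category.id_comp, Iso.inv_hom_id]
  let T := P'.truncGE a
  have hE' : DCoh.IsStrictlyPerfect E' := isStrictlyPerfect_rd W.ι (isStrictlyPerfect_rd V.ι hE)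
  obtain ⟨w, hw⟩ := truncGE_data P' a
  have hT : FlatMod.IsFinLocFree (T.X a) := by
    refine isFinLocFree_of_local fun y => ?_
    obtain ⟨W₂, p₀, hy, hp₀⟩ := exists_real hE' (p' ≫ inv (DerivedCategory.Q.map β)) y
    let R := DCoh.restrictCx W₂
    refine ⟨_, W₂.ι, inferInstance, ⟨⟨y, hy⟩, rfl⟩, ?_⟩
    let S := Scheme.Modules.restrictFunctor W₂.ι
    haveI : Epi ((P'.πTruncGE a).f a) :=
      inferInstanceAs (Epi ((HomologicalComplex.πTruncGE P' (ComplexShape.embeddingUpIntGE a)).f a))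
    haveI : Epi ((R.map (P'.πTruncGE a)).f a) := inferInstanceAs (Epi (S.map ((P'.πTruncGE a).f a)))
    have w' : (R.obj P').d (a - 1) a ≫ (R.map (P'.πTruncGE a)).f a = 0 :=
      (S.map_comp _ _).symm.trans ((congrArg S.map w).trans (S.map_zero _ _))
    refine isFinLocFree_coker_of_retract (E := R.obj E') a (isStrictlyPerfect_rd W₂.ι hP')
      (isStrictlyPerfect_rd W₂.ι hE') (R.map (P'.πTruncGE a)) w' (hw.map S)
      (S.map_isZero (T.isZero_of_isStrictlyGE a _ (by omega)))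
      (S.map_isZero ((Scheme.Modules.restrictFunctor W.ι).map_isZero
        ((Scheme.Modules.restrictFunctor V.ι).map_isZero (hab _ (Or.inl (by omega))))))
      (isFP_restrict W₂.ι (isFP_truncGE hP' a))
      ((rdQ W₂.ι).inv.app P' ≫ (rd W₂.ι).map (DerivedCategory.Q.map π ≫ i') ≫ (rdQ W₂.ι).hom.app E')
      p₀ ?_
    have hu : (DerivedCategory.Q.map π ≫ i') ≫ p' ≫ inv (DerivedCategory.Q.map β) =
        DerivedCategory.Q.map (P'.πTruncGE a) := by
      rw [Category.assoc, reassoc_of% hip', ← hqβ, Functor.map_comp, Category.assoc, IsIso.hom_inv_id,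
        Category.comp_id]
    rw [hp₀, Category.assoc, Category.assoc, Iso.hom_inv_id_app_assoc, ← Functor.map_comp_assoc, hu]
    have nq := (rdQ W₂.ι).inv.naturality (P'.πTruncGE a)
    dsimp at nq
    rw [← Category.assoc, ← nq, Category.assoc, Iso.inv_hom_id_app]
    exact Category.comp_id _
  exact ⟨_, W.ι ≫ V.ι, inferInstance, ⟨⟨⟨x, hx⟩, hxW⟩, rfl⟩, _, isStrictlyPerfect_truncGE hP' a hT,
    ⟨asIso (DerivedCategory.Q.map β) ≪≫ (c F).symm ≪≫ (rd W.ι).mapIso ((rd V.ι).mapIso eK) ≪≫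
      (rdComp W.ι V.ι _ rfl K).symm⟩⟩

/-- Perfect objects are pseudo-coherent. -/
theorem isPseudoCoherentD_of_isPerfect {K : DCoh.D X} (h : DCoh.IsPerfect K) (m : ℤ) :
    DCoh.IsPseudoCoherentD m K :=
  (isPseudoCoherentD_iff m K).2 fun x => by
    obtain ⟨V, hx, hV⟩ := (isPerfect_iff K).1 h x
    exact ⟨V, hx, hV.hasApprox m⟩

/-- Direct summands of perfect objects are perfect. -/
theorem isPerfect_of_biprod (K L : DCoh.D X) [HasBinaryBiproduct K L]
    (h : DCoh.IsPerfect (K ⊞ L)) : DCoh.IsPerfect K ∧ DCoh.IsPerfect L := by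
  have hpc := fun m => isPseudoCoherentD_of_biprod K L (isPseudoCoherentD_of_isPerfect h m)
  refine ⟨isPerfect_of_rd fun x => ?_, isPerfect_of_rd fun x => ?_⟩
  all_goals
    obtain ⟨V, hx, E, hE, ⟨θ⟩⟩ := (isPerfect_iff _).1 h x
    refine ⟨V, hx, ?_⟩
  · exact isPerfect_of_retract_strictlyPerfect (fun m => isPseudoCoherentD_rd V.ι (hpc m).1) hE
      ((rd V.ι).map biprod.inl ≫ θ.inv) (θ.hom ≫ (rd V.ι).map biprod.fst)
      (by rw [Category.assoc, Iso.inv_hom_id_assoc, ← Functor.map_comp, biprod.inl_fst,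
        CategoryTheory.Functor.map_id])
  · exact isPerfect_of_retract_strictlyPerfect (fun m => isPseudoCoherentD_rd V.ι (hpc m).2) hE
      ((rd V.ι).map biprod.inr ≫ θ.inv) (θ.hom ≫ (rd V.ι).map biprod.snd)
      (by rw [Category.assoc, Iso.inv_hom_id_assoc, ← Functor.map_comp, biprod.inr_snd,
        CategoryTheory.Functor.map_id])

/-- Perfectness is pseudo-coherence plus locally finite tor dimension. -/
theorem isPerfect_iff_pc_torDim (K : DCoh.D X) :
    DCoh.IsPerfect K ↔ (∀ m, DCoh.IsPseudoCoherentD m K) ∧ DCoh.LocHasFiniteTorDim K := by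
  refine ⟨fun h => ⟨isPseudoCoherentD_of_isPerfect h, fun x => ?_⟩, fun ⟨hpc, hd⟩ => ?_⟩
  · obtain ⟨V, hx, hV⟩ := h x
    obtain ⟨E₀, hE₀, -⟩ := hV (DerivedCategory.Q.objPreimage K) ⟨DerivedCategory.Q.objObjPreimageIso K⟩
    obtain ⟨⟨V', hx', hV'⟩⟩ : Nonempty (Σ' (V : X.Opens) (_ : x ∈ V), HasPerfModel V.ι K) := by
      obtain ⟨V', hx', hV'⟩ := (isPerfect_iff K).1 h x
      exact ⟨⟨V', hx', hV'⟩⟩
    obtain ⟨E, hE, ⟨θ⟩⟩ := hV'
    obtain ⟨a, b, hab⟩ := hE.1
    refine ⟨V', a, b, hx', fun F hF => ⟨E, hab, fun i => isFlat_of_isFinLocFree (hE.2 i),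
      ⟨θ ≪≫ (rd V'.ι).mapIso hF.some.symm ≪≫ (rdQ V'.ι).app F⟩⟩⟩
  · refine isPerfect_of_rd fun x => ?_
    obtain ⟨V, a, b, hx, hV⟩ := hd x
    let F := DerivedCategory.Q.objPreimage K
    obtain ⟨E, hEv, hEf, ⟨e⟩⟩ := hV F ⟨DerivedCategory.Q.objObjPreimageIso K⟩
    let eV : DCoh.toD (V : Scheme.{u}) E ≅ (rd V.ι).obj K :=
      e ≪≫ (rdQ V.ι).symm.app F ≪≫ (rd V.ι).mapIso (DerivedCategory.Q.objObjPreimageIso K)
    exact ⟨V, hx, isPerfect_of_flatAmplitude a b ⟨E, hEv, hEf, ⟨eV⟩⟩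
      (isPseudoCoherentD_rd V.ι (hpc _))⟩

end Groth.Agent.H16Derived.KFlat.Stalk
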