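import Groth.Agent.H16Derived.KFlat.PerfFlat
import Groth.Agent.H10Coh.FinType2

/-!
# Finite type and finite presentation are local; free covers
-/

set_option autoImplicit false
set_option linter.style.haveILetI false

universe u

open CategoryTheory CategoryTheory.Limits AlgebraicGeometry TopologicalSpace

namespace Groth.Agent.H16Derived.KFlat.Stalk

variable {X U : Scheme.{u}}

/-- Restriction of generating sections along an open immersion. -/
noncomputable def generatorsRestrict (f : U ⟶ X) [IsOpenImmersion f] {M : X.Modules}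
    (G : M.GeneratingSections) : (M.restrict f).GeneratingSections :=
  have : PreservesColimitsOfSize.{u, u} (Scheme.Modules.restrictFunctor f) := inferInstance
  @SheafOfModules.GeneratingSections.map _ _ _ _ _ _ _ _ _ _ _ _ _ G (Scheme.Modules.restrictFunctor.{u} f)
    this (Scheme.Modules.restrictUnitIso _).symm

/-- Generators of `M|_U` give generators of `M.over U`. -/
noncomputable def generatorsOver (M : X.Modules) (V : X.Opens)
    (G : (M.restrict V.ι).GeneratingSections) :
    (SheafOfModules.over (R := X.ringCatSheaf) M V).GeneratingSections :=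
  let e := Scheme.Modules.overEquiv V
  let F := Scheme.Modules.overFunctorEquiv V
  @SheafOfModules.GeneratingSections.ofEpi.{u} _ _ _ _ _ _ _ _
    (@SheafOfModules.GeneratingSections.map _ _ _ _ _ _ _ _ _ _ _ _ _ G e.inverse
      (by exact e.symm.toAdjunction.leftAdjoint_preservesColimits)
      (e.unitIso.app _ ≪≫ e.inverse.mapIso
        (F.app (SheafOfModules.unit X.ringCatSheaf) ≪≫ Scheme.Modules.restrictUnitIso V.ι)))
    (e.inverse.mapIso (F.app M).symm ≪≫ (e.unitIso.app _).symm).hom
    (IsIso.epi_of_iso _)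

/-- Finite type is local. -/
theorem isFT_of_local {M : X.Modules}
    (h : ∀ x : X, ∃ (U : Scheme.{u}) (j : U ⟶ X) (_ : IsOpenImmersion j),
      x ∈ j.opensRange ∧ CohB1.IsFT ((Scheme.Modules.restrictFunctor j).obj M)) : CohB1.IsFT M := by
  have key : ∀ x : X, ∃ (W : X.Opens) (_ : x ∈ W) (G : (M.restrict W.ι).GeneratingSections),
      Finite G.I := by
    intro x
    obtain ⟨U, j, _, ⟨u, rfl⟩, hM⟩ := h x
    obtain ⟨W, hW, G, hG⟩ := H10Coh.exists_generators_nhd _ hM u
    let k := (W.ι ≫ j).isoOpensRange.inv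
    exact ⟨(W.ι ≫ j).opensRange, ⟨⟨u, hW⟩, rfl⟩,
      @SheafOfModules.GeneratingSections.ofEpi.{u} _ _ _ _ _ _ _ _ (generatorsRestrict k G)
        ((Scheme.Modules.restrictFunctor k).map ((Scheme.Modules.restrictFunctorComp W.ι j).inv.app M) ≫
          (Scheme.Modules.restrictFunctorComp k (W.ι ≫ j)).inv.app M ≫
          (Scheme.Modules.restrictFunctorCongr (Scheme.Hom.isoOpensRange_inv_comp _)).hom.app M)
        (IsIso.epi_of_iso _), hG⟩
  choose W hW G hG using key
  let σ : SheafOfModules.LocalGeneratorsData.{u} (R := X.ringCatSheaf) M :=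
    { I := X
      X := W
      coversTop := (Opens.coversTop_iff _ _).2 (eq_top_iff.2 fun x _ => Opens.mem_iSup.2 ⟨x, hW x⟩)
      generators := fun x => generatorsOver M (W x) (G x) }
  have hft : σ.IsFiniteType := by
    constructor
    intro x
    exact ⟨hG x⟩
  exact SheafOfModules.IsFiniteType.mk (R := X.ringCatSheaf) ⟨_, hft⟩

/-- Finite presentation is local. -/
theorem isFP_of_local {M : X.Modules}
    (h : ∀ x : X, ∃ (U : Scheme.{u}) (j : U ⟶ X) (_ : IsOpenImmersion j),
      x ∈ j.opensRange ∧ CohB1.IsFP ((Scheme.Modules.restrictFunctor j).obj M)) : CohB1.IsFP M := by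
  have key : ∀ x : X, ∃ (W : X.Opens) (_ : x ∈ W) (P : (M.restrict W.ι).Presentation),
      P.IsFinite := by
    intro x
    obtain ⟨U, j, _, ⟨u, rfl⟩, hM⟩ := h x
    obtain ⟨W, hW, P, hP⟩ := H29Fitt.exists_presentation_nhd _ hM u
    let k := (W.ι ≫ j).isoOpensRange.inv
    refine ⟨(W.ι ≫ j).opensRange, ⟨⟨u, hW⟩, rfl⟩, H10Coh.presOfIso
      ((Scheme.Modules.restrictFunctor k).mapIso ((Scheme.Modules.restrictFunctorComp W.ι j).symm.app M) ≪≫
          (Scheme.Modules.restrictFunctorComp k (W.ι ≫ j)).symm.app M ≪≫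
          (Scheme.Modules.restrictFunctorCongr (Scheme.Hom.isoOpensRange_inv_comp _)).app M)
        (Scheme.Modules.presentationRestrict k P), ?_⟩
    exact H10Coh.presOfIso_isFinite _ _
      ⟨⟨hP.isFiniteType_generators.finite⟩, ⟨hP.isFiniteType_relations.finite⟩⟩
  choose W hW P hP using key
  let σ : SheafOfModules.QuasicoherentData.{u} (R := X.ringCatSheaf) M :=
    { I := X
      X := W
      coversTop := (Opens.coversTop_iff _ _).2 (eq_top_iff.2 fun x _ => Opens.mem_iSup.2 ⟨x, hW x⟩)
      presentation := fun x => H10Coh.presentationOver M (W x) (P x) }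
  suffices hσ : σ.IsFinitePresentation by
    exact SheafOfModules.IsFinitePresentation.mk (R := X.ringCatSheaf) ⟨σ, hσ⟩
  constructor
  intro x
  exact ⟨⟨(hP x).isFiniteType_generators.finite⟩, ⟨(hP x).isFiniteType_relations.finite⟩⟩

/-- Finitely generated free modules are finite locally free. -/
theorem isFinLocFree_free (I : Type u) [Finite I] :
    FlatMod.IsFinLocFree (SheafOfModules.free (R := X.ringCatSheaf) I : X.Modules) := by
  haveI := Fintype.ofFinite I
  have hn : FlatMod.IsFinLocFree (FlatMod.freeMod X (Fintype.card I)) :=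
    isFinLocFree_sigma _ fun _ => (isFinLocFree_iff _).2 fun x =>
      ⟨⊤, trivial, isFreeFin_structureModule.pullback _⟩
  refine isFinLocFree_of_iso ?_ hn
  exact (Sigma.whiskerEquiv (f := fun _ : I => Coh.structureModule X)
    (g := fun _ : Fin (Fintype.card I) => Coh.structureModule X) (Fintype.equivFin I)
    fun _ => Iso.refl _).symm

/-- Locally a module of finite type is a quotient of a finite locally free one. -/
theorem exists_epi_finLocFree {M : X.Modules} (hM : CohB1.IsFT M) (x : X) :
    ∃ (V : X.Opens) (L : (V : Scheme.{u}).Modules) (p : L ⟶ M.restrict V.ι),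
      x ∈ V ∧ FlatMod.IsFinLocFree L ∧ Epi p := by
  obtain ⟨V, hx, G, hG⟩ := H10Coh.exists_generators_nhd M hM x
  exact ⟨V, _, G.π, hx, isFinLocFree_free G.I, G.epi⟩

/-- Locally a module of finite presentation is a cokernel of finite locally free ones. -/
theorem exists_presentation_finLocFree {M : X.Modules} (hM : CohB1.IsFP M) (x : X) :
    ∃ (V : X.Opens) (L₁ L₀ : (V : Scheme.{u}).Modules) (r : L₁ ⟶ L₀) (p : L₀ ⟶ M.restrict V.ι)
      (w : r ≫ p = 0),
      x ∈ V ∧ FlatMod.IsFinLocFree L₁ ∧ FlatMod.IsFinLocFree L₀ ∧ Epi p ∧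
        (ShortComplex.mk r p w).Exact := by
  obtain ⟨V, hx, P, hP⟩ := H29Fitt.exists_presentation_nhd M hM x
  haveI := hP.isFiniteType_generators.finite
  haveI := hP.isFiniteType_relations.finite
  haveI := P.relations.epi
  have w : (P.relations.π ≫ kernel.ι P.generators.π) ≫ P.generators.π = 0 := by simp
  refine ⟨V, _, _, _, _, w, hx, isFinLocFree_free P.relations.I, isFinLocFree_free P.generators.I,
    P.generators.epi, ?_⟩
  let f : ShortComplex.mk _ _ w ⟶ ShortComplex.mk _ _ (kernel.condition P.generators.π) :=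
    { τ₁ := P.relations.π
      τ₂ := 𝟙 _
      τ₃ := 𝟙 _ }
  exact (ShortComplex.exact_iff_of_epi_of_isIso_of_mono f).2
    (ShortComplex.exact_of_f_is_kernel _ (kernelIsKernel _))

end Groth.Agent.H16Derived.KFlat.Stalk
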