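import Groth.Agent.H16Derived.KFlat.GammaDerived
import Groth.Agent.H16Derived.AcyclicLES
import Groth.Agent.H11Tilde.ModLoc

/-!
# Derived global sections over affine opens detect isomorphisms
-/

set_option autoImplicit false
set_option linter.style.haveILetI false

universe u

open CategoryTheory CategoryTheory.Limits AlgebraicGeometry Opposite TopologicalSpace

attribute [local instance] HasDerivedCategory.standard

namespace Groth.Agent.H16Derived.KFlat.GammaAcyclic

open Groth.Agent.H16Derived.KFlat.Stalk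

variable {Y : Scheme.{u}}

/-- A complex with acyclic sections over affine opens is acyclic. -/
theorem acyclic_of_affine_sections (C : CochainComplex Y.Modules ℤ)
    (h : ∀ U : Y.Opens, IsAffineOpen U → (((DCoh.gammaAb (U : Scheme.{u})).mapHomologicalComplex
      (ComplexShape.up ℤ)).obj ((DCoh.restrictCx U).obj C)).Acyclic) : C.Acyclic := by
  intro i
  rw [HomologicalComplex.exactAt_iff' _ (i - 1) i (i + 1) (by simp) (by simp)]
  refine H11Tilde.exact_of_locally _ fun W t ht x hx => ?_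
  obtain ⟨_, ⟨(V : Y.Opens), (hV : IsAffineOpen V), rfl⟩, hxV, hVW⟩ := Y.isBasis_affineOpens.exists_subset_of_mem_open hx W.2
  have hle : V.ι ''ᵁ ⊤ ≤ W := by rw [Scheme.Opens.ι_image_top]; exact hVW
  have hex := h V hV i
  rw [HomologicalComplex.exactAt_iff' _ (i - 1) i (i + 1) (by simp) (by simp),
    ShortComplex.ab_exact_iff] at hex
  refine ⟨V.ι ''ᵁ ⊤, hle, by rw [Scheme.Opens.ι_image_top]; exact hxV, ?_⟩
  obtain ⟨s, hs⟩ := hex ((C.X i).presheaf.map (homOfLE hle).op t) (by
    refine (H11Tilde.app_map_apply (C.d i (i + 1)) hle t).trans ?_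
    rw [show (C.d i (i + 1)).app W t = 0 from ht]
    exact map_zero _)
  exact ⟨s, hs⟩

theorem isIso_of_affine [hR : ∀ U : Y.Opens, DCoh.HasRΓ (U : Scheme.{u})] {G₁ G₂ : DCoh.D Y} (φ : G₁ ⟶ G₂)
    (h : ∀ U : Y.Opens, IsAffineOpen U →
      IsIso ((DCoh.RΓ (U : Scheme.{u})).map ((DCoh.restrictD U.ι).map φ))) : IsIso φ := by
  haveI := KFlat.Stalk.isGrothendieckAbelian_modules (X := Y)
  obtain ⟨I₁, hI₁, ⟨e₁⟩⟩ := KInjRes.exists_kInjective_iso G₁
  obtain ⟨I₂, hI₂, ⟨e₂⟩⟩ := KInjRes.exists_kInjective_iso G₂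
  obtain ⟨g, hg⟩ := KInjRes.exists_Q_map_eq (e₁.inv ≫ φ ≫ e₂.hom)
  haveI := hI₁
  haveI := hI₂
  suffices hq : QuasiIso g by
    haveI : IsIso (DerivedCategory.Q.map g) := inferInstance
    rw [hg] at this
    haveI := this
    exact (isIso_comp_right_iff φ e₂.hom).1 ((isIso_comp_left_iff e₁.inv _).1 inferInstance)
  rw [AcyclicLES.quasiIso_iff_acyclic_mappingCone]
  refine acyclic_of_affine_sections _ fun U hU => ?_
  let R := Scheme.Modules.restrictFunctor U.ι
  let Γ' := DCoh.gammaAb (U : Scheme.{u})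
  let c := ComplexShape.up ℤ
  let qU := HomotopyCategory.quotient (U : Scheme.{u}).Modules c
  let qY := HomotopyCategory.quotient Y.Modules c
  let gU := (DCoh.restrictCx U).map g
  haveI := isKInjective_restrict U I₁
  haveI := isKInjective_restrict U I₂
  haveI := h U hU
  -- the derived map is an isomorphism
  haveI h1 : IsIso ((DCoh.RΓ (U : Scheme.{u})).map ((DCoh.restrictD U.ι).map (DerivedCategory.Q.map g))) := by
    rw [hg]
    simp only [Functor.map_comp]
    infer_instance
  haveI h2 : IsIso ((DCoh.RΓ (U : Scheme.{u})).map (DerivedCategory.Q.map gU)) :=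
    (NatIso.isIso_map_iff (Functor.isoWhiskerRight R.mapDerivedCategoryFactors (DCoh.RΓ (U : Scheme.{u}))) g).1 h1
  haveI h3 : IsIso ((DCoh.RΓ (U : Scheme.{u})).map (DerivedCategory.Qh.map (qU.map gU))) :=
    (NatIso.isIso_map_iff (Functor.isoWhiskerRight (DerivedCategory.quotientCompQhIso _)
      (DCoh.RΓ (U : Scheme.{u}))) gU).2 h2
  haveI : IsIso ((gammaUnit (U : Scheme.{u})).app (qU.obj ((DCoh.restrictCx U).obj I₁))) :=
    isIso_gammaUnit _ _
  haveI : IsIso ((gammaUnit (U : Scheme.{u})).app (qU.obj ((DCoh.restrictCx U).obj I₂))) :=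
    isIso_gammaUnit _ _
  haveI h4 : IsIso ((DCoh.gammaKh (U : Scheme.{u})).map (qU.map gU)) := by
    haveI : IsIso ((DerivedCategory.Qh ⋙ DCoh.RΓ (U : Scheme.{u})).map (qU.map gU)) := h3
    haveI : IsIso ((DCoh.gammaKh (U : Scheme.{u})).map (qU.map gU) ≫
        (gammaUnit (U : Scheme.{u})).app (qU.obj ((DCoh.restrictCx U).obj I₂))) := by
      rw [(gammaUnit (U : Scheme.{u})).naturality]
      infer_instance
    exact IsIso.of_isIso_comp_right _
      ((gammaUnit (U : Scheme.{u})).app (qU.obj ((DCoh.restrictCx U).obj I₂)))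
  have h5 : QuasiIso ((Γ'.mapHomologicalComplex c).map gU) :=
    (DerivedCategory.isIso_Q_map_iff_quasiIso _ _).1
      ((NatIso.isIso_map_iff (DerivedCategory.quotientCompQhIso AddCommGrpCat.{u})
        ((Γ'.mapHomologicalComplex c).map gU)).1 h4)
  rw [AcyclicLES.quasiIso_iff_acyclic_mappingCone] at h5
  intro i
  refine (h5 i).of_iso ?_
  exact ((Γ'.mapHomologicalComplex c).mapIso (CochainComplex.mappingCone.mapHomologicalComplexIso g R) ≪≫
    CochainComplex.mappingCone.mapHomologicalComplexIso gU Γ').symm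

end Groth.Agent.H16Derived.KFlat.GammaAcyclic
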