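import Groth.Agent.H16Derived.KFlat.TotCompare
import Groth.Prelude.Def_KFlatSite
import Mathlib.Algebra.Category.ModuleCat.ChangeOfRings
import Mathlib.Algebra.Category.ModuleCat.Monoidal.Basic
import Mathlib.Algebra.Homology.Monoidal
import Mathlib.LinearAlgebra.TensorProduct.Tower

/-!
# K-flat complexes of modules are stable under extension of scalars
-/

set_option autoImplicit false

universe u

open CategoryTheory CategoryTheory.Limits MonoidalCategory TensorProduct

namespace Groth.Agent.H16Derived.KFlat.BaseChange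

variable {R S : Type u} [CommRing R] [CommRing S] [Algebra R S]

/-- A module over `S` as one over `R`. -/
noncomputable abbrev res : ModuleCat.{u} S ⥤ ModuleCat.{u} R := ModuleCat.restrictScalars (algebraMap R S)

/-- `M ⊗_S N' ≅ M ⊗_R N` for `N' = S ⊗_R N`. -/
noncomputable def cancel (M : ModuleCat.{u} S) (N : ModuleCat.{u} R) (N' : ModuleCat.{u} S)
    (e : S ⊗[R] N ≃ₗ[S] N') :
    (forget₂ (ModuleCat.{u} S) AddCommGrpCat.{u}).obj (M ⊗ N') ≅
      (forget₂ (ModuleCat.{u} R) AddCommGrpCat.{u}).obj (res.obj M ⊗ N) :=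
  letI : Module R M := Module.compHom M (algebraMap R S)
  letI : IsScalarTower R S M := .of_algebraMap_smul fun _ _ => rfl
  ((TensorProduct.congr (LinearEquiv.refl S M) e.symm).trans
    (TensorProduct.AlgebraTensorModule.cancelBaseChange R S S M N)).toAddEquiv.toAddCommGrpIso

lemma cancel_tmul (M : ModuleCat.{u} S) (N : ModuleCat.{u} R) (N' : ModuleCat.{u} S)
    (e : S ⊗[R] N ≃ₗ[S] N') (m : M) (r : S) (n : N) :
    (cancel M N N' e).hom.hom (m ⊗ₜ[S] e (r ⊗ₜ[R] n)) =
      (show (res (R := R)).obj M from r • m) ⊗ₜ[R] n := by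
  letI : Module R M := Module.compHom M (algebraMap R S)
  letI : IsScalarTower R S M := .of_algebraMap_smul fun _ _ => rfl
  show (TensorProduct.AlgebraTensorModule.cancelBaseChange R S S M N)
    ((TensorProduct.congr (LinearEquiv.refl S M) e.symm) (m ⊗ₜ[S] e (r ⊗ₜ[R] n))) = _
  rw [TensorProduct.congr_tmul, LinearEquiv.refl_apply, LinearEquiv.symm_apply_apply]
  rfl

lemma addHom_ext {T : Type u} [AddCommGroup T] {M N N' : Type u} [AddCommGroup M] [Module S M]
    [AddCommGroup N] [Module R N] [AddCommGroup N'] [Module S N'] (e : S ⊗[R] N ≃ₗ[S] N')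
    (f g : M ⊗[S] N' →+ T)
    (h : ∀ (m : M) (r : S) (n : N), f (m ⊗ₜ e (r ⊗ₜ n)) = g (m ⊗ₜ e (r ⊗ₜ n))) : f = g := by
  refine AddMonoidHom.ext fun t => ?_
  induction t using TensorProduct.induction_on with
  | zero => rw [map_zero, map_zero]
  | add a b ha hb => rw [map_add, map_add, ha, hb]
  | tmul m n' =>
    obtain ⟨s, rfl⟩ := e.surjective n'
    induction s using TensorProduct.induction_on with
    | zero => rw [map_zero, tmul_zero, map_zero, map_zero]
    | add a b ha hb => rw [map_add, tmul_add, map_add, map_add, ha, hb]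
    | tmul r n => exact h m r n

variable (K : DRing.Cx R) (K' : DRing.Cx S) (e : ∀ q, S ⊗[R] (K.X q) ≃ₗ[S] K'.X q)
  (he : ∀ q t, K'.d q (q + 1) (e q t) = e (q + 1) ((K.d q (q + 1)).hom.lTensor S t))

include he in
/-- Extension of scalars preserves K-flatness. -/
theorem isKFlat (hK : DRing.IsKFlat R K) : DRing.IsKFlat S K' := by
  refine (isKFlat_iff_homology (curriedTensor (ModuleCat.{u} S)) _).1 fun M hM => ?_
  let M' : DRing.Cx R := (res.mapHomologicalComplex (ComplexShape.up ℤ)).obj M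
  have hM' : M'.Acyclic := fun i => by
    have h := hM i
    rw [HomologicalComplex.exactAt_iff, ShortComplex.exact_iff_exact_map_forget₂] at h ⊢
    exact h
  have h' := (isKFlat_iff_homology (curriedTensor (ModuleCat.{u} R)) _).2 hK M' hM'
  have i₀ := TotCompare.iso (G₁ := forget₂ (ModuleCat.{u} S) AddCommGrpCat.{u})
    (G₂ := forget₂ (ModuleCat.{u} R) AddCommGrpCat.{u})
    (F₁ := curriedTensor (ModuleCat.{u} S)) (F₂ := curriedTensor (ModuleCat.{u} R)) M K' M' K
    (fun p q => cancel (M.X p) (K.X q) (K'.X q) (e q))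
    (fun p q => by
      refine AddCommGrpCat.hom_ext (addHom_ext (e q) _ _ fun m r n => ?_)
      show (cancel (M.X (p + 1)) (K.X q) (K'.X q) (e q)).hom.hom
          ((M.d p (p + 1)).hom.rTensor (K'.X q) (m ⊗ₜ[S] e q (r ⊗ₜ[R] n))) =
        (M'.d p (p + 1)).hom.rTensor (K.X q)
          ((cancel (M.X p) (K.X q) (K'.X q) (e q)).hom.hom (m ⊗ₜ[S] e q (r ⊗ₜ[R] n)))
      rw [LinearMap.rTensor_tmul, cancel_tmul, cancel_tmul]
      exact congrArg (· ⊗ₜ[R] n) ((M.d p (p + 1)).hom.map_smul r m).symm)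
    (fun p q => by
      refine AddCommGrpCat.hom_ext (addHom_ext (e q) _ _ fun m r n => ?_)
      show (cancel (M.X p) (K.X (q + 1)) (K'.X (q + 1)) (e (q + 1))).hom.hom
          ((K'.d q (q + 1)).hom.lTensor (M.X p) (m ⊗ₜ[S] e q (r ⊗ₜ[R] n))) =
        (K.d q (q + 1)).hom.lTensor (M'.X p)
          ((cancel (M.X p) (K.X q) (K'.X q) (e q)).hom.hom (m ⊗ₜ[S] e q (r ⊗ₜ[R] n)))
      rw [LinearMap.lTensor_tmul, he, LinearMap.lTensor_tmul, cancel_tmul, cancel_tmul]
      rfl)
  intro i
  rw [HomologicalComplex.exactAt_iff, ShortComplex.exact_iff_exact_map_forget₂]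
  have h2 := h' i
  rw [HomologicalComplex.exactAt_iff, ShortComplex.exact_iff_exact_map_forget₂] at h2
  have h3 : (((forget₂ (ModuleCat.{u} R) AddCommGrpCat.{u}).mapHomologicalComplex
      (ComplexShape.up ℤ)).obj ((tot (curriedTensor (ModuleCat.{u} R)) M').obj K)).ExactAt i := h2
  exact HomologicalComplex.ExactAt.of_iso h3 i₀.symm

end Groth.Agent.H16Derived.KFlat.BaseChange
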