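import Groth.Agent.H16Derived.KFlat.PullDerived
import Groth.Agent.H16Derived.KFlat.StalkCriterion
import Groth.Agent.H16Derived.KFlat.BaseChange

/-!
# Pullback preserves K-flatness
-/

set_option autoImplicit false

universe u

open CategoryTheory CategoryTheory.Limits AlgebraicGeometry TensorProduct

attribute [local instance] Groth.Agent.H06Mod.stalkAlgebra

namespace Groth.Agent.H16Derived.KFlat.Stalk

open Groth.Agent.H06Mod

variable {X Y : Scheme.{u}} (f : X ⟶ Y)

/-- The pullback of a K-flat complex is K-flat. -/
theorem isKFlat_pullback {K : CochainComplex Y.Modules ℤ}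
    (hK : IsKFlat (DCoh.tensorBi (X := Y)) K) :
    IsKFlat (DCoh.tensorBi (X := X))
      (((Scheme.Modules.pullback f).mapHomologicalComplex (ComplexShape.up ℤ)).obj K) :=
  (isKFlat_iff_stalk _).2 fun x => BaseChange.isKFlat
    (((DerSch.stalkFunctor Y (f.base x)).mapHomologicalComplex (ComplexShape.up ℤ)).obj K) _
    (fun q => pullStalkEquiv f (K.X q) x)
    (fun q t => (pullStalkLin_naturality f x (K.d q (q + 1)) t).symm)
    ((isKFlat_iff_stalk K).1 hK (f.base x))

end Groth.Agent.H16Derived.KFlat.Stalk
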