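import Groth.Agent.H16Derived.KFlat.PerfTilde
import Groth.Agent.H06FlatCx.BaseChange
import Groth.Agent.H06FlatCx.FibreDim
import Groth.Prelude.Def_PerfD

/-!
# Fibres of complexes of modules: Betti numbers at points
-/

set_option autoImplicit false
set_option linter.style.haveILetI false

universe u

open CategoryTheory CategoryTheory.Limits AlgebraicGeometry Pretriangulated TensorProduct

attribute [local instance] HasDerivedCategory.standard

namespace Groth.Agent.H16Derived.KFlat.Stalk

variable {X V Z : Scheme.{u}}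

/-- The dimension of the fibre of a module at a point. -/
noncomputable def rfd (M : X.Modules) (x : X) : ℕ :=
  Module.finrank (IsLocalRing.ResidueField (X.presheaf.stalk x))
    (IsLocalRing.ResidueField (X.presheaf.stalk x) ⊗[X.presheaf.stalk x] M.presheaf.stalk x)

/-- The fibre dimension is upper semicontinuous for finite type quasi-coherent modules. -/
theorem eventually_rfd_le (M : X.Modules) (hM : Coh.IsQCoh M) (hft : CohB1.IsFT M) (x : X) :
    ∀ᶠ y in nhds x, rfd M y ≤ rfd M x := by
  obtain ⟨_, ⟨U, hU : IsAffineOpen U, rfl⟩, hxU, -⟩ :=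
    X.isBasis_affineOpens.exists_subset_of_mem_open (Set.mem_univ x) isOpen_univ
  haveI := H29Fitt.finite_sections M hM hft ⟨U, hU⟩
  obtain ⟨T, hT, hT'⟩ : ∃ T : Set X, IsOpen T ∧ T ∩ U =
      hU.fromSpec '' {q | H06FlatCx.fibDim (A := Γ(X, U)) Γ(M, U) q ≤ rfd M x} :=
    ⟨_, hU.fromSpec.isOpenEmbedding.isOpenMap _ (H06FlatCx.isOpen_fibDim_le _ _),
      Set.inter_eq_left.2 (by rintro _ ⟨q, -, rfl⟩; exact hU.range_fromSpec.le ⟨q, rfl⟩)⟩
  have hx : x ∈ T ∩ U := by
    rw [hT']
    exact ⟨hU.primeIdealOf ⟨x, hxU⟩,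
      (H8Props.FinLocFree.finrank_stalk_fibre M hM hft hU ⟨x, hxU⟩).ge, hU.fromSpec_primeIdealOf _⟩
  filter_upwards [(hT.inter U.isOpen).mem_nhds hx] with y hy
  obtain ⟨hyT, hyU⟩ := hy
  obtain ⟨q, hq, hqy⟩ : y ∈ hU.fromSpec ''
      {q | H06FlatCx.fibDim (A := Γ(X, U)) Γ(M, U) q ≤ rfd M x} := hT'.le ⟨hyT, hyU⟩
  obtain rfl : hU.primeIdealOf ⟨y, hyU⟩ = q :=
    hU.fromSpec.isOpenEmbedding.injective ((hU.fromSpec_primeIdealOf _).trans hqy.symm)
  exact (H8Props.FinLocFree.finrank_stalk_fibre M hM hft hU ⟨y, hyU⟩).le.trans hq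

/-- The fibre dimension of a finite locally free module is locally constant. -/
theorem eventually_rfd_eq (M : X.Modules) (hM : FlatMod.IsFinLocFree M) (x : X) :
    ∀ᶠ y in nhds x, rfd M y = rfd M x :=
  (H8Props.FinLocFree.isLocallyConstant_rank M hM).eventually_eq x

/-- The stalk at a point of the pullback. -/
noncomputable abbrev fpt (f : Z ⟶ V) (p : Z) :
    V.Modules ⥤ ModuleCat.{u} (Z.presheaf.stalk p) :=
  Scheme.Modules.pullback f ⋙ DerSch.stalkFunctor Z p

theorem finrank_fpt (f : Z ⟶ V) (p : Z) (hp : IsField (Z.presheaf.stalk p)) (M : V.Modules) :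
    Module.finrank (Z.presheaf.stalk p) ((fpt f p).obj M) = rfd M (f.base p) := by
  letI := H06Mod.stalkAlgebra f p
  let R := V.presheaf.stalk (f.base p)
  let K := IsLocalRing.ResidueField R
  let F := Z.presheaf.stalk p
  have h0 : ∀ a ∈ IsLocalRing.maximalIdeal R, (f.stalkMap p).hom a = 0 := fun a ha => by
    by_contra hne
    obtain ⟨b, hb⟩ := hp.mul_inv_cancel hne
    exact ha (IsUnit.of_map (f.stalkMap p).hom a (.of_mul_eq_one b hb))
  letI : Algebra K F :=
    (Ideal.Quotient.lift (IsLocalRing.maximalIdeal R) (f.stalkMap p).hom h0).toAlgebra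
  haveI : IsScalarTower R K F := IsScalarTower.of_algebraMap_eq fun _ => rfl
  haveI : Nontrivial F := hp.nontrivial
  show Module.finrank F (((Scheme.Modules.pullback f).obj M).presheaf.stalk p) = _
  rw [← (H06Mod.pullStalkEquiv f M p).finrank_eq,
    ← (AlgebraTensorModule.cancelBaseChange R K F F (M.presheaf.stalk (f.base p))).finrank_eq,
    Module.finrank_baseChange]
  rfl

theorem finite_fpt (f : Z ⟶ V) (p : Z) (M : V.Modules) (hM : CohB1.IsFT M) :
    Module.Finite (Z.presheaf.stalk p) ((fpt f p).obj M) := by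
  letI := H06Mod.stalkAlgebra f p
  haveI : Module.Finite (V.presheaf.stalk (f.base p)) (M.presheaf.stalk (f.base p)) :=
    H06Mod.finite_stalk M hM _
  exact Module.Finite.equiv (H06Mod.pullStalkEquiv f M p)

theorem finrank_homology_coker {R : Type u} [Field R] (C : CochainComplex (ModuleCat.{u} R) ℤ)
    (i : ℤ) [Module.Finite R (C.X i)] [Module.Finite R (C.X (i + 1))] :
    Module.finrank R (C.homology i) + Module.finrank R (C.X (i + 1)) =
      Module.finrank R ↥(cokernel (C.d (i - 1) i)) +
        Module.finrank R ↥(cokernel (C.d i (i + 1))) := by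
  rw [((C.homologyIsoSc' (i - 1) i (i + 1) (by simp) (by simp)) ≪≫
      (C.sc' (i - 1) i (i + 1)).moduleCatHomologyIso).toLinearEquiv.finrank_eq,
    (ModuleCat.cokernelIsoRangeQuotient (C.d (i - 1) i)).toLinearEquiv.finrank_eq,
    (ModuleCat.cokernelIsoRangeQuotient (C.d i (i + 1))).toLinearEquiv.finrank_eq,
    ← H06FlatCx.finrank_homology_add (C.d (i - 1) i).hom (C.d i (i + 1)).hom (by
      rw [← ModuleCat.hom_comp, C.d_comp_d]; rfl)]
  congr 1
  refine LinearEquiv.finrank_eq (Submodule.quotEquivOfEq _ _ (SetLike.ext fun z => ?_))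
  exact ⟨by rintro ⟨w, rfl⟩; exact ⟨w, rfl⟩, by rintro ⟨w, hw⟩; exact ⟨w, Subtype.ext hw⟩⟩

/-- The dimensions of the stalks of the cohomology of a pulled back complex. -/
theorem finrank_homology_fpt (f : Z ⟶ V) (p : Z) (hp : IsField (Z.presheaf.stalk p))
    (S : CochainComplex V.Modules ℤ) (hS : ∀ i, CohB1.IsFT (S.X i)) (i : ℤ) :
    Module.finrank (Z.presheaf.stalk p) ((DerSch.stalkFunctor Z p).obj
        ((((Scheme.Modules.pullback f).mapHomologicalComplex (ComplexShape.up ℤ)).obj S).homology i)) +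
      rfd (S.X (i + 1)) (f.base p) =
    rfd (cokernel (S.d (i - 1) i)) (f.base p) + rfd (cokernel (S.d i (i + 1))) (f.base p) := by
  letI : Field (Z.presheaf.stalk p) := hp.toField
  haveI : PreservesFiniteColimits (fpt f p) := by
    haveI : PreservesFiniteColimits (Scheme.Modules.pullback f) :=
      (Scheme.Modules.pullbackPushforwardAdjunction f).leftAdjoint_preservesColimits
        |> fun _ => PreservesColimitsOfSize.preservesFiniteColimits _
    exact comp_preservesFiniteColimits _ _
  haveI : (DerSch.stalkFunctor Z p).Additive := Functor.additive_of_preserves_binary_products _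
  let C := ((fpt f p).mapHomologicalComplex (ComplexShape.up ℤ)).obj S
  haveI : Module.Finite (Z.presheaf.stalk p) (C.X i) := finite_fpt f p _ (hS i)
  haveI : Module.Finite (Z.presheaf.stalk p) (C.X (i + 1)) := finite_fpt f p _ (hS (i + 1))
  let P := ((Scheme.Modules.pullback f).mapHomologicalComplex (ComplexShape.up ℤ)).obj S
  let e : (DerSch.stalkFunctor Z p).obj (P.homology i) ≅ C.homology i :=
    ((P.sc i).mapHomologyIso (DerSch.stalkFunctor Z p)).symm
  rw [← finrank_fpt f p hp, ← finrank_fpt f p hp, ← finrank_fpt f p hp,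
    e.toLinearEquiv.finrank_eq,
    (PreservesCokernel.iso (fpt f p) (S.d (i - 1) i)).toLinearEquiv.finrank_eq,
    (PreservesCokernel.iso (fpt f p) (S.d i (i + 1))).toLinearEquiv.finrank_eq]
  exact finrank_homology_coker C i

/-- On a one-point scheme, the global functions are the local ring. -/
theorem bijective_germ_top (p : Z) [Subsingleton Z] :
    Function.Bijective (Z.presheaf.germ ⊤ p trivial) := by
  have htop : ∀ U : Z.Opens, p ∈ U → U = ⊤ := fun U hU =>
    eq_top_iff.2 fun q _ => (Subsingleton.elim p q) ▸ hU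
  constructor
  · intro a b hab
    obtain ⟨W, hW, i, j, h⟩ := Z.presheaf.germ_eq p _ _ a b hab
    obtain rfl := htop W hW
    rw [show i = 𝟙 _ from Subsingleton.elim _ _, show j = 𝟙 _ from Subsingleton.elim _ _,
      op_id, CategoryTheory.Functor.map_id] at h
    exact h
  · intro z
    obtain ⟨W, hW, a, rfl⟩ := Z.presheaf.exists_germ_eq z
    obtain rfl := htop W hW
    exact ⟨a, rfl⟩

/-- On a one-point scheme, global sections are the stalk. -/
theorem finrank_sections (p : Z) [Subsingleton Z] (N : Z.Modules) :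
    Module.finrank (Coh.Γtop Z) (N.val.obj (Opposite.op ⊤)) =
      Module.finrank (Z.presheaf.stalk p) ((DerSch.stalkFunctor Z p).obj N) := by
  have htop : ∀ U : Z.Opens, p ∈ U → U = ⊤ := fun U hU =>
    eq_top_iff.2 fun q _ => (Subsingleton.elim p q) ▸ hU
  have bij : ∀ (G : TopCat.Presheaf AddCommGrpCat.{u} Z.toPresheafedSpace.carrier),
      Function.Bijective (G.germ ⊤ p trivial) := by
    intro G
    constructor
    · intro a b hab
      obtain ⟨W, hW, i, j, h⟩ := G.germ_eq p _ _ a b hab
      obtain rfl := htop W hW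
      rw [show i = 𝟙 _ from Subsingleton.elim _ _, show j = 𝟙 _ from Subsingleton.elim _ _,
        op_id, CategoryTheory.Functor.map_id] at h
      exact h
    · intro z
      obtain ⟨W, hW, a, rfl⟩ := G.exists_germ_eq z
      obtain rfl := htop W hW
      exact ⟨a, rfl⟩
  have bijR := bijective_germ_top p
  refine congrArg Cardinal.toNat (rank_eq_of_equiv_equiv (Z.presheaf.germ ⊤ p trivial)
    (AddEquiv.ofBijective (N.presheaf.germ ⊤ p trivial).hom (bij N.presheaf)) bijR ?_)
  exact fun r m => H06Mod.germ_smul N ⊤ trivial r m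

/-- Restricting, then pulling back. -/
noncomputable def pullbackFactorIso (W : X.Opens) (f : Z ⟶ W) (g : Z ⟶ X) (h : f ≫ W.ι = g)
    (P : CochainComplex X.Modules ℤ) :
    ((Scheme.Modules.pullback g).mapHomologicalComplex (ComplexShape.up ℤ)).obj P ≅
      ((Scheme.Modules.pullback f).mapHomologicalComplex (ComplexShape.up ℤ)).obj
        ((DCoh.restrictCx W).obj P) :=
  let e : Scheme.Modules.pullback g ≅
      Scheme.Modules.restrictFunctor W.ι ⋙ Scheme.Modules.pullback f :=
    Scheme.Modules.pullbackCongr h.symm ≪≫ (Scheme.Modules.pullbackComp _ _).symm ≪≫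
      Functor.isoWhiskerRight (Scheme.Modules.restrictFunctorIsoPullback _).symm _
  HomologicalComplex.Hom.isoOfComponents (fun i => e.app (P.X i))
    fun i j _ => (e.hom.naturality (P.d i j)).symm

/-- The only point of the spectrum of a residue field has a field as local ring. -/
theorem isField_stalk_residueField (x : X) (p : Spec (X.residueField x)) :
    IsField ((Spec (X.residueField x)).presheaf.stalk p) :=
  MulEquiv.isField (Field.toIsField (X.residueField x))
    ((RingEquiv.ofBijective _ (bijective_germ_top p)).symm.trans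
      (Scheme.ΓSpecIso _).commRingCatIsoToRingEquiv).toMulEquiv

/-- The dimension of the stalk of a cohomology sheaf of the derived pullback. -/
noncomputable abbrev fdim (g : Z ⟶ X) [DCoh.HasLpull g] (p : Z) (E : DCoh.D X) (i : ℤ) : ℕ :=
  Module.finrank (Z.presheaf.stalk p) ((DerSch.stalkFunctor Z p).obj
    (DCoh.HD ((DCoh.Lpull g).obj E) i))

theorem betti_eq_fdim (E : DCoh.D X) (x : X) [DCoh.HasLpull (X.fromSpecResidueField x)] (i : ℤ)
    (p : Spec (X.residueField x)) :
    PerfD.betti E x i = fdim (X.fromSpecResidueField x) p E i :=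
  finrank_sections p _

/-- Fibre dimensions computed by a local approximation. -/
theorem fdim_formula (E : DCoh.D X) (W : X.Opens) (S : CochainComplex (W : Scheme.{u}).Modules ℤ)
    (hS : DCoh.IsStrictlyPerfect S) (α : DCoh.toD _ S ⟶ (rd W.ι).obj E) (m : ℤ)
    (hα : Approx m α) (g : Z ⟶ X) [DCoh.HasLpull g] (p : Z) (hp : IsField (Z.presheaf.stalk p))
    (f : Z ⟶ W) (hf : f ≫ W.ι = g) (i : ℤ) (hi : m < i) :
    fdim g p E i + rfd (S.X (i + 1)) (f.base p) =
      rfd (cokernel (S.d (i - 1) i)) (f.base p) + rfd (cokernel (S.d i (i + 1))) (f.base p) := by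
  obtain ⟨P, hP, ⟨e⟩⟩ := exists_kflat_rep E
  haveI := hasLpull f
  letI := lpullCommShift f
  haveI := lpull_isTriangulated f
  let β : DCoh.toD _ S ⟶ DCoh.toD _ ((DCoh.restrictCx W).obj P) :=
    α ≫ (rd W.ι).map e.inv ≫ (rdQ W.ι).hom.app P
  have hβ : Approx m β := hα.comp (Approx.of_isIso m _)
  obtain ⟨C, u₁, u₂, hT⟩ := distinguished_cocone_triangle β
  haveI : DerivedCategory.IsLE C (m - 1) := (approx_iff hT m).1 hβ
  have hL : Approx m ((DCoh.Lpull f).map β) :=
    (approx_iff ((DCoh.Lpull f).map_distinguished _ hT) m).2 (isLE_lpull f C (m - 1))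
  haveI := hL.1 i hi
  let θ : DCoh.HD ((DCoh.Lpull g).obj E) i ≅
      (((Scheme.Modules.pullback f).mapHomologicalComplex (ComplexShape.up ℤ)).obj S).homology i :=
    (DerivedCategory.homologyFunctor _ i).mapIso
        ((DCoh.Lpull g).mapIso e.symm ≪≫ lpullObjIso g P hP ≪≫
          DerivedCategory.Q.mapIso (pullbackFactorIso W f g hf P) ≪≫
          (lpullObjIso f _ (kflat_restrict W hP)).symm) ≪≫
      (asIso ((DerivedCategory.homologyFunctor _ i).map ((DCoh.Lpull f).map β))).symm ≪≫
      (DerivedCategory.homologyFunctor _ i).mapIso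
        (lpullObjIso f S (kflat_of_isStrictlyPerfect hS)) ≪≫
      (DerivedCategory.homologyFunctorFactors _ i).app _
  rw [← finrank_homology_fpt f p hp S (fun j => H29Fitt.isFT_of_isFP _
    (H8Props.FinLocFree.isFP_of_isFinLocFree _ (hS.2 j))) i]
  congr 1
  exact ((DerSch.stalkFunctor _ p).mapIso θ).toLinearEquiv.finrank_eq

/-- A field point over an open. -/
theorem exists_lift_residueField (W : X.Opens) (y : W) :
    ∃ f : Spec (X.residueField (W.ι.base y)) ⟶ W,
      f ≫ W.ι = X.fromSpecResidueField (W.ι.base y) ∧ ∀ p, f.base p = y := by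
  let g := X.fromSpecResidueField (W.ι.base y)
  refine ⟨IsOpenImmersion.lift W.ι g (by
    rw [Scheme.range_fromSpecResidueField]
    rintro _ rfl
    exact ⟨y, rfl⟩), IsOpenImmersion.lift_fac _ _ _, fun p => W.ι.isOpenEmbedding.injective ?_⟩
  rw [← Scheme.Hom.comp_apply, IsOpenImmersion.lift_fac]
  exact Scheme.fromSpecResidueField_apply _ _

/-- Betti numbers computed by a local approximation. -/
theorem betti_formula (E : DCoh.D X) (W : X.Opens) (S : CochainComplex (W : Scheme.{u}).Modules ℤ)
    (hS : DCoh.IsStrictlyPerfect S) (α : DCoh.toD _ S ⟶ (rd W.ι).obj E) (m : ℤ)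
    (hα : Approx m α) (y : W) [DCoh.HasLpull (X.fromSpecResidueField (W.ι.base y))]
    (i : ℤ) (hi : m < i) :
    PerfD.betti E (W.ι.base y) i + rfd (S.X (i + 1)) y =
      rfd (cokernel (S.d (i - 1) i)) y + rfd (cokernel (S.d i (i + 1))) y := by
  obtain ⟨f, hf, hfp⟩ := exists_lift_residueField W y
  have key := fdim_formula E W S hS α m hα _ default (isField_stalk_residueField _ _) f hf i hi
  rw [hfp] at key
  rw [← key, betti_eq_fdim]

theorem isQCoh_isFT_coker {S : CochainComplex V.Modules ℤ} (hS : DCoh.IsStrictlyPerfect S)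
    (i j : ℤ) : Coh.IsQCoh (cokernel (S.d i j)) ∧ CohB1.IsFT (cokernel (S.d i j)) := by
  have h := H06EGA11.isFP_cokernel (H8Props.FinLocFree.isFP_of_isFinLocFree _ (hS.2 j))
    (H8Props.FinLocFree.isFP_of_isFinLocFree _ (hS.2 i)) (S.d i j)
  exact ⟨H29Fitt.isQCoh_of_isFP _ h, isFT_of_epi (cokernel.π (S.d i j))
    (H29Fitt.isFT_of_isFP _ (H8Props.FinLocFree.isFP_of_isFinLocFree _ (hS.2 j)))⟩

/-- Betti numbers of pseudo-coherent objects are upper semicontinuous. -/
theorem isOpen_betti_lt [∀ x : X, DCoh.HasLpull (X.fromSpecResidueField x)] (E : DCoh.D X)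
    {m : ℤ} (hE : DCoh.IsPseudoCoherentD m E) (i : ℤ) (hi : m < i) (n : ℕ) :
    IsOpen {x : X | PerfD.betti E x i < n} := by
  refine isOpen_iff_mem_nhds.2 fun x hx => ?_
  obtain ⟨W, hxW, S, α, hS, hα⟩ := (isPseudoCoherentD_iff m E).1 hE x
  have h1 := eventually_rfd_le _ (isQCoh_isFT_coker hS (i - 1) i).1
    (isQCoh_isFT_coker hS (i - 1) i).2 ⟨x, hxW⟩
  have h2 := eventually_rfd_le _ (isQCoh_isFT_coker hS i (i + 1)).1
    (isQCoh_isFT_coker hS i (i + 1)).2 ⟨x, hxW⟩
  have h3 := eventually_rfd_eq _ (hS.2 (i + 1)) ⟨x, hxW⟩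
  have := W.ι.isOpenEmbedding.isOpenMap.image_mem_nhds ((h1.and h2).and h3)
  refine Filter.mem_of_superset this ?_
  rintro _ ⟨y, ⟨⟨h1, h2⟩, h3⟩, rfl⟩
  have a1 := betti_formula E W S hS α m hα y i hi
  have a2 := betti_formula E W S hS α m hα ⟨x, hxW⟩ i hi
  have hx' : PerfD.betti E (W.ι.base ⟨x, hxW⟩) i < n := hx
  show PerfD.betti E (W.ι.base y) i < n
  omega

/-- The Euler characteristic of a perfect object is locally constant. -/
theorem isLocallyConstant_eulerChar [∀ x : X, DCoh.HasLpull (X.fromSpecResidueField x)]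
    (E : DCoh.D X) (hE : DCoh.IsPerfect E) :
    IsLocallyConstant fun x : X => PerfD.eulerChar E x := by
  refine (IsLocallyConstant.iff_eventually_eq _).2 fun x => ?_
  obtain ⟨W, hxW, S, hS, ⟨α⟩⟩ := (isPerfect_iff E).1 hE x
  obtain ⟨a, b, hab⟩ := hS.1
  let z : W := ⟨x, hxW⟩
  have h3 := (Set.finite_Icc a b).eventually_all.2 fun i _ => eventually_rfd_eq _ (hS.2 i) z
  refine Filter.mem_of_superset (W.ι.isOpenEmbedding.isOpenMap.image_mem_nhds h3) ?_
  rintro _ ⟨y, hy, rfl⟩
  have hr : ∀ i, rfd (S.X i) y = rfd (S.X i) z := fun i => by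
    by_cases h : i ∈ Set.Icc a b
    · exact hy i h
    · have hzero : IsZero (S.X i) := hab i (by simp only [Set.mem_Icc] at h; omega)
      have key : ∀ w : W, rfd (S.X i) w = 0 := fun w => by
        haveI : Subsingleton ((S.X i).presheaf.stalk w) :=
          ModuleCat.subsingleton_of_isZero ((DerSch.stalkFunctor (W : Scheme.{u}) w).map_isZero hzero)
        exact Module.finrank_zero_of_subsingleton
      rw [key, key]
  let c : W → ℤ → ℤ := fun w i => (rfd (cokernel (S.d (i - 1) i)) w : ℤ)
  let D : ℤ → ℤ := fun i => (i.negOnePow : ℤ) * (c y i - c z i)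
  have hD : D.support ⊆ Set.Icc a b := by
    intro i hi
    by_contra h
    have hzero : IsZero (cokernel (S.d (i - 1) i)) :=
      IsZero.of_epi (cokernel.π _) (hab i (by simp only [Set.mem_Icc] at h; omega))
    have key : ∀ w : W, c w i = 0 := fun w => by
      haveI : Subsingleton ((cokernel (S.d (i - 1) i)).presheaf.stalk w) :=
        ModuleCat.subsingleton_of_isZero ((DerSch.stalkFunctor (W : Scheme.{u}) w).map_isZero hzero)
      show ((Module.finrank _ _ : ℕ) : ℤ) = 0
      rw [Module.finrank_zero_of_subsingleton]; rfl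
    exact hi (by simp [D, key])
  have hDf : D.support.Finite := (Set.finite_Icc a b).subset hD
  have hform : ∀ (w : W) (i : ℤ), (PerfD.betti E (W.ι.base w) i : ℤ) + rfd (S.X (i + 1)) w =
      c w i + c w (i + 1) := fun w i => by
    have h := betti_formula E W S hS α.hom (i - 1) (Approx.of_isIso _ _) w i (by omega)
    simp only [c]; rw [show i + 1 - 1 = i by ring]
    exact_mod_cast h
  let e : ℤ ≃ ℤ := Equiv.addRight 1
  have hstep : ∀ i, (i.negOnePow : ℤ) * (PerfD.betti E (W.ι.base y) i : ℤ) -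
      (i.negOnePow : ℤ) * (PerfD.betti E (W.ι.base z) i : ℤ) = D i - D (e i) := fun i => by
    have h1 := hform y i
    have h2 := hform z i
    rw [hr] at h1
    simp only [D, e, Equiv.coe_addRight, Int.negOnePow_succ, Units.val_neg]
    linear_combination (i.negOnePow : ℤ) * h1 - (i.negOnePow : ℤ) * h2
  have hbf : ∀ w : W, (Function.support fun i : ℤ =>
      (i.negOnePow : ℤ) * (PerfD.betti E (W.ι.base w) i : ℤ)).Finite := fun w =>
    (Set.finite_Icc a b).subset fun i hi => by
      by_contra h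
      apply hi
      have hb := betti_formula E W S hS α.hom (i - 1) (Approx.of_isIso _ _) w i (by omega)
      have h0 : IsZero (S.X i) := hab i (by simp only [Set.mem_Icc] at h; omega)
      have hz : rfd (cokernel (S.d (i - 1) i)) w = 0 := by
        haveI : Subsingleton ((cokernel (S.d (i - 1) i)).presheaf.stalk w) :=
          ModuleCat.subsingleton_of_isZero
            ((DerSch.stalkFunctor (W : Scheme.{u}) w).map_isZero (IsZero.of_epi (cokernel.π _) h0))
        exact Module.finrank_zero_of_subsingleton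
      haveI : IsIso (cokernel.π (S.d i (i + 1))) := cokernel.π_of_zero (h0.eq_of_src _ _)
      have he : rfd (cokernel (S.d i (i + 1))) w = rfd (S.X (i + 1)) w :=
        (LinearEquiv.finrank_eq (AlgebraTensorModule.congr (LinearEquiv.refl _ _)
          ((DerSch.stalkFunctor _ w).mapIso (asIso (cokernel.π (S.d i (i + 1))))).toLinearEquiv)).symm
      simp only [show PerfD.betti E (W.ι.base w) i = 0 by omega, Nat.cast_zero, mul_zero]
  show PerfD.eulerChar E (W.ι.base y) = PerfD.eulerChar E (W.ι.base z)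
  rw [← sub_eq_zero, PerfD.eulerChar, PerfD.eulerChar, ← finsum_sub_distrib (hbf y) (hbf z),
    finsum_congr hstep, finsum_sub_distrib hDf (hDf.preimage e.injective.injOn), finsum_comp_equiv e,
    sub_self]

end Groth.Agent.H16Derived.KFlat.Stalk
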