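import Groth.Agent.H16Derived.KFlat.SheafDerived
import Groth.Agent.H16Derived.KFlat.FlatIff
import Groth.Agent.H06Mod.StalkPullback

/-!
# Existence of the derived pullback of O-modules, computed on K-flat complexes
-/

set_option autoImplicit false

universe u

open CategoryTheory CategoryTheory.Limits AlgebraicGeometry MonoidalCategory TensorProduct

attribute [local instance] HasDerivedCategory.standard
attribute [local instance] Groth.Agent.H06Mod.stalkAlgebra

namespace Groth.Agent.H16Derived.KFlat.Stalk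

open Groth.Agent.H06Mod

variable {X Y : Scheme.{u}} (f : X ⟶ Y) (x : X)

/-- `O_{X,x}` as an `O_{Y,fx}`-module. -/
noncomputable abbrev pullRing : ModuleCat.{u} (Y.presheaf.stalk (f.base x)) :=
  ModuleCat.of (Y.presheaf.stalk (f.base x)) (X.presheaf.stalk x)

lemma pullStalkLin_naturality {N N' : Y.Modules} (g : N ⟶ N')
    (t : X.presheaf.stalk x ⊗[Y.presheaf.stalk (f.base x)] N.presheaf.stalk (f.base x)) :
    pullStalkLin f N' x ((stalkLin g (f.base x)).lTensor (X.presheaf.stalk x) t) =
      stalkLin ((Scheme.Modules.pullback f).map g) x (pullStalkLin f N x t) := by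
  induction t using TensorProduct.induction_on with
  | zero => simp only [map_zero]
  | add a b ha hb => simp only [map_add, ha, hb]
  | tmul r m =>
    rw [LinearMap.lTensor_tmul, pullStalkLin_tmul, pullStalkLin_tmul, map_smul]
    exact congrArg (r • ·) (pullStalk_naturality f N x g m).symm

/-- `O_{X,x} ⊗ (-)_{fx} ≅ (f^* -)_x`, as abelian groups. -/
noncomputable def pullStalkNatIso :
    DerSch.stalkFunctor Y (f.base x) ⋙ tensorLeft (pullRing f x) ⋙
        forget₂ (ModuleCat.{u} (Y.presheaf.stalk (f.base x))) AddCommGrpCat.{u} ≅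
      Scheme.Modules.pullback f ⋙ DerSch.stalkFunctor X x ⋙
        forget₂ (ModuleCat.{u} (X.presheaf.stalk x)) AddCommGrpCat.{u} :=
  NatIso.ofComponents (fun N => (pullStalkEquiv f N x).toAddEquiv.toAddCommGrpIso) fun {N N'} g => by
    refine AddCommGrpCat.hom_ext (AddMonoidHom.ext fun t => ?_)
    exact pullStalkLin_naturality f x g t

/-- A module `M` with `(M ⊗ -)_{fx} = (f^* -)_x`. -/
noncomputable def pullStalkTensorIso :
    (DCoh.tensorBi (X := Y)).obj (sky (f.base x) (X.presheaf.stalk x)) ⋙
        DerSch.stalkFunctor Y (f.base x) ⋙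
        forget₂ (ModuleCat.{u} (Y.presheaf.stalk (f.base x))) AddCommGrpCat.{u} ≅
      Scheme.Modules.pullback f ⋙ DerSch.stalkFunctor X x ⋙
        forget₂ (ModuleCat.{u} (X.presheaf.stalk x)) AddCommGrpCat.{u} :=
  (Functor.associator _ _ _).symm ≪≫
    Functor.isoWhiskerRight (leftIso (sky (f.base x) (X.presheaf.stalk x)) (f.base x) ≪≫
      Functor.isoWhiskerLeft (DerSch.stalkFunctor Y (f.base x))
        ((curriedTensor (ModuleCat.{u} (Y.presheaf.stalk (f.base x)))).mapIso
          (LinearEquiv.ofBijective (skyStalk (f.base x) (X.presheaf.stalk x))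
            (skyStalk_bijective (f.base x) (X.presheaf.stalk x))).toModuleIso))
      (forget₂ (ModuleCat.{u} (Y.presheaf.stalk (f.base x))) AddCommGrpCat.{u}) ≪≫
    Functor.associator _ _ _ ≪≫ pullStalkNatIso f x

/-- The pullback of an acyclic K-flat complex is acyclic. -/
theorem acyclic_pullback {W : CochainComplex Y.Modules ℤ} (hW : W.Acyclic)
    (hK : IsKFlat (DCoh.tensorBi (X := Y)) W) :
    (((Scheme.Modules.pullback f).mapHomologicalComplex (ComplexShape.up ℤ)).obj W).Acyclic := by
  intro i
  rw [HomologicalComplex.exactAt_iff]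
  refine (exact_iff _).2 fun x => ?_
  have h := ((exact_iff _).1 ((HomologicalComplex.exactAt_iff _ _).1
    (acyclic_module_tensor (sky (f.base x) (X.presheaf.stalk x)) hW hK i))) (f.base x)
  rw [ShortComplex.exact_iff_exact_map_forget₂] at h ⊢
  exact ShortComplex.exact_of_iso ((W.sc i).mapNatIso (pullStalkTensorIso f x)) h

/-- The comparison of `f^*` on complexes and on the homotopy category, followed by localization. -/
noncomputable def pullKhIso :
    HomotopyCategory.quotient _ _ ⋙ DCoh.pullKh f ≅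
      (Scheme.Modules.pullback f).mapHomologicalComplex (ComplexShape.up ℤ) ⋙ DerivedCategory.Q :=
  (Functor.associator _ _ _).symm ≪≫
    Functor.isoWhiskerRight ((Scheme.Modules.pullback f).mapHomotopyCategoryFactors (ComplexShape.up ℤ))
      DerivedCategory.Qh ≪≫ Functor.associator _ _ _ ≪≫
    Functor.isoWhiskerLeft _ (DerivedCategory.quotientCompQhIso _)

lemma isIso_pullKh_map {K K' : CochainComplex Y.Modules ℤ} (φ : K ⟶ K') [QuasiIso φ]
    (hK : IsKFlat (DCoh.tensorBi (X := Y)) K) (hK' : IsKFlat (DCoh.tensorBi (X := Y)) K') :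
    IsIso ((HomotopyCategory.quotient _ _ ⋙ DCoh.pullKh f).map φ) := by
  rw [NatIso.isIso_map_iff (pullKhIso f)]
  exact isIso_Q_map _ (quasiIso_map_of_cone (Scheme.Modules.pullback f) φ fun hW =>
    acyclic_pullback f hW (hK.mappingCone φ hK'))

lemma pullKh_inverts :
    (HomologicalComplex.quasiIso Y.Modules (ComplexShape.up ℤ)).IsInvertedBy
      (res (X := Y) ⋙ HomotopyCategory.quotient _ _ ⋙ DCoh.pullKh f) := fun G G' φ (hφ : QuasiIso φ) =>
  haveI := quasiIso_res_map φ
  isIso_pullKh_map f _ (isKFlat_res G) (isKFlat_res G')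

lemma pullKh_res (G : CochainComplex Y.Modules ℤ) :
    IsIso ((HomotopyCategory.quotient _ _ ⋙ DCoh.pullKh f).map
      ((resψ (X := Y)).app ((res (X := Y)).obj G))) :=
  @isIso_pullKh_map X Y f _ _ _ (quasiIso_resψ ((res (X := Y)).obj G)) (isKFlat_res _) (isKFlat_res G)

/-- `Lf^*` exists. -/
theorem hasLpull : DCoh.HasLpull f :=
  LeftDer.hasLeftDerivedFunctor' (W₁ := HomologicalComplex.quasiIso Y.Modules (ComplexShape.up ℤ)) _
    DerivedCategory.Qh (HomotopyCategory.quotient Y.Modules (ComplexShape.up ℤ))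
    (HomologicalComplex.homotopyEquivalences Y.Modules (ComplexShape.up ℤ))
    inverts_resψ (pullKh_inverts f) (pullKh_res f)

/-- `Lf^* K = f^* K` if `K` is K-flat. -/
theorem isIso_Lpull_counit [DCoh.HasLpull f] (K : CochainComplex Y.Modules ℤ)
    (hK : IsKFlat (DCoh.tensorBi (X := Y)) K) :
    IsIso (((DCoh.pullKh f).totalLeftDerivedCounit DerivedCategory.Qh
      (HomotopyCategory.quasiIso Y.Modules (ComplexShape.up ℤ))).app
        ((HomotopyCategory.quotient _ _).obj K)) := by
  refine LeftDer.isIso_counit' (W₁ := HomologicalComplex.quasiIso Y.Modules (ComplexShape.up ℤ))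
    (HomotopyCategory.quasiIso Y.Modules (ComplexShape.up ℤ))
    DerivedCategory.Qh (HomotopyCategory.quotient Y.Modules (ComplexShape.up ℤ))
    (HomologicalComplex.homotopyEquivalences Y.Modules (ComplexShape.up ℤ))
    inverts_resψ (pullKh_inverts f) (pullKh_res f) _ _ K ?_
  haveI := quasiIso_resψ K
  exact isIso_pullKh_map f _ (isKFlat_res K) hK

end Groth.Agent.H16Derived.KFlat.Stalk
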