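import Groth.Agent.H16Derived.KFlat.Basic
import Mathlib.Algebra.Homology.HomologicalComplexLimits

/-!
# Colimits of K-flat complexes and of flat objects
-/

set_option autoImplicit false

universe v v' v'' w w' u u' u''

open CategoryTheory CategoryTheory.Limits

namespace Groth.Agent.H16Derived.KFlat

section Homology

variable {C : Type u''} [Category.{v''} C] [Abelian C] {J : Type w} [Category.{w'} J]
  [HasColimitsOfShape J C] [HasExactColimitsOfShape J C]

/-- A colimit of complexes which are cofinally exact in degree `i` is exact in degree `i`. -/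
theorem exactAt_colimit {K : J ⥤ CochainComplex C ℤ} {c : Cocone K} (hc : IsColimit c) (i : ℤ)
    (h : ∀ j, ∃ (j' : J) (_ : j ⟶ j'), (K.obj j').ExactAt i) : c.pt.ExactAt i := by
  let T : ShortComplex (J ⥤ C) := ShortComplex.mk
    ({ app := fun j => (K.obj j).d (i - 1) i
       naturality := fun j j' f => (K.map f).comm (i - 1) i } :
      K ⋙ HomologicalComplex.eval C _ (i - 1) ⟶ K ⋙ HomologicalComplex.eval C _ i)
    ({ app := fun j => (K.obj j).d i (i + 1)
       naturality := fun j j' f => (K.map f).comm i (i + 1) } :
      K ⋙ HomologicalComplex.eval C _ i ⟶ K ⋙ HomologicalComplex.eval C _ (i + 1))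
    (by ext j; exact (K.obj j).d_comp_d _ _ _)
  let e : T.map colim ≅ c.pt.sc' (i - 1) i (i + 1) :=
    ShortComplex.isoMk
      (IsColimit.coconePointUniqueUpToIso (colimit.isColimit T.X₁)
        (isColimitOfPreserves (HomologicalComplex.eval C _ (i - 1)) hc))
      (IsColimit.coconePointUniqueUpToIso (colimit.isColimit T.X₂)
        (isColimitOfPreserves (HomologicalComplex.eval C _ i) hc))
      (IsColimit.coconePointUniqueUpToIso (colimit.isColimit T.X₃)
        (isColimitOfPreserves (HomologicalComplex.eval C _ (i + 1)) hc))
      (colimit.hom_ext fun j => by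
        dsimp [T]
        erw [colimit.comp_coconePointUniqueUpToIso_hom_assoc, ι_colimMap_assoc,
          colimit.comp_coconePointUniqueUpToIso_hom]
        exact (c.ι.app j).comm (i - 1) i)
      (colimit.hom_ext fun j => by
        dsimp [T]
        erw [colimit.comp_coconePointUniqueUpToIso_hom_assoc, ι_colimMap_assoc,
          colimit.comp_coconePointUniqueUpToIso_hom]
        exact (c.ι.app j).comm i (i + 1))
  rw [HomologicalComplex.exactAt_iff' _ (i - 1) i (i + 1) (by simp) (by simp)]
  refine ShortComplex.exact_of_iso e ?_
  rw [ShortComplex.exact_iff_isZero_homology]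
  refine IsZero.of_iso ?_ (T.mapHomologyIso colim)
  rw [IsZero.iff_id_eq_zero]
  refine colimit.hom_ext fun j => ?_
  obtain ⟨j', f, hf⟩ := h j
  have h0 : IsZero (T.homology.obj j') := by
    rw [HomologicalComplex.exactAt_iff' _ (i - 1) i (i + 1) (by simp) (by simp)] at hf
    exact ((ShortComplex.exact_iff_isZero_homology _).1 hf).of_iso
      (T.mapHomologyIso ((evaluation J C).obj j')).symm
  have h1 : colimit.ι T.homology j = 0 := by
    rw [← colimit.w T.homology f, h0.eq_of_tgt (T.homology.map f) 0, zero_comp]
  erw [Category.comp_id]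
  rw [comp_zero]
  exact h1

theorem acyclic_colimit {K : J ⥤ CochainComplex C ℤ} {c : Cocone K} (hc : IsColimit c)
    (h : ∀ j, (K.obj j).Acyclic) : c.pt.Acyclic :=
  fun i => exactAt_colimit hc i fun j => ⟨j, 𝟙 j, h j i⟩

end Homology

variable {A : Type u} [Category.{v} A] [Abelian A] {B : Type u'} [Category.{v'} B] [Abelian B]
  {C : Type u''} [Category.{v''} C] [Abelian C] [HasCountableCoproducts C]
  {F : A ⥤ B ⥤ C} [F.Additive] [∀ a, (F.obj a).Additive]
  {J : Type w} [Category.{w'} J] [HasColimitsOfShape J B]
  [∀ a, PreservesColimitsOfShape J (F.obj a)]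

/-- `Tot F(L, -)` preserves colimits of shape `J`. -/
noncomputable def isColimitTot (L : CochainComplex A ℤ) {K : J ⥤ CochainComplex B ℤ}
    {c : Cocone K} (hc : IsColimit c) : IsColimit ((tot F L).mapCocone c) :=
  HomologicalComplex.isColimitOfEval _ _ fun n =>
    have hpq (p q : ℤ) : IsColimit
        ((F.obj (L.X p)).mapCocone ((HomologicalComplex.eval B _ q).mapCocone c)) :=
      isColimitOfPreserves _ (isColimitOfPreserves _ hc)
    { desc := fun s => HomologicalComplex.mapBifunctorDesc fun p q h => (hpq p q).desc
        { pt := s.pt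
          ι :=
            { app := fun j =>
                HomologicalComplex.ιMapBifunctor L (K.obj j) F (ComplexShape.up ℤ) p q n h ≫ s.ι.app j
              naturality := fun j j' f => by
                dsimp
                rw [Category.comp_id, ← s.w f]
                simp only [← Category.assoc]
                exact (congrArg (· ≫ s.ι.app j') (ι_tot_map L (K.map f) p q n h).symm).trans
                  (Category.assoc _ _ _) } }
      fac := fun s j => HomologicalComplex.mapBifunctor.hom_ext fun p q h => by
        refine (Category.assoc _ _ _).symm.trans ?_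
        refine (congrArg (· ≫ _) (ι_tot_map L (c.ι.app j) p q n h)).trans ?_
        refine (Category.assoc _ _ _).trans ?_
        refine (congrArg ((F.obj (L.X p)).map ((c.ι.app j).f q) ≫ ·)
          (HomologicalComplex.ι_mapBifunctorDesc _ p q h)).trans ?_
        exact (hpq p q).fac _ j
      uniq := fun s m hm => HomologicalComplex.mapBifunctor.hom_ext fun p q h => by
        rw [HomologicalComplex.ι_mapBifunctorDesc]
        refine (hpq p q).hom_ext fun j => ?_
        erw [(hpq p q).fac]
        dsimp
        rw [← hm j]
        refine (Category.assoc _ _ _).symm.trans ?_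
        refine (congrArg (· ≫ m) (ι_tot_map L (c.ι.app j) p q n h).symm).trans ?_
        exact Category.assoc _ _ _ }

variable [HasColimitsOfShape J C] [HasExactColimitsOfShape J C]

/-- A colimit of K-flat complexes is K-flat as soon as colimits of this shape are exact. -/
theorem isKFlat_of_isColimit {K : J ⥤ CochainComplex B ℤ} {c : Cocone K} (hc : IsColimit c)
    (h : ∀ j, IsKFlat F (K.obj j)) : IsKFlat F c.pt :=
  fun L hL => acyclic_colimit (isColimitTot L hc) fun j => h j L hL

omit [HasCountableCoproducts C] [F.Additive] [∀ a, (F.obj a).Additive] [HasColimitsOfShape J B] in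
/-- A colimit of flat objects is flat as soon as colimits of this shape are exact. -/
theorem isFlatObj_of_isColimit [F.Additive] [∀ a, (F.obj a).Additive] {b : J ⥤ B} {c : Cocone b}
    (hc : IsColimit c) (h : ∀ j, IsFlatObj F (b.obj j)) : IsFlatObj F c.pt := by
  intro S hS
  let T : ShortComplex (J ⥤ C) := ShortComplex.mk (Functor.whiskerLeft b (F.map S.f))
    (Functor.whiskerLeft b (F.map S.g)) (by
      rw [← Functor.whiskerLeft_comp, ← Functor.map_comp, S.zero, Functor.map_zero]
      rfl)
  have hT : (T.map colim).ShortExact :=
    (shortExact_of_eval T fun j => h j S hS).map_of_exact colim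
  refine ShortComplex.shortExact_of_iso ?_ hT
  refine ShortComplex.isoMk
    (IsColimit.coconePointUniqueUpToIso (colimit.isColimit T.X₁)
      (isColimitOfPreserves (F.obj S.X₁) hc))
    (IsColimit.coconePointUniqueUpToIso (colimit.isColimit T.X₂)
      (isColimitOfPreserves (F.obj S.X₂) hc))
    (IsColimit.coconePointUniqueUpToIso (colimit.isColimit T.X₃)
      (isColimitOfPreserves (F.obj S.X₃) hc))
    (colimit.hom_ext fun j => ?_) (colimit.hom_ext fun j => ?_)
  · dsimp [T]
    erw [colimit.comp_coconePointUniqueUpToIso_hom_assoc, ι_colimMap_assoc,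
      colimit.comp_coconePointUniqueUpToIso_hom]
    exact (F.map S.f).naturality (c.ι.app j)
  · dsimp [T]
    erw [colimit.comp_coconePointUniqueUpToIso_hom_assoc, ι_colimMap_assoc,
      colimit.comp_coconePointUniqueUpToIso_hom]
    exact (F.map S.g).naturality (c.ι.app j)

end Groth.Agent.H16Derived.KFlat
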