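import Groth.Agent.H16Derived.KFlat.BoundedAbove
import Mathlib.Algebra.Homology.HomotopyCategory.Pretriangulated
import Mathlib.Algebra.Homology.Embedding.CochainComplex

/-!
# One step of the functorial resolution by flat objects

Given a functorial epimorphism `π : Φ ⟶ 𝟭 B`, a degreewise epimorphism `P(G) ⟶ G`, functorial in `G`, with
kernel exact above `m`, is improved to one with kernel exact above `m - 1`, by adding terms `Φ` in degrees
`≤ m` only.
-/

set_option autoImplicit false

universe v' u'

open CategoryTheory CategoryTheory.Limits CochainComplex.HomComplex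

namespace Groth.Agent.H16Derived.KFlat.Res

variable {B : Type u'} [Category.{v'} B] [Abelian B]

/-- `τ≤m` as a functor. -/
noncomputable def trunc (m : ℤ) : CochainComplex B ℤ ⥤ CochainComplex B ℤ where
  obj G := G.truncLE m
  map φ := CochainComplex.truncLEMap φ m
  map_id G := HomologicalComplex.truncLEMap_id G _
  map_comp φ ψ := HomologicalComplex.truncLEMap_comp φ ψ _

/-- `τ≤m G ⟶ G`. -/
noncomputable def truncι (m : ℤ) : trunc (B := B) m ⟶ 𝟭 _ where
  app G := G.ιTruncLE m
  naturality _ _ φ := HomologicalComplex.ιTruncLE_naturality φ _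

variable (Φ : B ⥤ B) [Φ.PreservesZeroMorphisms] (π : Φ ⟶ 𝟭 B) [∀ b, Epi (π.app b)]

/-- `Φ` on complexes, and its map to the identity. -/
noncomputable abbrev cov : Φ.mapHomologicalComplex (ComplexShape.up ℤ) ⟶
    𝟭 (CochainComplex B ℤ) where
  app K := { f := fun i => π.app (K.X i), comm' := fun i j _ => (π.naturality (K.d i j)).symm }
  naturality K K' f := by ext i : 1; exact π.naturality (f.f i)

lemma isZero_cov_X {K : CochainComplex B ℤ} {i : ℤ} (h : IsZero (K.X i)) :
    IsZero (((Φ.mapHomologicalComplex (ComplexShape.up ℤ)).obj K).X i) := Φ.map_isZero h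

omit [Φ.PreservesZeroMorphisms] [∀ b, Epi (π.app b)] in
lemma map_f_fst {K₁ L₁ K₂ L₂ : CochainComplex B ℤ} (φ₁ : K₁ ⟶ L₁) (φ₂ : K₂ ⟶ L₂) (a : K₁ ⟶ K₂)
    (b : L₁ ⟶ L₂) (comm : φ₁ ≫ b = a ≫ φ₂) (p q : ℤ) (h : p + 1 = q) :
    (CochainComplex.mappingCone.map φ₁ φ₂ a b comm).f p ≫
      (CochainComplex.mappingCone.fst φ₂).1.v p q h =
        (CochainComplex.mappingCone.fst φ₁).1.v p q h ≫ a.f q := by
  rw [CochainComplex.mappingCone.ext_from_iff _ q p h]
  constructor <;> simp [CochainComplex.mappingCone.map]

omit [Φ.PreservesZeroMorphisms] [∀ b, Epi (π.app b)] in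
lemma map_f_snd {K₁ L₁ K₂ L₂ : CochainComplex B ℤ} (φ₁ : K₁ ⟶ L₁) (φ₂ : K₂ ⟶ L₂) (a : K₁ ⟶ K₂)
    (b : L₁ ⟶ L₂) (comm : φ₁ ≫ b = a ≫ φ₂) (p : ℤ) :
    (CochainComplex.mappingCone.map φ₁ φ₂ a b comm).f p ≫
      (CochainComplex.mappingCone.snd φ₂).v p p (add_zero p) =
        (CochainComplex.mappingCone.snd φ₁).v p p (add_zero p) ≫ b.f p := by
  rw [CochainComplex.mappingCone.ext_from_iff _ (p + 1) p rfl]
  constructor <;> simp [CochainComplex.mappingCone.map]

omit [Φ.PreservesZeroMorphisms] [∀ b, Epi (π.app b)] in
/-- If `K → P → G` is degreewise short exact and `g : T ⟶ K`, then so is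
`cone(g) → cone(g ≫ k) → G`. -/
lemma shortExact_cone {T K P G : CochainComplex B ℤ} (g : T ⟶ K) (k : K ⟶ P) (d : P ⟶ G)
    (w : k ≫ d = 0) (hk : IsLimit (KernelFork.ofι k w)) (hd : ∀ i, Epi (d.f i)) :
    (ShortComplex.mk (CochainComplex.mappingCone.map g (g ≫ k) (𝟙 T) k (Category.id_comp _).symm)
      (CochainComplex.mappingCone.desc (g ≫ k) 0 d (by
        rw [δ_zero, Category.assoc, w, comp_zero, Cochain.ofHom_zero])) (by
        ext i : 1
        rw [CochainComplex.mappingCone.ext_from_iff _ (i + 1) i rfl]
        constructor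
        · simp [CochainComplex.mappingCone.map]
        · simp [CochainComplex.mappingCone.map, ← HomologicalComplex.comp_f, w])).ShortExact := by
  refine HomologicalComplex.shortExact_of_degreewise_shortExact _ fun i => ?_
  have hK : (ShortComplex.mk (k.f i) (d.f i)
      (by rw [← HomologicalComplex.comp_f, w, HomologicalComplex.zero_f])).Exact :=
    (ShortComplex.exact_of_f_is_kernel (ShortComplex.mk _ _ w) hk).map
      (HomologicalComplex.eval B (ComplexShape.up ℤ) i)
  have : Mono k := Fork.IsLimit.mono hk
  have hm : Mono (k.f i) := inferInstance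
  have hfst := map_f_fst g (g ≫ k) (𝟙 T) k (Category.id_comp _).symm i (i + 1) rfl
  have hsnd := map_f_snd g (g ≫ k) (𝟙 T) k (Category.id_comp _).symm i
  rw [HomologicalComplex.id_f, Category.comp_id] at hfst
  have hmono : Mono ((CochainComplex.mappingCone.map g (g ≫ k) (𝟙 T) k
      (Category.id_comp _).symm).f i) := by
    refine Preadditive.mono_of_cancel_zero _ fun {W} z hz => ?_
    rw [CochainComplex.mappingCone.ext_to_iff _ i (i + 1) rfl, zero_comp, zero_comp, ← hfst,
      reassoc_of% hz, zero_comp]
    refine ⟨rfl, ?_⟩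
    rw [← cancel_mono (k.f i), Category.assoc, ← hsnd, reassoc_of% hz, zero_comp, zero_comp]
  have hepi : Epi ((CochainComplex.mappingCone.desc (g ≫ k) 0 d (by
      rw [δ_zero, Category.assoc, w, comp_zero, Cochain.ofHom_zero])).f i) :=
    have := hd i
    epi_of_epi_fac (CochainComplex.mappingCone.inr_f_desc_f _ _ _ _ i)
  refine { exact := ?_, mono_f := hmono, epi_g := hepi }
  have hlift : ∀ {W : B} (z : W ⟶ (CochainComplex.mappingCone (g ≫ k)).X i),
      z ≫ (CochainComplex.mappingCone.desc (g ≫ k) 0 d (by
        rw [δ_zero, Category.assoc, w, comp_zero, Cochain.ofHom_zero])).f i = 0 →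
      { l : W ⟶ (CochainComplex.mappingCone g).X i //
        l ≫ (CochainComplex.mappingCone.map g (g ≫ k) (𝟙 T) k (Category.id_comp _).symm).f i = z } :=
    fun {W} z hz => by
      have h' : (z ≫ (CochainComplex.mappingCone.snd (g ≫ k)).v i i (add_zero i)) ≫ d.f i = 0 := by
        refine Eq.trans ?_ hz
        simp [CochainComplex.mappingCone.desc_f _ _ _ _ i (i + 1) rfl]
      refine ⟨(z ≫ (CochainComplex.mappingCone.fst (g ≫ k)).1.v i (i + 1) rfl) ≫
            (CochainComplex.mappingCone.inl g).v (i + 1) i (by omega) +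
          hK.lift _ h' ≫ (CochainComplex.mappingCone.inr g).f i, ?_⟩
      have hl : hK.lift _ h' ≫ k.f i =
          z ≫ (CochainComplex.mappingCone.snd (g ≫ k)).v i i (add_zero i) := hK.lift_f _ h'
      rw [CochainComplex.mappingCone.ext_to_iff _ i (i + 1) rfl]
      constructor
      · simp [hfst]
      · simp [hsnd, hl]
  haveI : Mono ((ShortComplex.mk (CochainComplex.mappingCone.map g (g ≫ k) (𝟙 T) k
    (Category.id_comp _).symm) (CochainComplex.mappingCone.desc (g ≫ k) 0 d (by
      rw [δ_zero, Category.assoc, w, comp_zero, Cochain.ofHom_zero])) (by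
      ext j : 1
      rw [CochainComplex.mappingCone.ext_from_iff _ (j + 1) j rfl]
      constructor
      · simp [CochainComplex.mappingCone.map]
      · simp [CochainComplex.mappingCone.map, ← HomologicalComplex.comp_f, w])).map
        (HomologicalComplex.eval B (ComplexShape.up ℤ) i)).f := hmono
  exact ShortComplex.exact_of_f_is_kernel _ (KernelFork.IsLimit.ofι' _ _ fun {W} z hz => hlift z hz)

/-- A morphism is epi on the homology in degree `m` if it is epi in degree `m` and the source and target
vanish in degree `m + 1`. -/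
lemma epi_homologyMap {K L : CochainComplex B ℤ} (f : K ⟶ L) (m : ℤ) [Epi (f.f m)]
    (hK : IsZero (K.X (m + 1))) (hL : IsZero (L.X (m + 1))) :
    Epi (HomologicalComplex.homologyMap f m) := by
  have := K.isIso_homologyι m (m + 1) (by simp) (hK.eq_of_tgt _ _)
  have := L.isIso_homologyι m (m + 1) (by simp) (hL.eq_of_tgt _ _)
  have : Epi (K.pOpcycles m ≫ HomologicalComplex.opcyclesMap f m) := by
    rw [HomologicalComplex.p_opcyclesMap]; infer_instance
  have := epi_of_epi (K.pOpcycles m) (HomologicalComplex.opcyclesMap f m)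
  have : Epi (HomologicalComplex.homologyMap f m ≫ L.homologyι m) := by
    rw [HomologicalComplex.homologyι_naturality]; infer_instance
  have h2 : Epi ((HomologicalComplex.homologyMap f m ≫ L.homologyι m) ≫ inv (L.homologyι m)) :=
    inferInstance
  rwa [Category.assoc, IsIso.hom_inv_id, Category.comp_id] at h2

/-- A functorial augmented complex `P(G) ⟶ G`. -/
structure Stage (B : Type u') [Category.{v'} B] [Abelian B] where
  /-- the resolving complexes -/
  P : CochainComplex B ℤ ⥤ CochainComplex B ℤ
  /-- the augmentation -/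
  φ : P ⟶ 𝟭 _

/-- The kernel of the augmentation. -/
noncomputable def Stage.ker (s : Stage B) : CochainComplex B ℤ ⥤ CochainComplex B ℤ where
  obj G := kernel (s.φ.app G)
  map {G G'} f := kernel.lift _ (kernel.ι (s.φ.app G) ≫ s.P.map f) (by
    rw [Category.assoc, s.φ.naturality, kernel.condition_assoc, zero_comp])
  map_id G := (cancel_mono (kernel.ι (s.φ.app G))).1 (by simp)
  map_comp {X Y Z} f g := (cancel_mono (kernel.ι (s.φ.app Z))).1 (by simp)

/-- Morphisms of stages. -/
def StageHom (s s' : Stage B) := { α : s.P ⟶ s'.P // α ≫ s'.φ = s.φ }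

/-- Composition of morphisms of stages. -/
def StageHom.comp {s s' s'' : Stage B} (α : StageHom s s') (β : StageHom s' s'') : StageHom s s'' :=
  ⟨α.1 ≫ β.1, by rw [Category.assoc, β.2, α.2]⟩

/-- The first stage `Φ(G) ⟶ G`. -/
noncomputable def base : Stage B where
  P := Φ.mapHomologicalComplex (ComplexShape.up ℤ)
  φ := cov Φ π

variable (m : ℤ) (s : Stage B)

/-- The cells added at a step: `Φ(τ≤m ker)`. -/
noncomputable abbrev cells : CochainComplex B ℤ ⥤ CochainComplex B ℤ :=
  s.ker ⋙ trunc m ⋙ Φ.mapHomologicalComplex (ComplexShape.up ℤ)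

/-- `Φ(τ≤m ker) ⟶ ker`. -/
noncomputable def cellsToKer : cells Φ m s ⟶ s.ker :=
  Functor.whiskerLeft (s.ker ⋙ trunc m) (cov Φ π) ≫ Functor.whiskerLeft s.ker (truncι m)

/-- The kernels include in the resolving complexes. -/
noncomputable def kerι : s.ker ⟶ s.P where
  app G := kernel.ι (s.φ.app G)
  naturality _ _ _ := kernel.lift_ι _ _ _

/-- The attaching maps. -/
noncomputable def attach : cells Φ m s ⟶ s.P := cellsToKer Φ π m s ≫ kerι s

lemma attach_φ (G : CochainComplex B ℤ) : (attach Φ π m s).app G ≫ s.φ.app G = 0 :=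
  (Category.assoc _ _ _).trans
    ((congrArg ((cellsToKer Φ π m s).app G ≫ ·) (kernel.condition (s.φ.app G))).trans comp_zero)

/-- The improved augmentation. -/
noncomputable def aug (G : CochainComplex B ℤ) :
    CochainComplex.mappingCone ((attach Φ π m s).app G) ⟶ G :=
  CochainComplex.mappingCone.desc _ 0 (s.φ.app G) (by
    rw [δ_zero, attach_φ, Cochain.ofHom_zero])

@[reassoc (attr := simp)]
lemma inr_f_aug (G : CochainComplex B ℤ) (i : ℤ) :
    (CochainComplex.mappingCone.inr ((attach Φ π m s).app G)).f i ≫ (aug Φ π m s G).f i =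
      (s.φ.app G).f i :=
  CochainComplex.mappingCone.inr_f_desc_f _ _ _ _ i

@[reassoc (attr := simp)]
lemma inl_v_aug (G : CochainComplex B ℤ) (p q : ℤ) (h : p + (-1) = q) :
    (CochainComplex.mappingCone.inl ((attach Φ π m s).app G)).v p q h ≫ (aug Φ π m s G).f q = 0 :=
  (CochainComplex.mappingCone.inl_v_desc_f _ _ _ _ p q h).trans (Cochain.zero_v _ _ _)

/-- The improved stage. -/
noncomputable def step : Stage B where
  P :=
    { obj := fun G => CochainComplex.mappingCone ((attach Φ π m s).app G)
      map := fun {G G'} f => CochainComplex.mappingCone.map _ _ ((cells Φ m s).map f) (s.P.map f)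
        ((attach Φ π m s).naturality f).symm
      map_id := fun G => by
        simp only [CategoryTheory.Functor.map_id]
        exact CochainComplex.mappingCone.map_id _
      map_comp := fun f g => by
        simp only [CategoryTheory.Functor.map_comp]
        exact CochainComplex.mappingCone.map_comp _ _ _ _ _ ((attach Φ π m s).naturality f).symm _ _
          ((attach Φ π m s).naturality g).symm }
  φ :=
    { app := fun G => aug Φ π m s G
      naturality := fun G G' f => by
        ext i : 1
        have h := congr_arg (fun φ => φ.f i) (s.φ.naturality f)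
        dsimp at h
        rw [CochainComplex.mappingCone.ext_from_iff _ (i + 1) i rfl]
        constructor
        · simp [CochainComplex.mappingCone.map]
        · simp [CochainComplex.mappingCone.map, h] }

/-- The inclusion of a stage in the improved one. -/
noncomputable def toStep : StageHom s (step Φ π m s) :=
  ⟨{ app := fun G => CochainComplex.mappingCone.inr ((attach Φ π m s).app G)
     naturality := fun G G' f => by
      dsimp [step]
      simp [CochainComplex.mappingCone.map] },
    by ext G i : 3; exact inr_f_aug Φ π m s G i⟩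

variable {s} in
/-- Improvement is functorial. -/
noncomputable def stepMap {s' : Stage B} (α : StageHom s s') {m' : ℤ} (hm : m = m') :
    StageHom (step Φ π m s) (step Φ π m' s') := by
  subst hm
  let k : s.ker ⟶ s'.ker :=
    { app := fun G => kernel.lift _ (kernel.ι (s.φ.app G) ≫ α.1.app G) (by
        rw [Category.assoc, ← NatTrans.comp_app, α.2]
        exact kernel.condition _)
      naturality := fun G G' f => by
        refine (cancel_mono (kernel.ι (s'.φ.app G'))).1 ?_
        simp [Stage.ker] }
  let a : cells Φ m s ⟶ cells Φ m s' :=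
    Functor.whiskerRight k (trunc m ⋙ Φ.mapHomologicalComplex (ComplexShape.up ℤ))
  have hk : k ≫ kerι s' = kerι s ≫ α.1 := by
    ext G : 2
    exact kernel.lift_ι _ _ _
  have hw : attach Φ π m s ≫ α.1 = a ≫ attach Φ π m s' := by
    have hc : cellsToKer Φ π m s ≫ k = a ≫ cellsToKer Φ π m s' := by
      ext G : 2
      dsimp [a]
      erw [Category.assoc, ← (truncι m).naturality (k.app G)]
      exact ((Category.assoc _ _ _).symm.trans
        (congrArg (· ≫ _) ((cov Φ π).naturality ((trunc m).map (k.app G))).symm)).trans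
        (Category.assoc _ _ _)
    dsimp only [attach]
    rw [Category.assoc, ← hk, ← Category.assoc, hc, Category.assoc]
  refine ⟨{ app := fun G => CochainComplex.mappingCone.map _ _ (a.app G) (α.1.app G)
              (congr_app hw G)
            naturality := fun G G' f => ?_ }, ?_⟩
  · dsimp [step]
    rw [← CochainComplex.mappingCone.map_comp, ← CochainComplex.mappingCone.map_comp]
    congr 1
    · exact a.naturality f
    · exact α.1.naturality f
  · ext G i : 3
    have h := congr_arg (fun φ => φ.f i) (congr_app α.2 G)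
    dsimp at h
    dsimp [step]
    rw [CochainComplex.mappingCone.ext_from_iff _ (i + 1) i rfl]
    constructor
    · simp [CochainComplex.mappingCone.map]
    · simp [CochainComplex.mappingCone.map, h]

variable {s} {G : CochainComplex B ℤ}

/-- The invariant: a degreewise epimorphism whose kernel is exact above `m`. -/
structure IsGood (s : Stage B) (G : CochainComplex B ℤ) (m : ℤ) : Prop where
  epi : ∀ i, Epi ((s.φ.app G).f i)
  exactAt : ∀ i, m < i → (kernel (s.φ.app G)).ExactAt i

lemma IsGood.step (h : IsGood s G m) : IsGood (step Φ π m s) G (m - 1) := by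
  let K := kernel (s.φ.app G)
  let T := CochainComplex.truncLE K m
  let g : (Φ.mapHomologicalComplex (ComplexShape.up ℤ)).obj T ⟶ K := (cellsToKer Φ π m s).app G
  have hepi : ∀ i, Epi ((aug Φ π m s G).f i) := fun i => by
    have := h.epi i
    exact epi_of_epi_fac (inr_f_aug Φ π m s G i)
  have hTz : ∀ i, m < i → IsZero (((Φ.mapHomologicalComplex (ComplexShape.up ℤ)).obj T).X i) :=
    fun i hi => isZero_cov_X Φ (CochainComplex.isZero_of_isStrictlyLE T m i hi)
  -- the cone of `g` is exact in degrees `≥ m`
  let S := ShortComplex.mk (CochainComplex.mappingCone.inr g)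
    (cokernel.π _) (cokernel.condition _)
  have : Mono (CochainComplex.mappingCone.inr g) :=
    HomologicalComplex.mono_of_mono_f _ fun p =>
      mono_of_mono_fac (CochainComplex.mappingCone.inr_f_snd_v g p)
  have hS : S.ShortExact := { exact := ShortComplex.exact_cokernel _ }
  have hC : ∀ i, m ≤ i → IsZero ((cokernel (CochainComplex.mappingCone.inr g)).X i) := fun i hi => by
    have hSi := hS.map_of_exact (HomologicalComplex.eval B (ComplexShape.up ℤ) i)
    have h1 : IsIso ((CochainComplex.mappingCone.inr g).f i) := by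
      refine ⟨(CochainComplex.mappingCone.snd g).v i i (add_zero i),
        CochainComplex.mappingCone.inr_f_snd_v g i, ?_⟩
      rw [CochainComplex.mappingCone.ext_from_iff _ (i + 1) i rfl]
      exact ⟨(hTz _ (by omega)).eq_of_src _ _, by simp⟩
    have h2 : (cokernel.π (CochainComplex.mappingCone.inr g)).f i = 0 := by
      rw [← cancel_epi ((CochainComplex.mappingCone.inr g).f i), ← HomologicalComplex.comp_f,
        cokernel.condition, HomologicalComplex.zero_f, comp_zero]
    have h3 : Epi ((cokernel.π (CochainComplex.mappingCone.inr g)).f i) := hSi.epi_g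
    exact (IsZero.iff_id_eq_zero _).2 ((cancel_epi
      ((cokernel.π (CochainComplex.mappingCone.inr g)).f i)).1 (by rw [h2, zero_comp, zero_comp]))
  have hcone : ∀ i, m ≤ i → (CochainComplex.mappingCone g).ExactAt i := fun i hi => by
    have h3 : IsZero ((cokernel (CochainComplex.mappingCone.inr g)).homology i) :=
      (HomologicalComplex.exactAt_iff_isZero_homology _ _).1
        ((HomologicalComplex.exactAt_iff _ _).2 (ShortComplex.exact_of_isZero_X₂ _ (hC i hi)))
    rw [HomologicalComplex.exactAt_iff_isZero_homology]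
    refine (hS.homology_exact₂ i).isZero_X₂ ?_ (h3.eq_of_tgt _ _)
    rcases hi.lt_or_eq with hi | rfl
    · exact ((HomologicalComplex.exactAt_iff_isZero_homology _ _).1 (h.exactAt i hi)).eq_of_src _ _
    · have hq : Epi (HomologicalComplex.homologyMap g m) := by
        have := CochainComplex.quasiIsoAt_ιTruncLE K m m le_rfl
        haveI : Epi (((cov Φ π).app T).f m) := inferInstanceAs (Epi (π.app (T.X m)))
        have := epi_homologyMap ((cov Φ π).app T) m (hTz _ (by omega))
          (CochainComplex.isZero_of_isStrictlyLE T m _ (by omega))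
        change Epi (HomologicalComplex.homologyMap ((cov Φ π).app T ≫ K.ιTruncLE m) m)
        rw [HomologicalComplex.homologyMap_comp]
        infer_instance
      rw [← cancel_epi (HomologicalComplex.homologyMap g m), comp_zero,
        ← HomologicalComplex.homologyMap_comp]
      refine ((HomologicalComplex.homotopyCofiber.inrCompHomotopy g
        (fun i => ⟨i - 1, by simp⟩)).homologyMap_eq m).trans ?_
      exact HomologicalComplex.homologyMap_zero _ _ _
  -- the cone of `g` is the kernel of the new augmentation
  refine ⟨hepi, fun i hi => ?_⟩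
  rw [HomologicalComplex.exactAt_iff_isZero_homology]
  have hS' := shortExact_cone g (kernel.ι (s.φ.app G)) (s.φ.app G) (kernel.condition _)
    (kernelIsKernel _) h.epi
  exact ((HomologicalComplex.exactAt_iff_isZero_homology _ _).1 (hcone i (by omega))).of_iso
    ((HomologicalComplex.homologyFunctor B _ i).mapIso
      (IsLimit.conePointUniqueUpToIso (kernelIsKernel _) hS'.fIsKernel))

lemma isZero_step_X {i : ℤ} (hi : m ≤ i) (h : IsZero ((s.P.obj G).X i)) :
    IsZero (((step Φ π m s).P.obj G).X i) :=
  (CochainComplex.mappingCone.isZero_X_iff _ i).2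
    ⟨isZero_cov_X Φ (CochainComplex.isZero_of_isStrictlyLE ((s.ker.obj G).truncLE m) m (i + 1) (by omega)), h⟩

end Groth.Agent.H16Derived.KFlat.Res
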