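import Groth.Agent.H16Derived.KFlat.LocalLift
import Groth.Agent.H16Derived.KFlat.LpullLocal

/-!
# Maps out of strictly perfect complexes are locally determined by cohomology
-/

set_option autoImplicit false
set_option linter.style.haveILetI false

universe u

open CategoryTheory CategoryTheory.Limits AlgebraicGeometry

attribute [local instance] HasDerivedCategory.standard

namespace Groth.Agent.H16Derived.KFlat.Stalk

variable {X : Scheme.{u}} {E F : CochainComplex X.Modules ℤ}

/-- A family `h` solving the homotopy equations in degrees `≥ k` on `V`. -/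
def IsPartialHomotopy (α : E ⟶ F) (V : X.Opens) (k : ℤ)
    (h : ∀ i j : ℤ, j + 1 = i → ((E.X i).restrict V.ι ⟶ (F.X j).restrict V.ι)) : Prop :=
  ∀ (l i j : ℤ) (hl : l + 1 = i) (hi : i + 1 = j), k ≤ i →
    (Scheme.Modules.restrictFunctor V.ι).map (α.f i) =
      (Scheme.Modules.restrictFunctor V.ι).map (E.d i j) ≫ h j i hi +
        h i l hl ≫ (Scheme.Modules.restrictFunctor V.ι).map (F.d l i)

lemma IsPartialHomotopy.res' {α : E ⟶ F} {V W : X.Opens} (hWV : W ≤ V) {k : ℤ}
    {h : ∀ i j : ℤ, j + 1 = i → ((E.X i).restrict V.ι ⟶ (F.X j).restrict V.ι)}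
    (hh : IsPartialHomotopy α V k h) :
    IsPartialHomotopy α W k (fun i j e => Stalk.res' hWV (h i j e)) := fun l i j hl hi hki => by
  have e := congrArg (Stalk.res' hWV) (hh l i j hl hi hki)
  rw [res'_add, res'_comp, res'_comp, res'_map, res'_map, res'_map] at e
  exact e

/-- An open on which every term of a strictly perfect complex is free. -/
theorem exists_freeNear (hE : DCoh.IsStrictlyPerfect E) (x : X) :
    ∃ V : X.Opens, x ∈ V ∧ ∀ i : ℤ, FreeNear (E.X i) V := by
  obtain ⟨⟨a, b, hab⟩, hf⟩ := hE
  choose U hU hfree using fun i : ↥(Finset.Icc a b) => (isFinLocFree_iff (E.X i)).1 (hf i) x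
  refine ⟨Finset.univ.inf U,
    by simpa [← SetLike.mem_coe, TopologicalSpace.Opens.coe_finset_inf] using hU, fun i => ?_⟩
  by_cases hi : i ∈ Finset.Icc a b
  · exact (hfree ⟨i, hi⟩).mono (Finset.inf_le (Finset.mem_univ (⟨i, hi⟩ : ↥(Finset.Icc a b))))
  · refine ⟨0, ⟨IsZero.iso ((Scheme.Modules.pullback _).map_isZero (hab i ?_)) ?_⟩⟩
    · rw [Finset.mem_Icc] at hi; omega
    · exact IsZero.of_iso (isZero_zero _) (IsZero.iso ((IsZero.iff_id_eq_zero _).2
        (Sigma.hom_ext _ _ fun j => j.elim0)) (isZero_zero _))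

/-- A map from a strictly perfect complex to a complex without cohomology in its degrees is
null homotopic near every point. -/
theorem exists_nullHomotopic (α : E ⟶ F) (hE : DCoh.IsStrictlyPerfect E) (a : ℤ)
    (hEa : ∀ i : ℤ, i < a → IsZero (E.X i)) (hF : ∀ i : ℤ, a ≤ i → IsZero (F.homology i)) (x : X) :
    ∃ (V : X.Opens) (h : ∀ i j : ℤ, j + 1 = i → ((E.X i).restrict V.ι ⟶ (F.X j).restrict V.ι)),
      x ∈ V ∧ ∀ k, IsPartialHomotopy α V k h := by
  obtain ⟨V₀, hx₀, hfree⟩ := exists_freeNear hE x
  obtain ⟨⟨_, b, hab⟩, -⟩ := hE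
  have top : ∀ k, b < k → ∃ (V : X.Opens) (_ : V ≤ V₀)
      (h : ∀ i j : ℤ, j + 1 = i → ((E.X i).restrict V.ι ⟶ (F.X j).restrict V.ι)),
      x ∈ V ∧ IsPartialHomotopy α V k h := fun k hk =>
    ⟨V₀, le_rfl, fun _ _ _ => 0, hx₀, fun l i j hl hi hki =>
      ((Scheme.Modules.restrictFunctor V₀.ι).map_isZero (hab i (Or.inr (by omega)))).eq_of_src _ _⟩
  have step : ∀ n : ℕ, ∃ (V : X.Opens) (_ : V ≤ V₀)
      (h : ∀ i j : ℤ, j + 1 = i → ((E.X i).restrict V.ι ⟶ (F.X j).restrict V.ι)),
      x ∈ V ∧ IsPartialHomotopy α V (b + 1 - n) h := by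
    intro n
    induction n with
    | zero => exact top _ (by omega)
    | succ n ih =>
      obtain ⟨V, hV₀, h, hx, hh⟩ := ih
      let i := b - n
      rw [show b + 1 - ((n + 1 : ℕ) : ℤ) = i by omega]
      rw [show b + 1 - (n : ℤ) = i + 1 by omega] at hh
      by_cases hia : i < a
      · refine ⟨V, hV₀, h, hx, fun l i' j hl hi hki => ?_⟩
        by_cases h1 : i + 1 ≤ i'
        · exact hh l i' j hl hi h1
        · exact ((Scheme.Modules.restrictFunctor V.ι).map_isZero (hEa i' (by omega))).eq_of_src _ _
      · let R := Scheme.Modules.restrictFunctor V.ι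
        let φ : (E.X i).restrict V.ι ⟶ (F.X i).restrict V.ι :=
          R.map (α.f i) - R.map (E.d i (i + 1)) ≫ h (i + 1) i rfl
        have hS : (F.sc' (i - 1) i (i + 1)).Exact := by
          rw [← HomologicalComplex.exactAt_iff' _ (i - 1) i (i + 1) (by simp) (by simp),
            HomologicalComplex.exactAt_iff_isZero_homology]
          exact hF i (by omega)
        obtain ⟨W, hWV, ψ, hxW, hψ⟩ := exists_lift_restrict hS hx ((hfree i).mono hV₀) φ (by
          show φ ≫ R.map (F.d i (i + 1)) = 0
          have e := hh i (i + 1) (i + 1 + 1) rfl rfl le_rfl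
          have e' : h (i + 1) i rfl ≫ R.map (F.d i (i + 1)) =
              R.map (α.f (i + 1)) - R.map (E.d (i + 1) (i + 1 + 1)) ≫ h (i + 1 + 1) (i + 1) rfl :=
            eq_sub_of_add_eq' e.symm
          dsimp only [φ]
          erw [Preadditive.sub_comp, Category.assoc, e', Preadditive.comp_sub, ← R.map_comp,
            ← R.map_comp, ← R.map_comp_assoc, E.d_comp_d, R.map_zero, zero_comp, sub_zero,
            α.comm, sub_self])
        let h' : ∀ p q : ℤ, q + 1 = p → ((E.X p).restrict W.ι ⟶ (F.X q).restrict W.ι) :=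
          fun p q e => if hp : p = i then
              eqToHom (by rw [hp]) ≫ ψ ≫ eqToHom (by
                show (F.X (i - 1)).restrict W.ι = _
                rw [show i - 1 = q by omega])
            else Stalk.res' hWV (h p q e)
        refine ⟨W, hWV.trans hV₀, h', hxW, fun l i' j hl hi hki => ?_⟩
        by_cases h1 : i + 1 ≤ i'
        · rw [show h' j i' hi = Stalk.res' hWV (h j i' hi) from dif_neg (by omega),
            show h' i' l hl = Stalk.res' hWV (h i' l hl) from dif_neg (by omega)]
          exact hh.res' hWV l i' j hl hi h1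
        · obtain rfl : i' = i := by omega
          obtain rfl : j = i + 1 := by omega
          obtain rfl : l = i - 1 := by omega
          rw [show h' (i + 1) i hi = Stalk.res' hWV (h (i + 1) i hi) from dif_neg (by omega),
            show h' i (i - 1) hl = ψ by
              refine (dif_pos rfl).trans ?_
              erw [eqToHom_refl, eqToHom_refl, Category.id_comp, Category.comp_id]]
          have e2 : res' hWV (R.map (α.f i)) =
              res' hWV (R.map (E.d i (i + 1)) ≫ h (i + 1) i rfl) + res' hWV φ := by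
            rw [← res'_add]; simp [φ]
          rw [res'_map, res'_comp, res'_map] at e2
          rw [e2]
          exact congrArg (_ + ·) hψ.symm
  obtain ⟨V, -, h, hx, hh⟩ := step (b + 1 - a).toNat
  refine ⟨V, h, hx, fun k l i j hl hi _ => ?_⟩
  by_cases h1 : a ≤ i
  · exact hh l i j hl hi (by omega)
  · exact ((Scheme.Modules.restrictFunctor V.ι).map_isZero (hEa i (by omega))).eq_of_src _ _

/-- The homotopy of a family solving all equations. -/
theorem nonempty_homotopy_of_partial {α : E ⟶ F} {V : X.Opens}
    {h : ∀ i j : ℤ, j + 1 = i → ((E.X i).restrict V.ι ⟶ (F.X j).restrict V.ι)}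
    (hh : ∀ k, IsPartialHomotopy α V k h) :
    Nonempty (Homotopy ((DCoh.restrictCx V).map α) 0) := by
  refine ⟨(Homotopy.ofEq ?_).trans (Homotopy.nullHomotopy'
    (C := (DCoh.restrictCx V).obj E) (D := (DCoh.restrictCx V).obj F) fun i j e => h i j e)⟩
  refine HomologicalComplex.hom_ext _ _ fun i => ?_
  rw [Homotopy.nullHomotopicMap'_f (show (ComplexShape.up ℤ).Rel (i - 1) i by simp)
    (show (ComplexShape.up ℤ).Rel i (i + 1) from rfl)]
  exact hh i (i - 1) i (i + 1) (by omega) rfl le_rfl

/-- A map from a strictly perfect complex lifts locally through a map which is bijective on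
cohomology above `a` and surjective in degree `a`. -/
theorem exists_lift_up_to_homotopy {G : CochainComplex X.Modules ℤ} (α : E ⟶ F) (f : G ⟶ F)
    (hE : DCoh.IsStrictlyPerfect E) (a : ℤ) (hEa : ∀ j : ℤ, j < a → IsZero (E.X j))
    (hf : ∀ j : ℤ, a < j → IsIso (HomologicalComplex.homologyMap f j))
    (hfa : Epi (HomologicalComplex.homologyMap f a)) (x : X) :
    ∃ (V : X.Opens) (β : (DCoh.restrictCx V).obj E ⟶ (DCoh.restrictCx V).obj G), x ∈ V ∧
      Nonempty (Homotopy (β ≫ (DCoh.restrictCx V).map f) ((DCoh.restrictCx V).map α)) := by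
  have hC : ∀ i : ℤ, a ≤ i → IsZero ((CochainComplex.mappingCone f).homology i) := by
    let T := DerivedCategory.Q.mapTriangle.obj (CochainComplex.mappingCone.triangle f)
    have key : ∀ i, IsIso ((DerivedCategory.homologyFunctor X.Modules i).map (DerivedCategory.Q.map f)) ↔
        IsIso (HomologicalComplex.homologyMap f i) := fun i =>
      NatIso.isIso_map_iff (DerivedCategory.homologyFunctorFactors X.Modules i) f
    have hle : DerivedCategory.IsLE T.obj₃ (a - 1) :=
      (isLE_cone_iff T (DerivedCategory.mappingCone_triangle_distinguished f) a).2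
        ⟨fun i hi => (key i).2 (hf i hi), by
          refine ((MorphismProperty.epimorphisms X.Modules).arrow_mk_iso_iff
            (Arrow.isoMk ((DerivedCategory.homologyFunctorFactors X.Modules a).app G)
              ((DerivedCategory.homologyFunctorFactors X.Modules a).app F)
              ((DerivedCategory.homologyFunctorFactors X.Modules a).hom.naturality f).symm)).2 hfa⟩
    intro i hi
    exact IsZero.of_iso (DerivedCategory.isZero_of_isLE T.obj₃ (a - 1) i (by omega))
      ((DerivedCategory.homologyFunctorFactors X.Modules i).app _).symm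
  obtain ⟨V, h, hx, hh⟩ := exists_nullHomotopic (α ≫ CochainComplex.mappingCone.inr f) hE a hEa hC x
  let R := Scheme.Modules.restrictFunctor V.ι
  open CochainComplex.mappingCone in
  let b : ∀ i, (E.X i).restrict V.ι ⟶ (G.X i).restrict V.ι := fun i =>
    h i (i - 1) (by omega) ≫ R.map ((fst f).1.v (i - 1) i (by omega))
  open CochainComplex.mappingCone in
  let c : ∀ i j : ℤ, j + 1 = i → ((E.X i).restrict V.ι ⟶ (F.X j).restrict V.ι) := fun i j e =>
    h i j e ≫ R.map ((snd f).v j j (add_zero j))
  have e₁ : ∀ i : ℤ, R.map (E.d i (i + 1)) ≫ b (i + 1) = b i ≫ R.map (G.d i (i + 1)) := fun i => by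
    have e := congrArg (fun t => t ≫ R.map ((CochainComplex.mappingCone.fst f).1.v i (i + 1) rfl))
      (hh i (i - 1) i (i + 1) (by omega) rfl le_rfl)
    simp only [Functor.map_comp, Category.assoc, Preadditive.add_comp] at e
    erw [← R.map_comp, ← R.map_comp, HomologicalComplex.comp_f, Category.assoc,
      CochainComplex.mappingCone.inr_f_fst_v,
      CochainComplex.mappingCone.d_fst_v f (i - 1) i (i + 1) (by omega) rfl] at e
    simp only [comp_zero, Functor.map_zero, Functor.map_neg, Functor.map_comp,
      Preadditive.comp_neg] at e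
    have e' := eq_neg_of_add_eq_zero_left e.symm
    rw [neg_neg] at e'
    have hb : ∀ (j k : ℤ) (hjk : k + 1 = j),
        b j = h j k hjk ≫ R.map ((CochainComplex.mappingCone.fst f).1.v k j hjk) := by
      intro j k hjk
      obtain rfl : k = j - 1 := by omega
      rfl
    rw [hb (i + 1) i rfl]
    show _ = (h i (i - 1) _ ≫ R.map _) ≫ _
    rw [Category.assoc]
    exact e'
  let β : (DCoh.restrictCx V).obj E ⟶ (DCoh.restrictCx V).obj G :=
    { f := b
      comm' := fun i j hij => by obtain rfl : i + 1 = j := hij; exact (e₁ i).symm }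
  refine ⟨V, β, hx, ⟨(Homotopy.ofEq ?_).trans ((Homotopy.add (Homotopy.refl ((DCoh.restrictCx V).map α))
    (Homotopy.nullHomotopy' (C := (DCoh.restrictCx V).obj E) (D := (DCoh.restrictCx V).obj F)
      fun i j e => -c i j e)).trans (Homotopy.ofEq (add_zero _)))⟩⟩
  refine HomologicalComplex.hom_ext _ _ fun i => ?_
  rw [HomologicalComplex.add_f_apply, Homotopy.nullHomotopicMap'_f
    (show (ComplexShape.up ℤ).Rel (i - 1) i by simp) (show (ComplexShape.up ℤ).Rel i (i + 1) from rfl)]
  have e := congrArg (fun t => t ≫ R.map ((CochainComplex.mappingCone.snd f).v i i (add_zero i)))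
    (hh i (i - 1) i (i + 1) (by omega) rfl le_rfl)
  simp only [Functor.map_comp, Category.assoc, Preadditive.add_comp] at e
  erw [← R.map_comp, ← R.map_comp, HomologicalComplex.comp_f, Category.assoc,
    CochainComplex.mappingCone.inr_f_snd_v,
    CochainComplex.mappingCone.d_snd_v f (i - 1) i (by omega)] at e
  simp only [Functor.map_id, Category.comp_id, Functor.map_add, Functor.map_comp,
    Preadditive.comp_add] at e
  dsimp only [β, b, c]
  show _ = R.map (α.f i) + _
  erw [e]
  show (_ ≫ _) ≫ R.map (f.f i) = _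
  dsimp [R]
  erw [Category.assoc]
  erw [Preadditive.comp_neg, Preadditive.neg_comp, Category.assoc]
  exact (fun {A : Type u} [AddCommGroup A] (p q r : A) => (by abel : p = q + (p + r) + (-q + -r))) _ _ _

end Groth.Agent.H16Derived.KFlat.Stalk
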