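import Groth.Agent.H16Derived.KFlat.PerfLift
import Groth.Agent.H16Derived.KFlat.PerfectTensor
import Groth.Agent.H16Derived.KFlat.StrictPerfCone
import Groth.Agent.H16Derived.KFlat.BoundedAbove
import Groth.Prelude.Def_DCoh3

/-!
# Local behaviour of perfect and pseudo-coherent objects
-/

set_option autoImplicit false
set_option linter.style.haveILetI false

universe u

open CategoryTheory CategoryTheory.Limits AlgebraicGeometry Pretriangulated

attribute [local instance] HasDerivedCategory.standard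

namespace Groth.Agent.H16Derived.KFlat.Stalk

variable {X U W : Scheme.{u}}

/-- Derived restriction along an open immersion. -/
noncomputable abbrev rd (j : U ⟶ X) [IsOpenImmersion j] : DCoh.D X ⥤ DCoh.D U := DCoh.restrictD j

/-- `(rd j) (Q F) ≅ Q (F|_U)`. -/
noncomputable abbrev rdQ (j : U ⟶ X) [IsOpenImmersion j] :
    DerivedCategory.Q ⋙ rd j ≅
      (Scheme.Modules.restrictFunctor j).mapHomologicalComplex (ComplexShape.up ℤ) ⋙ DerivedCategory.Q :=
  (Scheme.Modules.restrictFunctor j).mapDerivedCategoryFactors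

/-- Restricting twice. -/
noncomputable def rdComp (k : W ⟶ U) (j : U ⟶ X) (l : W ⟶ X) [IsOpenImmersion j] [IsOpenImmersion k]
    [IsOpenImmersion l] (h : k ≫ j = l) (K : DCoh.D X) :
    (rd l).obj K ≅ (rd k).obj ((rd j).obj K) :=
  (rd l).mapIso (DerivedCategory.Q.objObjPreimageIso K).symm ≪≫ (rdQ l).app _ ≪≫
    DerivedCategory.Q.mapIso ((NatIso.mapHomologicalComplex
      (Scheme.Modules.restrictFunctorCongr h.symm ≪≫ Scheme.Modules.restrictFunctorComp k j)
      (ComplexShape.up ℤ)).app _) ≪≫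
    ((rdQ k).symm.app (((Scheme.Modules.restrictFunctor j).mapHomologicalComplex
      (ComplexShape.up ℤ)).obj (DerivedCategory.Q.objPreimage K))) ≪≫
    (rd k).mapIso ((rdQ j).symm.app _ ≪≫ (rd j).mapIso (DerivedCategory.Q.objObjPreimageIso K))

/-- Restriction is right t-exact. -/
theorem isLE_rd (j : U ⟶ X) [IsOpenImmersion j] (C : DCoh.D X) (n : ℤ) [C.IsLE n] :
    DerivedCategory.IsLE ((rd j).obj C) n := by
  obtain ⟨K, hK, ⟨e⟩⟩ := C.exists_iso_Q_obj_of_isLE n
  haveI := hK
  haveI : CochainComplex.IsStrictlyLE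
      (((Scheme.Modules.restrictFunctor j).mapHomologicalComplex (ComplexShape.up ℤ)).obj K) n :=
    (CochainComplex.isStrictlyLE_iff _ _).2 fun i hi =>
      (Scheme.Modules.restrictFunctor j).map_isZero (K.isZero_of_isStrictlyLE n i hi)
  rw [DerivedCategory.isLE_iff]
  intro i hi
  exact IsZero.of_iso (DerivedCategory.isZero_of_isLE (DerivedCategory.Q.obj
      (((Scheme.Modules.restrictFunctor j).mapHomologicalComplex (ComplexShape.up ℤ)).obj K)) n i hi)
    ((DerivedCategory.homologyFunctor U.Modules i).mapIso ((rd j).mapIso e ≪≫ (rdQ j).app K))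

/-- Being strictly perfect is invariant under isomorphism. -/
theorem isStrictlyPerfect_of_iso {E F : CochainComplex X.Modules ℤ} (e : E ≅ F)
    (hE : DCoh.IsStrictlyPerfect E) : DCoh.IsStrictlyPerfect F := by
  obtain ⟨⟨a, b, h⟩, hf⟩ := hE
  exact ⟨⟨a, b, fun i hi => (h i hi).of_iso ((HomologicalComplex.eval _ _ i).mapIso e.symm)⟩,
    fun i => isFinLocFree_of_iso ((HomologicalComplex.eval _ _ i).mapIso e) (hf i)⟩

/-- The restriction of a strictly perfect complex is strictly perfect. -/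
theorem isStrictlyPerfect_rd (j : U ⟶ X) [IsOpenImmersion j] {E : CochainComplex X.Modules ℤ}
    (hE : DCoh.IsStrictlyPerfect E) :
    DCoh.IsStrictlyPerfect
      (((Scheme.Modules.restrictFunctor j).mapHomologicalComplex (ComplexShape.up ℤ)).obj E) :=
  isStrictlyPerfect_of_iso ((NatIso.mapHomologicalComplex
    (Scheme.Modules.restrictFunctorIsoPullback j).symm (ComplexShape.up ℤ)).app E)
    (isStrictlyPerfect_pullback j hE)

section Approx

variable {A : Type*} [Category A] [Abelian A] [HasDerivedCategory A] {L M N : DerivedCategory A}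

/-- `α` is bijective on cohomology above `m` and surjective in degree `m`. -/
def Approx (m : ℤ) (α : M ⟶ N) : Prop :=
  (∀ i : ℤ, m < i → IsIso ((DerivedCategory.homologyFunctor A i).map α)) ∧
    Epi ((DerivedCategory.homologyFunctor A m).map α)

theorem Approx.of_isIso (m : ℤ) (α : M ⟶ N) [IsIso α] : Approx m α :=
  ⟨fun _ _ => inferInstance, inferInstance⟩

theorem Approx.comp {m : ℤ} {α : L ⟶ M} {β : M ⟶ N} (hα : Approx m α) (hβ : Approx m β) :
    Approx m (α ≫ β) := by
  refine ⟨fun i hi => ?_, ?_⟩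
  · haveI := hα.1 i hi; haveI := hβ.1 i hi; rw [Functor.map_comp]; infer_instance
  · haveI := hα.2; haveI := hβ.2; rw [Functor.map_comp]; infer_instance

theorem Approx.mono {m m' : ℤ} {α : M ⟶ N} (h : Approx m α) (hm : m ≤ m') : Approx m' α := by
  refine ⟨fun i hi => h.1 i (by omega), ?_⟩
  rcases eq_or_lt_of_le hm with rfl | hlt
  · exact h.2
  · haveI := h.1 m' hlt; infer_instance

theorem approx_iff {T : Triangle (DerivedCategory A)} (hT : T ∈ distTriang (DerivedCategory A))
    (m : ℤ) : Approx m T.mor₁ ↔ DerivedCategory.IsLE T.obj₃ (m - 1) :=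
  (isLE_cone_iff T hT m).symm

/-- The third maps of the triangle of `α ≫ β`. -/
theorem approx_of_octahedron₂ {Z₁₂ Z₁₃ Z₂₃ : DerivedCategory A} {α : L ⟶ M} {β : M ⟶ N}
    {γ : L ⟶ N} (comm : α ≫ β = γ) {v₁₂ : M ⟶ Z₁₂} {w₁₂ : Z₁₂ ⟶ L⟦(1 : ℤ)⟧}
    (h₁₂ : Triangle.mk α v₁₂ w₁₂ ∈ distTriang (DerivedCategory A))
    {v₂₃ : N ⟶ Z₂₃} {w₂₃ : Z₂₃ ⟶ M⟦(1 : ℤ)⟧}
    (h₂₃ : Triangle.mk β v₂₃ w₂₃ ∈ distTriang (DerivedCategory A))
    {v₁₃ : N ⟶ Z₁₃} {w₁₃ : Z₁₃ ⟶ L⟦(1 : ℤ)⟧}
    (h₁₃ : Triangle.mk γ v₁₃ w₁₃ ∈ distTriang (DerivedCategory A)) {m : ℤ} :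
    (Approx m β → ∃ g : Z₁₂ ⟶ Z₁₃, Approx m g) ∧
      (Approx (m + 1) α → ∃ g : Z₁₃ ⟶ Z₂₃, Approx m g) := by
  obtain ⟨o⟩ : Nonempty (Triangulated.Octahedron comm h₁₂ h₂₃ h₁₃) :=
    ⟨Triangulated.someOctahedron comm h₁₂ h₂₃ h₁₃⟩
  refine ⟨fun hβ => ⟨o.m₁, (approx_iff o.mem m).2 ?_⟩,
    fun hα => ⟨o.m₃, (approx_iff (rot_of_distTriang _ o.mem) m).2 ?_⟩⟩
  · exact (approx_iff h₂₃ m).1 hβ
  · haveI : DerivedCategory.IsLE Z₁₂ (m + 1 - 1) := (approx_iff h₁₂ (m + 1)).1 hα
    exact (DerivedCategory.TStructure.t).isLE_shift Z₁₂ (m + 1 - 1) 1 (m - 1)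

end Approx

/-- Approximations restrict. -/
theorem Approx.map_rd (j : U ⟶ X) [IsOpenImmersion j] {m : ℤ} {M N : DCoh.D X} {α : M ⟶ N}
    (h : Approx m α) : Approx m ((rd j).map α) := by
  obtain ⟨C, β, γ, hT⟩ := distinguished_cocone_triangle α
  haveI : DerivedCategory.IsLE C (m - 1) := (approx_iff hT m).1 h
  exact (approx_iff ((rd j).map_distinguished _ hT) m).2 (isLE_rd j C (m - 1))

/-- Homotopic maps agree in the derived category. -/
theorem Q_map_eq {A B : CochainComplex X.Modules ℤ} {f g : A ⟶ B} (h : Homotopy f g) :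
    DerivedCategory.Q.map f = DerivedCategory.Q.map g := by
  have e := congrArg DerivedCategory.Qh.map (HomotopyCategory.eq_of_homotopy f g h)
  rw [← cancel_epi ((DerivedCategory.quotientCompQhIso X.Modules).hom.app A),
    ← (DerivedCategory.quotientCompQhIso X.Modules).hom.naturality,
    ← (DerivedCategory.quotientCompQhIso X.Modules).hom.naturality]
  exact congrArg (· ≫ _) e

/-- Replacing a strictly perfect complex by its brutal truncation. -/
theorem exists_trunc {E : CochainComplex X.Modules ℤ} (hE : DCoh.IsStrictlyPerfect E) (a : ℤ) :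
    ∃ (E' : CochainComplex X.Modules ℤ) (ι : E' ⟶ E), DCoh.IsStrictlyPerfect E' ∧
      (∀ i, i < a → IsZero (E'.X i)) ∧ Approx a (DerivedCategory.Q.map ι) := by
  obtain ⟨⟨a₀, b₀, hab⟩, hf⟩ := hE
  refine ⟨Brutal.geq E a, Brutal.ι E a, ⟨⟨a₀, b₀, fun i hi => ?_⟩, fun i => ?_⟩,
    fun i hi => Brutal.isZero_geq E a hi, ?_⟩
  · by_cases h : a ≤ i
    · haveI := Brutal.isIso_ι_f E a h
      exact (hab i hi).of_iso (asIso ((Brutal.ι E a).f i))
    · exact Brutal.isZero_geq E a (not_le.1 h)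
  · by_cases h : a ≤ i
    · haveI := Brutal.isIso_ι_f E a h
      exact isFinLocFree_of_iso (asIso ((Brutal.ι E a).f i)).symm (hf i)
    · have h0 := Brutal.isZero_geq E a (not_le.1 h)
      have hz : IsZero (E.X (b₀ + 1)) := hab _ (Or.inr (by omega))
      exact isFinLocFree_of_iso (hz.iso h0) (hf _)
  · have hop := Brutal.shortExact E a
    have hzero : ∀ i : ℤ, a ≤ i → IsZero ((Brutal.S E a).X₃.homology i) := fun i hi => by
      rw [← HomologicalComplex.exactAt_iff_isZero_homology]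
      exact ShortComplex.exact_of_isZero_X₂ _ (Brutal.isZero_cokernel E a hi)
    have key : ∀ i, a < i → IsIso (HomologicalComplex.homologyMap (Brutal.ι E a) i) := fun i hi => by
      haveI : Mono (HomologicalComplex.homologyMap (Brutal.ι E a) i) :=
        (hop.homology_exact₁ (i - 1) i (by simp)).mono_g ((hzero (i - 1) (by omega)).eq_of_src _ _)
      haveI : Epi (HomologicalComplex.homologyMap (Brutal.ι E a) i) :=
        (hop.homology_exact₂ i).epi_f ((hzero i hi.le).eq_of_tgt _ _)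
      exact isIso_of_mono_of_epi _
    refine ⟨fun i hi => ?_, ?_⟩
    · exact (NatIso.isIso_map_iff (DerivedCategory.homologyFunctorFactors X.Modules i) _).2 (key i hi)
    · exact ((MorphismProperty.epimorphisms X.Modules).arrow_mk_iso_iff
        (Arrow.isoMk ((DerivedCategory.homologyFunctorFactors X.Modules a).app _)
          ((DerivedCategory.homologyFunctorFactors X.Modules a).app _)
          ((DerivedCategory.homologyFunctorFactors X.Modules a).hom.naturality _).symm)).2
        ((hop.homology_exact₂ a).epi_f ((hzero a le_rfl).eq_of_tgt _ _))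

/-- Maps out of a strictly perfect complex lift locally through approximations. -/
theorem exists_lift {P S : CochainComplex X.Modules ℤ} {L : DCoh.D X}
    (hP : DCoh.IsStrictlyPerfect P) (a : ℤ) (ha : ∀ i, i < a → IsZero (P.X i))
    (b : DerivedCategory.Q.obj S ⟶ L) (hb : Approx a b) (g : DerivedCategory.Q.obj P ⟶ L) (x : X) :
    ∃ (V : X.Opens) (β : (DCoh.restrictCx V).obj P ⟶ (DCoh.restrictCx V).obj S), x ∈ V ∧
      (rdQ V.ι).hom.app P ≫ DerivedCategory.Q.map β ≫ (rdQ V.ι).inv.app S ≫ (rd V.ι).map b =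
        (rd V.ι).map g := by
  let e := DerivedCategory.Q.objObjPreimageIso L
  obtain ⟨G, b₀, s, hs, hbs⟩ := DerivedCategory.left_fac (b ≫ e.inv)
  obtain ⟨G', g₀, t, ht, hgt⟩ := DerivedCategory.left_fac (g ≫ e.inv ≫ DerivedCategory.Q.map s)
  haveI := hs
  haveI := ht
  let η := e.inv ≫ DerivedCategory.Q.map s ≫ DerivedCategory.Q.map t
  have hb' : DerivedCategory.Q.map (b₀ ≫ t) = b ≫ η := by
    rw [Functor.map_comp]
    simp [η, reassoc_of% hbs]
  have hg' : DerivedCategory.Q.map g₀ = g ≫ η := by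
    simp [η, reassoc_of% hgt]
  have happ : Approx a (DerivedCategory.Q.map (b₀ ≫ t)) := hb' ▸ hb.comp (Approx.of_isIso a η)
  obtain ⟨V, β, hx, ⟨H⟩⟩ := exists_lift_up_to_homotopy g₀ (b₀ ≫ t) hP a ha
    (fun j hj => (NatIso.isIso_map_iff (DerivedCategory.homologyFunctorFactors X.Modules j) _).1
      (happ.1 j hj))
    (((MorphismProperty.epimorphisms X.Modules).arrow_mk_iso_iff
      (Arrow.isoMk ((DerivedCategory.homologyFunctorFactors X.Modules a).app _)
        ((DerivedCategory.homologyFunctorFactors X.Modules a).app _)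
        ((DerivedCategory.homologyFunctorFactors X.Modules a).hom.naturality _).symm)).1 happ.2) x
  refine ⟨V, β, hx, ?_⟩
  rw [← cancel_mono ((rd V.ι).map η)]
  simp only [Category.assoc, ← Functor.map_comp, ← hb', ← hg']
  have nb := (rdQ V.ι).inv.naturality (b₀ ≫ t)
  have ng := (rdQ V.ι).hom.naturality g₀
  dsimp at nb ng
  rw [← nb, ← Functor.map_comp_assoc, Q_map_eq H]
  erw [← reassoc_of% ng, Iso.hom_inv_id_app, Category.comp_id]

end Groth.Agent.H16Derived.KFlat.Stalk
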